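import Groth.Agent.CAlgReg.AusBuch
import Groth.Agent.Depth.CM
import Groth.Agent.S0564
import Groth.Prelude.Def_W4bk5brsh7111920

/-!
# Projective dimension and adjusted depth over a regular local ring
-/

universe u

open CategoryTheory LocCoh IsLocalRing

namespace Groth.Agent.LocCohBasic

variable {R : Type u} [CommRing R] [IsRegularLocalRing R]

lemma isCohenMacaulayLocalRing_of_isRegularLocalRing : IsCohenMacaulayLocalRing R := by
  obtain ⟨d, hd⟩ := CAlgReg.exists_dim (R := R)
  rw [Depth.isCohenMacaulayLocalRing_iff, CAlgReg.depth_self_eq_dim hd, hd]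
  rfl

/-- `pd M ≤ t` as soon as `dim R ≤ depth M + t`. -/
lemma hasProjectiveDimensionLE_of_depth (M : Type u) [AddCommGroup M] [Module R M]
    [Module.Finite R M] {d t : ℕ} (hd : ringKrullDim R = d)
    (h : (d : ℕ∞) ≤ depth R M + t) : HasProjectiveDimensionLE (ModuleCat.of R M) t := by
  rcases subsingleton_or_nontrivial M with hM | hM
  · exact CAlgReg.pdLT_mono (Nat.zero_le (t + 1)) ((ModuleCat.isZero_of_subsingleton (ModuleCat.of R M)).hasProjectiveDimensionLT_zero)
  classical
  have hex : ∃ e, CAlgReg.PdLT R M (e + 1) := ⟨d, CAlgReg.pdLT_of_isRegularLocalRing hd M⟩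
  have hspec := Nat.find_spec hex
  have hnot : ¬ CAlgReg.PdLT R M (Nat.find hex) := by
    cases hf : Nat.find hex with
    | zero =>
      intro h0
      have := (hasProjectiveDimensionLT_zero_iff_isZero (ModuleCat.of R M)).mp h0
      exact not_subsingleton M (ModuleCat.subsingleton_of_isZero this)
    | succ n => exact Nat.find_min hex (by omega)
  have hAB := CAlgReg.auslander_buchsbaum_aux _ M hspec hnot
  rw [CAlgReg.depth_self_eq_dim hd] at hAB
  have hfin : depth R M ≠ ⊤ := Depth.depth_ne_top
  obtain ⟨n, hn⟩ := ENat.ne_top_iff_exists.mp hfin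
  rw [← hn, ← Nat.cast_add, Nat.cast_le] at h
  rw [← hn, ← Nat.cast_add, Nat.cast_inj] at hAB
  exact CAlgReg.pdLT_mono (show Nat.find hex + 1 ≤ t + 1 by omega) hspec

/-- The dimension formula in a regular local ring. -/
lemma height_add_height_quotient (p : Ideal R) [p.IsPrime] {d : ℕ} (hd : ringKrullDim R = d) :
    p.height + ((maximalIdeal R).map (Ideal.Quotient.mk p)).height = d := by
  have : IsCohenMacaulayLocalRing R := isCohenMacaulayLocalRing_of_isRegularLocalRing
  have := Depth.isCohenMacaulayRing_of_local (R := R)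
  have h := Depth.supportDim_eq_quotient_add_idealDepth R Depth.isCohenMacaulayModule_self
    (I := p) (le_maximalIdeal ‹p.IsPrime›.ne_top)
  rw [Depth.idealDepth_eq_height, Module.supportDim_self_eq_ringKrullDim, hd, Ideal.smul_top_eq_map,
    Algebra.algebraMap_self, Ideal.map_id, Submodule.restrictScalars_self,
    Module.supportDim_quotient_eq_ringKrullDim] at h
  have : Nontrivial (R ⧸ p) := Ideal.Quotient.nontrivial_iff.mpr ‹p.IsPrime›.ne_top
  have : IsLocalRing (R ⧸ p) := IsLocalRing.of_surjective' _ Ideal.Quotient.mk_surjective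
  have hmax : (maximalIdeal R).map (Ideal.Quotient.mk p) = maximalIdeal (R ⧸ p) :=
    IsLocalRing.map_maximalIdeal_of_surjective _ Ideal.Quotient.mk_surjective
  rw [← IsLocalRing.maximalIdeal_height_eq_ringKrullDim, ← hmax, ← WithBot.coe_add] at h
  rw [add_comm]
  exact (WithBot.coe_inj.mp (h.symm.trans rfl))

/-- The bad locus avoids primes not containing `b`. -/
theorem le_vanishingIdeal_of_minAdjDepth {d : ℕ} (hd : ringKrullDim R = d) (M : Type u)
    [AddCommGroup M] [Module R M] [Module.Finite R M] (b : Ideal R) (t : ℕ)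
    (ht : (d : ℕ∞) ≤ (t : ℕ∞) + minAdjDepth (maximalIdeal R) b M) :
    b ≤ PrimeSpectrum.vanishingIdeal {p : PrimeSpectrum R | ¬ HasProjectiveDimensionLE
      (ModuleCat.of (Localization.AtPrime p.asIdeal)
        (LocalizedModule p.asIdeal.primeCompl M)) t} := by
  intro x hx
  rw [PrimeSpectrum.mem_vanishingIdeal]
  intro p hp
  by_contra hxp
  refine hp ?_
  have hbp : ¬ b ≤ p.asIdeal := fun h => hxp (h hx)
  have hadj : (d : ℕ∞) ≤ (t : ℕ∞) + adjDepth (maximalIdeal R) M p :=
    ht.trans (add_le_add le_rfl (iInf₂_le p hbp))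
  have hsup : maximalIdeal R ⊔ p.asIdeal = maximalIdeal R :=
    sup_of_le_left (le_maximalIdeal p.isPrime.ne_top)
  rw [adjDepth, hsup, ← height_add_height_quotient p.asIdeal hd, ← add_assoc] at hadj
  have := S0564.result R p.asIdeal
  obtain ⟨k, hk⟩ := ENat.ne_top_iff_exists.mp (Ideal.height_ne_top_of_isPrime (I := p.asIdeal))
  have hcancel : (k : ℕ∞) ≤ depth (Localization.AtPrime p.asIdeal)
      (LocalizedModule p.asIdeal.primeCompl M) + t := by
    rw [← hk, add_comm (t : ℕ∞)] at hadj
    refine (ENat.add_le_add_iff_right ?_).mp hadj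
    intro htop
    have := height_add_height_quotient p.asIdeal hd
    rw [htop, add_top] at this
    exact ENat.top_ne_natCast d this
  refine hasProjectiveDimensionLE_of_depth _ (d := k) ?_ hcancel
  rw [IsLocalization.AtPrime.ringKrullDim_eq_height p.asIdeal (Localization.AtPrime p.asIdeal), ← hk]
  rfl

end Groth.Agent.LocCohBasic
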