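import Mathlib.CategoryTheory.Abelian.Ext
import Mathlib.CategoryTheory.Abelian.Projective.Ext
import Mathlib.Algebra.Homology.DerivedCategory.Ext.Linear
import Mathlib.Algebra.Homology.ConcreteCategory
import Mathlib.Algebra.Homology.ShortComplex.ModuleCat
import Mathlib.Algebra.Homology.Opposite

/-!
# The two `Ext`s of Mathlib agree

`CategoryTheory.Ext` (left derived functors of Hom) and `CategoryTheory.Abelian.Ext`
(derived category) are isomorphic as bifunctors.
-/

universe t v u

open CategoryTheory Limits Opposite HomologicalComplex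

namespace Groth.Agent.LocCohBasic

section Opposite

variable {ι : Type*} {c : ComplexShape ι} {V : Type*} [Category V] [Abelian V]

lemma homologyUnop_naturality {K L : HomologicalComplex Vᵒᵖ c} (φ : K ⟶ L) (i : ι) :
    homologyMap ((unopFunctor V c).map φ.op) i ≫ (homologyUnop K i).hom =
      (homologyUnop L i).hom ≫ (homologyMap φ i).unop := by
  apply Quiver.Hom.op_inj
  exact (homologyOp_hom_naturality ((unopFunctor V c).map φ.op) i).symm

lemma homologyUnop_inv_naturality {K L : HomologicalComplex Vᵒᵖ c} (φ : K ⟶ L) (i : ι) :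
    (homologyMap φ i).unop ≫ (homologyUnop K i).inv =
      (homologyUnop L i).inv ≫ homologyMap ((unopFunctor V c).map φ.op) i := by
  apply (cancel_epi (homologyUnop L i).hom).mp
  refine ((Category.assoc _ _ _).symm.trans ?_).trans
    (Iso.hom_inv_id_assoc (homologyUnop L i) _).symm
  refine (congrArg (· ≫ _) (homologyUnop_naturality φ i).symm).trans ?_
  exact (Category.assoc _ _ _).trans ((congrArg (_ ≫ ·) (Iso.hom_inv_id _)).trans
    (Category.comp_id _))

end Opposite

section Cat

variable {D : Type*} [Category D]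

lemma comp_square_right {A' B' : Dᵒᵖ} {G G' : Dᵒᵖ} {U V : D} {x : B' ⟶ G'} {y : G' ⟶ G}
    {z : G ⟶ A'} {b : unop B' ⟶ unop G'} {u : unop G' ⟶ U} {v : unop G ⟶ V} {w : V ⟶ U}
    (hb : x.unop ≫ b = 𝟙 _) (hm : y.unop ≫ u = v ≫ w) :
    (x ≫ y ≫ z).unop ≫ (b ≫ u) = (z.unop ≫ v) ≫ w := by
  simp [reassoc_of% hb, hm]

lemma comp_square_left {A B H H' U V : D} {L : A ⟶ B} {p : B ⟶ H'} {q : A ⟶ H} {m : H ⟶ H'}
    {u : H' ⟶ U} {v : H ⟶ V} {w : V ⟶ U} (hL : L ≫ p = q ≫ m) (hm : m ≫ u = v ≫ w) :
    L ≫ (p ≫ u) = (q ≫ v) ≫ w := by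
  simp [reassoc_of% hL, hm]

end Cat

noncomputable section

variable (R : Type t) [CommRing R] (C : Type u) [Category.{v} C] [Abelian C] [Linear R C]
  [HasExt.{v} C]

/-- `Abelian.Ext` as a bifunctor with values in `R`-modules. -/
def abExt (n : ℕ) : Cᵒᵖ ⥤ C ⥤ ModuleCat.{v} R where
  obj X :=
    { obj := fun Y => ModuleCat.of R (Abelian.Ext X.unop Y n)
      map := fun g => ModuleCat.ofHom
        { toFun := fun x => x.comp (Abelian.Ext.mk₀ g) (add_zero n)
          map_add' := fun x y => by simp
          map_smul' := fun r x => by simp } }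
  map f :=
    { app := fun Y => ModuleCat.ofHom
        { toFun := fun x => (Abelian.Ext.mk₀ f.unop).comp x (zero_add n)
          map_add' := fun x y => by simp
          map_smul' := fun r x => by simp }
      naturality := fun Y Y' g => by
        ext x
        exact (Abelian.Ext.comp_assoc (Abelian.Ext.mk₀ f.unop) x (Abelian.Ext.mk₀ g)
          (zero_add n) (add_zero n) (by omega)).symm }
  map_id X := by ext Y x; exact Abelian.Ext.mk₀_id_comp x
  map_comp f g := by
    ext Y x
    simp only [unop_comp, NatTrans.comp_app, ModuleCat.hom_comp, ModuleCat.hom_ofHom,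
      LinearMap.coe_comp, Function.comp_apply, LinearMap.coe_mk, AddHom.coe_mk]
    rw [← Abelian.Ext.mk₀_comp_mk₀, Abelian.Ext.comp_assoc _ _ _ (zero_add 0) (zero_add n) (by simp)]

variable {R C}

section Resolution

variable {X : C} (P : ProjectiveResolution X) (Y : C) (n : ℕ)

omit [HasExt.{v} C] in
lemma linearYonedaObj_d_apply (i j : ℕ) (f : P.complex.X i ⟶ Y) :
    (P.complex.linearYonedaObj R Y).d i j f = P.complex.d j i ≫ f := rfl

/-- A cocycle of `Hom(P, Y)` gives an element of `Ext`. -/
def cyclesToExt :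
    (P.complex.linearYonedaObj R Y).cycles n ⟶ ((abExt R C n).obj (op X)).obj Y :=
  ModuleCat.ofHom
    { toFun := fun z => P.extMk ((P.complex.linearYonedaObj R Y).iCycles n z) (n + 1) rfl
        (by
          rw [← linearYonedaObj_d_apply (R := R), ← ModuleCat.comp_apply, iCycles_d]
          rfl)
      map_add' := fun a b => by
        rw [P.add_extMk]
        congr 1
        exact map_add _ a b
      map_smul' := fun r a => by
        have h := P.extMk_comp_mk₀ ((P.complex.linearYonedaObj R Y).iCycles n a) (n + 1) rfl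
          (by rw [← linearYonedaObj_d_apply (R := R), ← ModuleCat.comp_apply, iCycles_d]; rfl)
          (r • 𝟙 Y)
        rw [← Abelian.Ext.smul_eq_comp_mk₀] at h
        refine Eq.trans ?_ h.symm
        congr 1
        refine (LinearMap.map_smul ((P.complex.linearYonedaObj R Y).iCycles n).hom r a).trans ?_
        exact ((Linear.comp_smul (R := R) _ Y Y ((P.complex.linearYonedaObj R Y).iCycles n a) r (𝟙 Y)).trans (by rw [Category.comp_id]; rfl)).symm }

lemma cyclesToExt_apply (z : (P.complex.linearYonedaObj R Y).cycles n) :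
    cyclesToExt P Y n z = P.extMk ((P.complex.linearYonedaObj R Y).iCycles n z) (n + 1) rfl
      (by rw [← linearYonedaObj_d_apply (R := R), ← ModuleCat.comp_apply, iCycles_d]; rfl) := rfl

lemma iCycles_injective (K : CochainComplex (ModuleCat.{v} R) ℕ) (n : ℕ) :
    Function.Injective (K.iCycles n) :=
  (ModuleCat.mono_iff_injective _).mp inferInstance

lemma extMk_d_comp (i : ℕ) (g : P.complex.X i ⟶ Y) :
    P.extMk (P.complex.d n i ≫ g) (n + 1) rfl (by simp) = 0 := by
  by_cases h : (ComplexShape.down ℕ).Rel n i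
  · obtain rfl : i + 1 = n := h
    rw [P.extMk_eq_zero_iff _ _ _ _ i rfl]
    exact ⟨g, rfl⟩
  · simp [P.complex.shape _ _ h]

lemma eq_zero_of_extMk_zero (f : P.complex.X 0 ⟶ Y) (hf : P.complex.d 1 0 ≫ f = 0)
    (h : P.extMk f 1 rfl hf = 0) : f = 0 := by
  simp only [← (P.extEquivCohomologyClass).apply_eq_iff_eq,
    ProjectiveResolution.extEquivCohomologyClass_extMk,
    ProjectiveResolution.extEquivCohomologyClass_zero,
    CochainComplex.HomComplex.CohomologyClass.mk_eq_zero_iff] at h
  rw [CochainComplex.HomComplex.Cocycle.toSingleMk_mem_coboundaries_iff _ _ _ _ _ 1 (by simp)] at h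
  obtain ⟨g, hg⟩ := h
  have hd : P.cochainComplex.d (-((0 : ℕ) : ℤ)) 1 = 0 :=
    (P.cochainComplex.isZero_of_isStrictlyLE 0 1 (by simp)).eq_of_tgt _ _
  rw [hd, zero_comp] at hg
  exact (cancel_epi (P.cochainComplexXIso (-((0 : ℕ) : ℤ)) 0 rfl).hom).mp
    (hg.symm.trans comp_zero.symm)

lemma exists_of_extMk_zero (k : ℕ) (f : P.complex.X (k + 1) ⟶ Y)
    (hf : P.complex.d (k + 1 + 1) (k + 1) ≫ f = 0) (h : P.extMk f (k + 1 + 1) rfl hf = 0) :
    ∃ g : P.complex.X k ⟶ Y, P.complex.d (k + 1) k ≫ g = f :=
  (P.extMk_eq_zero_iff f _ rfl hf k rfl).mp h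

lemma toCycles_cyclesToExt :
    (P.complex.linearYonedaObj R Y).toCycles ((ComplexShape.up ℕ).prev n) n ≫
      cyclesToExt P Y n = 0 := by
  ext g
  change cyclesToExt P Y n ((P.complex.linearYonedaObj R Y).toCycles _ n g) = 0
  have h : (P.complex.linearYonedaObj R Y).iCycles n
      ((P.complex.linearYonedaObj R Y).toCycles ((ComplexShape.up ℕ).prev n) n g) =
      P.complex.d n ((ComplexShape.up ℕ).prev n) ≫ g := by
    rw [← ModuleCat.comp_apply, toCycles_i]
    rfl
  refine Eq.trans ?_ (extMk_d_comp P Y n _ g)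
  rw [cyclesToExt_apply]
  congr 1

lemma cyclesToExt_surjective : Function.Surjective (cyclesToExt (R := R) P Y n) := by
  intro α
  obtain ⟨f, hf, rfl⟩ := P.extMk_surjective α (n + 1) rfl
  refine ⟨(P.complex.linearYonedaObj R Y).cyclesMk f (n + 1) (by simp) hf, ?_⟩
  rw [cyclesToExt_apply]
  congr 1
  exact (P.complex.linearYonedaObj R Y).i_cyclesMk f (n + 1) (by simp) hf

lemma cyclesToExt_eq_zero (z : (P.complex.linearYonedaObj R Y).cycles n)
    (hz : cyclesToExt P Y n z = 0) : (P.complex.linearYonedaObj R Y).homologyπ n z = 0 := by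
  cases n with
  | zero =>
    suffices z = 0 by rw [this, map_zero]
    apply iCycles_injective
    rw [map_zero]
    exact eq_zero_of_extMk_zero P Y _
      (by rw [← linearYonedaObj_d_apply (R := R), ← ModuleCat.comp_apply, iCycles_d]; rfl) hz
  | succ k =>
    obtain ⟨g, hg⟩ := exists_of_extMk_zero P Y k _
      (by rw [← linearYonedaObj_d_apply (R := R), ← ModuleCat.comp_apply, iCycles_d]; rfl) hz
    have : z = (P.complex.linearYonedaObj R Y).toCycles k (k + 1) g := by
      apply iCycles_injective
      rw [← ModuleCat.comp_apply ((P.complex.linearYonedaObj R Y).toCycles k (k + 1)), toCycles_i]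
      exact hg.symm
    rw [this, ← ModuleCat.comp_apply, toCycles_comp_homologyπ]
    rfl

/-- The comparison map from the cohomology of `Hom(P, Y)` to `Ext`. -/
def homologyToExt :
    (P.complex.linearYonedaObj R Y).homology n ⟶ ((abExt R C n).obj (op X)).obj Y :=
  ((P.complex.linearYonedaObj R Y).homologyIsCokernel ((ComplexShape.up ℕ).prev n) n rfl).desc
    (CokernelCofork.ofπ (cyclesToExt P Y n) (toCycles_cyclesToExt P Y n))

lemma π_homologyToExt :
    (P.complex.linearYonedaObj R Y).homologyπ n ≫ homologyToExt P Y n = cyclesToExt P Y n :=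
  Cofork.IsColimit.π_desc
    ((P.complex.linearYonedaObj R Y).homologyIsCokernel ((ComplexShape.up ℕ).prev n) n rfl)

instance : IsIso (homologyToExt (R := R) P Y n) := by
  apply (ConcreteCategory.isIso_iff_bijective _).mpr
  constructor
  · refine (injective_iff_map_eq_zero _).mpr fun x hx => ?_
    obtain ⟨z, rfl⟩ := (ModuleCat.epi_iff_surjective
      ((P.complex.linearYonedaObj R Y).homologyπ n)).mp inferInstance x
    rw [← ModuleCat.comp_apply, π_homologyToExt] at hx
    exact cyclesToExt_eq_zero P Y n z hx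
  · intro α
    obtain ⟨z, hz⟩ := cyclesToExt_surjective (R := R) P Y n α
    refine ⟨(P.complex.linearYonedaObj R Y).homologyπ n z, ?_⟩
    rw [← ModuleCat.comp_apply, π_homologyToExt, hz]

end Resolution

section Bifunctor

variable [EnoughProjectives C]

/-- The chain map `Hom(Q, Y) ⟶ Hom(P, Y)` induced by `φ : P ⟶ Q`. -/
def precompMap {P Q : ChainComplex C ℕ} (φ : P ⟶ Q) (Y : C) :
    Q.linearYonedaObj R Y ⟶ P.linearYonedaObj R Y :=
  (unopFunctor _ _).map
    ((((linearYoneda R C).obj Y).rightOp.mapHomologicalComplex _).map φ).op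

/-- The chain map `Hom(P, Y) ⟶ Hom(P, Y')` induced by `g : Y ⟶ Y'`. -/
def postcompMap (P : ChainComplex C ℕ) {Y Y' : C} (g : Y ⟶ Y') :
    P.linearYonedaObj R Y ⟶ P.linearYonedaObj R Y' :=
  (unopFunctor _ _).map
    ((NatTrans.mapHomologicalComplex (NatTrans.rightOp ((linearYoneda R C).map g)) _).app P).op

/-- Comparison at a resolution. -/
def extIsoAt {X : C} (P : ProjectiveResolution X) (Y : C) (n : ℕ) :
    ((Ext R C n).obj (op X)).obj Y ≅ ((abExt R C n).obj (op X)).obj Y :=
  P.isoExt n Y ≪≫ asIso (homologyToExt P Y n)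

omit [HasExt.{v} C] in
lemma isoExt_hom_naturality_right {X : C} (P : ProjectiveResolution X) {Y Y' : C} (g : Y ⟶ Y')
    (n : ℕ) :
    ((Ext R C n).obj (op X)).map g ≫ (P.isoExt n Y').hom =
      (P.isoExt (R := R) n Y).hom ≫ homologyMap (postcompMap P.complex g) n := by
  show ((NatTrans.leftDerived (NatTrans.rightOp ((linearYoneda R C).map g)) n).app X).unop ≫
      ((P.isoLeftDerivedObj ((linearYoneda R C).obj Y').rightOp n).inv.unop ≫
        (homologyUnop _ n).inv) =
    ((P.isoLeftDerivedObj ((linearYoneda R C).obj Y).rightOp n).inv.unop ≫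
        (homologyUnop _ n).inv) ≫ homologyMap _ n
  refine (congrArg (fun z => Quiver.Hom.unop z ≫ _)
    (ProjectiveResolution.leftDerived_app_eq _ P n)).trans ?_
  exact comp_square_right
    (congrArg Quiver.Hom.unop (P.isoLeftDerivedObj ((linearYoneda R C).obj Y').rightOp n).inv_hom_id)
    (homologyUnop_inv_naturality _ n)

omit [HasExt.{v} C] in
lemma isoExt_hom_naturality_left {X X' : C} (P : ProjectiveResolution X)
    (Q : ProjectiveResolution X') (f : X ⟶ X') (φ : ProjectiveResolution.Hom P Q f) (Y : C)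
    (n : ℕ) :
    ((Ext R C n).map f.op).app Y ≫ (P.isoExt n Y).hom =
      (Q.isoExt (R := R) n Y).hom ≫ homologyMap (precompMap φ.hom Y) n := by
  have h4 := congrArg Quiver.Hom.unop (ProjectiveResolution.isoLeftDerivedObj_inv_naturality
    f P Q φ.hom (by simpa using φ.hom_f_zero_comp_π_f_zero) ((linearYoneda R C).obj Y).rightOp n)
  rw [unop_comp, unop_comp] at h4
  show ((((linearYoneda R C).obj Y).rightOp.leftDerived n).map f).unop ≫
      ((P.isoLeftDerivedObj ((linearYoneda R C).obj Y).rightOp n).inv.unop ≫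
        (homologyUnop _ n).inv) =
    ((Q.isoLeftDerivedObj ((linearYoneda R C).obj Y).rightOp n).inv.unop ≫
        (homologyUnop _ n).inv) ≫ homologyMap _ n
  exact comp_square_left h4 (homologyUnop_inv_naturality _ n)

omit [EnoughProjectives C] in
lemma homologyToExt_naturality_right {X : C} (P : ProjectiveResolution X) {Y Y' : C} (g : Y ⟶ Y')
    (n : ℕ) :
    homologyMap (postcompMap (R := R) P.complex g) n ≫ homologyToExt P Y' n =
      homologyToExt P Y n ≫ ((abExt R C n).obj (op X)).map g := by
  rw [← cancel_epi ((P.complex.linearYonedaObj R Y).homologyπ n), homologyπ_naturality_assoc,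
    π_homologyToExt]
  erw [← Category.assoc, π_homologyToExt]
  ext z
  change cyclesToExt P Y' n (cyclesMap (postcompMap P.complex g) n z) =
    (cyclesToExt P Y n z).comp (Abelian.Ext.mk₀ g) (add_zero n)
  rw [cyclesToExt_apply, cyclesToExt_apply, P.extMk_comp_mk₀]
  congr 1
  rw [← ModuleCat.comp_apply, cyclesMap_i]
  rfl

omit [EnoughProjectives C] in
lemma homologyToExt_naturality_left {X X' : C} (P : ProjectiveResolution X)
    (Q : ProjectiveResolution X') (f : X ⟶ X') (φ : ProjectiveResolution.Hom P Q f) (Y : C)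
    (n : ℕ) :
    homologyMap (precompMap (R := R) φ.hom Y) n ≫ homologyToExt P Y n =
      homologyToExt Q Y n ≫ ((abExt R C n).map f.op).app Y := by
  rw [← cancel_epi ((Q.complex.linearYonedaObj R Y).homologyπ n), homologyπ_naturality_assoc,
    π_homologyToExt]
  erw [← Category.assoc, π_homologyToExt]
  ext z
  change cyclesToExt P Y n (cyclesMap (precompMap φ.hom Y) n z) =
    (Abelian.Ext.mk₀ f).comp (cyclesToExt Q Y n z) (zero_add n)
  rw [cyclesToExt_apply, cyclesToExt_apply, ProjectiveResolution.mk₀_comp_extMk _ _ _ _ φ]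
  congr 1
  rw [← ModuleCat.comp_apply, cyclesMap_i]
  rfl

variable (R C) in
/-- The two Ext bifunctors are isomorphic. -/
def extNatIso (n : ℕ) : Ext R C n ≅ abExt R C n :=
  NatIso.ofComponents
    (fun X => NatIso.ofComponents (fun Y => extIsoAt (projectiveResolution X.unop) Y n)
      (fun {Y Y'} g => by
        change _ ≫ (_ ≫ homologyToExt (R := R) _ Y' n) = (_ ≫ homologyToExt (R := R) _ Y n) ≫ _
        erw [← Category.assoc, isoExt_hom_naturality_right, Category.assoc,
          homologyToExt_naturality_right, Category.assoc]))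
    (fun {X X'} f => by
      ext Y : 2
      let φ : ProjectiveResolution.Hom (projectiveResolution X'.unop)
          (projectiveResolution X.unop) f.unop :=
        { hom := ProjectiveResolution.lift f.unop _ _
          hom_f_zero_comp_π_f_zero := by
            rw [ChainComplex.single₀_map_f_zero]
            exact ProjectiveResolution.lift_commutes_zero f.unop _ _ }
      change _ ≫ (_ ≫ homologyToExt (R := R) _ Y n) = (_ ≫ homologyToExt (R := R) _ Y n) ≫ _
      erw [← Category.assoc, isoExt_hom_naturality_left (R := R) _ _ f.unop φ Y n, Category.assoc,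
        homologyToExt_naturality_left (R := R) _ _ f.unop φ Y n, Category.assoc])

end Bifunctor

end

end Groth.Agent.LocCohBasic
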