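import Groth.Prelude.Def_Wider
import Groth.Agent.LocCohBasic.ExtComparison
import Mathlib.Algebra.Homology.LocalCohomology
import Mathlib.Algebra.Homology.DerivedCategory.Ext.ExactSequences
import Mathlib.Algebra.Homology.DerivedCategory.Ext.EnoughInjectives
import Mathlib.Algebra.Category.ModuleCat.Ext.Basic
import Mathlib.Algebra.Category.ModuleCat.Ext.HasExt
import Mathlib.Algebra.Category.ModuleCat.FilteredColimits
import Mathlib.Algebra.Category.ModuleCat.Projective
import Mathlib.Algebra.Category.ModuleCat.EnoughInjectives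

/-!
# Local cohomology: element-wise description as a colimit of `Abelian.Ext`

`loc I n M k : Ext(R ⧸ I ^ k, M, n) →ₗ H^n_I(M)`, joint surjectivity, when a class dies,
functoriality, and the long exact sequence.
-/

universe u

open CategoryTheory Limits Opposite Abelian localCohomology

namespace Groth.Agent.LocCohBasic

noncomputable section

variable {R : Type u} [CommRing R] (I : Ideal R) (n : ℕ)

/-- `R ⧸ I ^ k` as an object. -/
abbrev QI (k : ℕ) : ModuleCat.{u} R := ModuleCat.of R (R ⧸ I ^ k)

/-- The projection `R ⧸ I ^ l ⟶ R ⧸ I ^ k` for `k ≤ l`. -/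
def proj {k l : ℕ} (h : k ≤ l) : QI I l ⟶ QI I k :=
  (ringModIdeals (idealPowersDiagram I)).map (homOfLE h).op

lemma proj_proj {k l m : ℕ} (h : k ≤ l) (h' : l ≤ m) :
    proj I h' ≫ proj I h = proj I (h.trans h') :=
  ((ringModIdeals (idealPowersDiagram I)).map_comp _ _).symm

/-- The diagram `k ↦ Ext(R ⧸ I ^ k, -, n)`. -/
def abDiagram : ℕᵒᵖᵒᵖ ⥤ ModuleCat.{u} R ⥤ ModuleCat.{u} R :=
  (ringModIdeals (idealPowersDiagram I)).op ⋙ abExt R (ModuleCat.{u} R) n

/-- Mathlib's diagram agrees with `abDiagram`. -/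
def diagramIso : diagram (idealPowersDiagram I) n ≅ abDiagram I n :=
  Functor.isoWhiskerLeft _ (extNatIso R (ModuleCat.{u} R) n)

/-- The colimit cocone of `abDiagram` with point `localCohomology I n`. -/
def cocone : Cocone (abDiagram I n) :=
  (Cocone.precompose (diagramIso I n).inv).obj (colimit.cocone (diagram (idealPowersDiagram I) n))

/-- `cocone` is a colimit. -/
def isColimitCocone : IsColimit (cocone I n) :=
  (IsColimit.precomposeInvEquiv (diagramIso I n) _).symm (colimit.isColimit _)

/-- The evaluated colimit. -/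
def isColimitEval (M : ModuleCat.{u} R) :
    IsColimit (((evaluation _ (ModuleCat.{u} R)).obj M).mapCocone (cocone I n)) :=
  isColimitOfPreserves _ (isColimitCocone I n)

variable {n} in
/-- The canonical map `Ext(R ⧸ I ^ k, M, n) → H^n_I(M)`. -/
def loc (M : ModuleCat.{u} R) (k : ℕ) :
    Ext (QI I k) M n →ₗ[R] (localCohomology I n).obj M :=
  (((cocone I n).ι.app (op (op k))).app M).hom

variable {n} (M : ModuleCat.{u} R)

instance : PreservesFilteredColimitsOfSize.{0, 0} (forget (ModuleCat.{u} R)) :=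
  preservesSmallestFilteredColimits_of_preservesFilteredColimits _

lemma exists_loc (y : (localCohomology I n).obj M) : ∃ (k : ℕ) (x : Ext (QI I k) M n),
    loc I M k x = y := by
  obtain ⟨j, x, hx⟩ := Concrete.isColimit_exists_rep _ (isColimitEval I n M) y
  exact ⟨unop (unop j), x, hx⟩

lemma loc_proj {k l : ℕ} (h : k ≤ l) (x : Ext (QI I k) M n) :
    loc I M l ((Ext.mk₀ (proj I h)).comp x (zero_add n)) = loc I M k x :=
  congrArg (fun f => f.hom x)
    ((((evaluation _ (ModuleCat.{u} R)).obj M).mapCocone (cocone I n)).w (homOfLE h).op.op)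

lemma loc_eq_zero_iff {k : ℕ} (x : Ext (QI I k) M n) :
    loc I M k x = 0 ↔ ∃ (l : ℕ) (h : k ≤ l), (Ext.mk₀ (proj I h)).comp x (zero_add n) = 0 := by
  refine ⟨fun hx => ?_, fun ⟨l, h, hl⟩ => by rw [← loc_proj I M h x, hl, map_zero]⟩
  obtain ⟨j, f, g, hfg⟩ := Concrete.isColimit_exists_of_rep_eq.{u} _ (isColimitEval I n M)
    (i := op (op k)) (j := op (op k)) x (0 : Ext (QI I k) M n) (hx.trans (map_zero _).symm)
  exact ⟨unop (unop j), leOfHom f.unop.unop, hfg.trans (map_zero _)⟩

lemma map_loc {M N : ModuleCat.{u} R} (f : M ⟶ N) {k : ℕ} (x : Ext (QI I k) M n) :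
    (localCohomology I n).map f (loc I M k x) = loc I N k (x.comp (Ext.mk₀ f) (add_zero n)) :=
  (congrArg (fun g => g.hom x) (((cocone I n).ι.app (op (op k))).naturality f)).symm

/-- Extensionality: maps out of local cohomology are determined on `loc`. -/
lemma hom_ext {N : ModuleCat.{u} R} {f g : (localCohomology I n).obj M ⟶ N}
    (h : ∀ (k : ℕ) (x : Ext (QI I k) M n), f (loc I M k x) = g (loc I M k x)) : f = g := by
  ext y
  obtain ⟨k, x, rfl⟩ := exists_loc I M y
  exact h k x

lemma subsingleton_of_ext (h : ∀ k, Subsingleton (Ext (QI I k) M n)) :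
    Subsingleton ((localCohomology I n).obj M) := by
  refine subsingleton_of_forall_eq 0 fun y => ?_
  obtain ⟨k, x, rfl⟩ := exists_loc I M y
  rw [Subsingleton.eq_zero x, map_zero]

/-- Local cohomology vanishes on injectives in positive degrees. -/
lemma subsingleton_of_injective (J : ModuleCat.{u} R) [Injective J] (n : ℕ) :
    Subsingleton ((localCohomology I (n + 1)).obj J) :=
  subsingleton_of_ext I J fun _ => Ext.subsingleton_of_injective _ J n

instance : ((localCohomology I n)).Additive where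
  map_add {M N f g} := by
    refine hom_ext I M fun k x => ?_
    change _ = (localCohomology I n).map f (loc I M k x) + (localCohomology I n).map g (loc I M k x)
    rw [map_loc, map_loc, map_loc, Ext.mk₀_add, Ext.comp_add, map_add]

lemma smul_eq_zero_of_mem {k : ℕ} {a : R} (ha : a ∈ I ^ k) (x : Ext (QI I k) M n) :
    a • x = 0 := by
  have h : a ∈ Module.annihilator R (QI I k) := by
    rw [Ideal.annihilator_quotient]; exact ha
  have h2 : a • 𝟙 (QI I k) = 0 := by
    simp [← ModuleCat.lsmul_eq_smul_id, Module.mem_annihilator_iff_lsmul_eq_zero.mp h]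
  calc a • x = (Ext.mk₀ (a • 𝟙 (QI I k))).comp x (zero_add n) := by simp [Ext.mk₀_smul]
    _ = 0 := by simp [h2]

/-- Local cohomology is `I`-power torsion. -/
lemma exists_pow_smul_eq_zero (y : (localCohomology I n).obj M) :
    ∃ k : ℕ, ∀ a ∈ I ^ k, a • y = 0 := by
  obtain ⟨k, x, rfl⟩ := exists_loc I M y
  exact ⟨k, fun a ha => by rw [← map_smul, smul_eq_zero_of_mem I M ha, map_zero]⟩

section Sequence

variable {S : ShortComplex (ModuleCat.{u} R)} (hS : S.ShortExact)

variable (n) in
/-- Postcomposition with the extension class, as a map of diagrams. -/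
def deltaDiagram : abDiagram I n ⋙ (evaluation _ (ModuleCat.{u} R)).obj S.X₃ ⟶
    abDiagram I (n + 1) ⋙ (evaluation _ (ModuleCat.{u} R)).obj S.X₁ where
  app j := ModuleCat.ofHom
    { toFun := fun (x : Ext (QI I (unop (unop j))) S.X₃ n) => x.comp hS.extClass rfl
      map_add' := fun x y => Ext.add_comp _ _ _ _
      map_smul' := fun r x => Ext.smul_comp _ _ _ _ }
  naturality {i j} f := by
    ext x
    exact Ext.comp_assoc (Ext.mk₀ ((ringModIdeals (idealPowersDiagram I)).map f.unop)) x
      hS.extClass (zero_add n) rfl (by omega)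

variable (n) in
/-- The connecting map of local cohomology. -/
def delta : (localCohomology I n).obj S.X₃ ⟶ (localCohomology I (n + 1)).obj S.X₁ :=
  (isColimitEval I n S.X₃).map (((evaluation _ (ModuleCat.{u} R)).obj S.X₁).mapCocone
    (cocone I (n + 1))) (deltaDiagram I n hS)

lemma delta_loc {k : ℕ} (x : Ext (QI I k) S.X₃ n) :
    delta I n hS (loc I S.X₃ k x) = loc I S.X₁ k (x.comp hS.extClass rfl) :=
  congrArg (fun f => f.hom x) (IsColimit.ι_map (isColimitEval I n S.X₃)
    (((evaluation _ (ModuleCat.{u} R)).obj S.X₁).mapCocone (cocone I (n + 1)))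
    (deltaDiagram I n hS) (op (op k)))

lemma map_comp_map_eq_zero (S : ShortComplex (ModuleCat.{u} R)) :
    (localCohomology I n).map S.f ≫ (localCohomology I n).map S.g = 0 := by
  rw [← Functor.map_comp, S.zero, Functor.map_zero]

lemma map_comp_delta : (localCohomology I n).map S.g ≫ delta I n hS = 0 := by
  refine hom_ext I _ fun k x => ?_
  rw [ModuleCat.comp_apply, map_loc, delta_loc,
    Ext.comp_assoc _ _ _ (add_zero n) (zero_add 1) (by omega), hS.comp_extClass, Ext.comp_zero,
    map_zero]
  rfl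

lemma delta_comp_map : delta I n hS ≫ (localCohomology I (n + 1)).map S.f = 0 := by
  refine hom_ext I _ fun k x => ?_
  rw [ModuleCat.comp_apply, delta_loc, map_loc,
    Ext.comp_assoc _ _ _ rfl (add_zero 1) (by omega), hS.extClass_comp, Ext.comp_zero,
    map_zero]
  rfl

include hS in
lemma exists_of_map_g_eq_zero (y : (localCohomology I n).obj S.X₂)
    (hy : (localCohomology I n).map S.g y = 0) : ∃ x, (localCohomology I n).map S.f x = y := by
  obtain ⟨k, b, rfl⟩ := exists_loc I S.X₂ y
  rw [map_loc, loc_eq_zero_iff] at hy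
  obtain ⟨l, h, hl⟩ := hy
  rw [← Ext.comp_assoc _ _ _ (zero_add n) (add_zero n) (by omega)] at hl
  obtain ⟨a, ha⟩ := Ext.covariant_sequence_exact₂ (QI I l) hS _ hl
  exact ⟨loc I S.X₁ l a, by rw [map_loc, ha, loc_proj]⟩

lemma exists_of_delta_eq_zero (z : (localCohomology I n).obj S.X₃) (hz : delta I n hS z = 0) :
    ∃ y, (localCohomology I n).map S.g y = z := by
  obtain ⟨k, c, rfl⟩ := exists_loc I S.X₃ z
  rw [delta_loc, loc_eq_zero_iff] at hz
  obtain ⟨l, h, hl⟩ := hz
  rw [← Ext.comp_assoc _ _ _ (zero_add n) rfl (by omega)] at hl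
  obtain ⟨b, hb⟩ := Ext.covariant_sequence_exact₃ (QI I l) hS _ rfl hl
  exact ⟨loc I S.X₂ l b, by rw [map_loc, hb, loc_proj]⟩

lemma exists_of_map_f_eq_zero (x : (localCohomology I (n + 1)).obj S.X₁)
    (hx : (localCohomology I (n + 1)).map S.f x = 0) : ∃ z, delta I n hS z = x := by
  obtain ⟨k, a, rfl⟩ := exists_loc I S.X₁ x
  rw [map_loc, loc_eq_zero_iff] at hx
  obtain ⟨l, h, hl⟩ := hx
  rw [← Ext.comp_assoc _ _ _ (zero_add (n + 1)) (add_zero (n + 1)) (by omega)] at hl
  obtain ⟨c, hc⟩ := Ext.covariant_sequence_exact₁ (QI I l) hS _ hl rfl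
  exact ⟨loc I S.X₃ l c, by rw [delta_loc, hc, loc_proj]⟩

include hS in
lemma map_f_injective : Function.Injective ((localCohomology I 0).map S.f) := by
  refine (injective_iff_map_eq_zero _).mpr fun x hx => ?_
  obtain ⟨k, a, rfl⟩ := exists_loc I S.X₁ x
  rw [map_loc, loc_eq_zero_iff] at hx
  obtain ⟨l, h, hl⟩ := hx
  rw [← Ext.comp_assoc _ _ _ (zero_add 0) (add_zero 0) (by omega)] at hl
  have := hS.mono_f
  rw [← loc_proj I S.X₁ h a,
    Ext.postcomp_mk₀_injective_of_mono (QI I l) S.f (hl.trans (map_zero _).symm), map_zero]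

/-- Naturality of the connecting map. -/
lemma delta_naturality {S' : ShortComplex (ModuleCat.{u} R)} (hS' : S'.ShortExact) (φ : S ⟶ S') :
    (localCohomology I n).map φ.τ₃ ≫ delta I n hS' =
      delta I n hS ≫ (localCohomology I (n + 1)).map φ.τ₁ := by
  refine hom_ext I _ fun k x => ?_
  rw [ModuleCat.comp_apply, ModuleCat.comp_apply, map_loc, delta_loc, delta_loc, map_loc,
    Ext.comp_assoc _ _ _ (add_zero n) (zero_add 1) (by omega),
    Ext.comp_assoc _ _ _ rfl (add_zero 1) (by omega),
    ShortComplex.ShortExact.extClass_naturality hS hS' φ]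

end Sequence

end

end Groth.Agent.LocCohBasic
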