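import Groth.Prelude.Def_DRing3
import Groth.Agent.LocCohBasic.Basic
import Groth.Agent.UnivDelta.Basic

/-!
# Local cohomology is the derived functor of `Γ_I`
-/

universe u

open CategoryTheory Limits Opposite Abelian localCohomology

namespace Groth.Agent.LocCohBasic

noncomputable section

variable {R : Type u} [CommRing R] (I : Ideal R)

/-- Evaluation at `1` of a degree zero class. -/
def evalOne (M : ModuleCat.{u} R) (k : ℕ) : Ext (QI I k) M 0 →ₗ[R] M where
  toFun x := (Ext.addEquiv₀ x).hom (Ideal.Quotient.mk _ 1)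
  map_add' x y := by rw [map_add]; rfl
  map_smul' r x := by
    have h : r • x = Ext.mk₀ (r • Ext.addEquiv₀ x) := by
      rw [Ext.mk₀_smul, Ext.mk₀_addEquiv₀_apply]
    rw [h]
    have : Ext.addEquiv₀ (Ext.mk₀ (r • Ext.addEquiv₀ x)) = r • Ext.addEquiv₀ x :=
      Ext.addEquiv₀.apply_symm_apply _
    rw [this]
    rfl

lemma evalOne_mk₀ (M : ModuleCat.{u} R) (k : ℕ) (f : QI I k ⟶ M) :
    evalOne I M k (Ext.mk₀ f) = f.hom (Ideal.Quotient.mk _ 1) := by
  have : Ext.addEquiv₀ (Ext.mk₀ f) = f := Ext.addEquiv₀.apply_symm_apply _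
  exact congrArg (fun g : QI I k ⟶ M => g.hom (Ideal.Quotient.mk _ 1)) this

lemma evalOne_mem (M : ModuleCat.{u} R) (k : ℕ) (x : Ext (QI I k) M 0) :
    evalOne I M k x ∈ DRing.torsionSub I M := by
  refine ⟨k, fun a ha => ?_⟩
  rw [← map_smul, smul_eq_zero_of_mem I M ha, map_zero]

/-- The cocone `Hom(R ⧸ I^k, M) → Γ_I M`. -/
def gammaCocone (M : ModuleCat.{u} R) :
    Cocone (abDiagram I 0 ⋙ (evaluation _ (ModuleCat.{u} R)).obj M) where
  pt := (DRing.gammaI I).obj M
  ι :=
    { app := fun j => ModuleCat.ofHom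
        ((evalOne I M (unop (unop j))).codRestrict _ (evalOne_mem I M _))
      naturality := fun i j f => by
        ext (x : Ext (QI I (unop (unop i))) M 0)
        apply Subtype.ext
        change evalOne I M _
          ((Ext.mk₀ ((ringModIdeals (idealPowersDiagram I)).map f.unop)).comp x (zero_add 0)) =
            evalOne I M _ x
        obtain ⟨g, rfl⟩ := (Ext.mk₀_bijective _ _).2 x
        erw [Ext.mk₀_comp_mk₀, evalOne_mk₀, evalOne_mk₀]
        rfl }

/-- `H^0_I(M) ⟶ Γ_I(M)`. -/
def toGamma (M : ModuleCat.{u} R) : (localCohomology I 0).obj M ⟶ (DRing.gammaI I).obj M :=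
  (isColimitEval I 0 M).desc (gammaCocone I M)

lemma toGamma_loc (M : ModuleCat.{u} R) (k : ℕ) (x : Ext (QI I k) M 0) :
    (toGamma I M (loc I M k x)).1 = evalOne I M k x :=
  congrArg (fun f : _ ⟶ (DRing.gammaI I).obj M => (f.hom x).1)
    ((isColimitEval I 0 M).fac (gammaCocone I M) (op (op k)))

lemma toGamma_bijective (M : ModuleCat.{u} R) : Function.Bijective (toGamma I M) := by
  constructor
  · refine (injective_iff_map_eq_zero _).mpr fun y hy => ?_
    obtain ⟨k, x, rfl⟩ := exists_loc I M y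
    have h := toGamma_loc I M k x
    rw [hy] at h
    obtain ⟨f, rfl⟩ := (Ext.mk₀_bijective _ _).2 x
    rw [evalOne_mk₀] at h
    have hf : f = 0 := by
      refine ModuleCat.hom_ext (LinearMap.ext fun (q : R ⧸ I ^ k) => ?_)
      obtain ⟨r, rfl⟩ := Ideal.Quotient.mk_surjective q
      have : (Ideal.Quotient.mk (I ^ k) r) = r • (Ideal.Quotient.mk (I ^ k) 1) := by
        rw [map_one, Algebra.smul_def, mul_one]; rfl
      rw [this, map_smul, ← h]
      exact smul_zero r
    rw [hf, Ext.mk₀_zero, map_zero]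
  · rintro ⟨m, k, hk⟩
    refine ⟨loc I M k (Ext.mk₀ (ModuleCat.ofHom
      (Submodule.liftQ (I ^ k) (LinearMap.toSpanSingleton R M m) ?_))), ?_⟩
    · intro a ha
      exact hk a ha
    · apply Subtype.ext
      rw [toGamma_loc, evalOne_mk₀]
      exact one_smul R m

/-- `H^0_I ≅ Γ_I`. -/
def zeroIso : localCohomology I 0 ≅ DRing.gammaI I :=
  NatIso.ofComponents
    (fun M => @asIso _ _ _ _ (toGamma I M)
      ((ConcreteCategory.isIso_iff_bijective _).mpr (toGamma_bijective I M)))
    (fun {M N} f => by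
      refine hom_ext I M fun k x => ?_
      apply Subtype.ext
      change (toGamma I N ((localCohomology I 0).map f (loc I M k x))).1 =
        f ((toGamma I M (loc I M k x)).1)
      rw [map_loc, toGamma_loc, toGamma_loc]
      obtain ⟨g, rfl⟩ := (Ext.mk₀_bijective _ _).2 x
      rw [Ext.mk₀_comp_mk₀, evalOne_mk₀, evalOne_mk₀]
      rfl)

/-- Local cohomology as a δ-functor. -/
def deltaFunctor : UnivDelta.DeltaFunctor (ModuleCat.{u} R) (ModuleCat.{u} R) where
  F n := localCohomology I n
  additive n := inferInstance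
  δ hS n := delta I n hS
  mono₁ hS := (ModuleCat.mono_iff_injective _).mpr (map_f_injective I hS)
  exact₂ hS n w := (ShortComplex.moduleCat_exact_iff _).mpr (exists_of_map_g_eq_zero I hS)
  map_g_δ hS n := map_comp_delta I hS
  exact₃ hS n := (ShortComplex.moduleCat_exact_iff _).mpr (exists_of_delta_eq_zero I hS)
  δ_map_f hS n := delta_comp_map I hS
  exact₁ hS n := (ShortComplex.moduleCat_exact_iff _).mpr (exists_of_map_f_eq_zero I hS)
  δ_nat hS hS' φ n := delta_naturality I hS hS' φ
  isZero J _ n :=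
    have := subsingleton_of_injective I J n
    ModuleCat.isZero_of_subsingleton _

/-- Right derived functors of isomorphic functors are isomorphic. -/
def rightDerivedIso {F G : ModuleCat.{u} R ⥤ ModuleCat.{u} R} [F.Additive] [G.Additive]
    (α : F ≅ G) (i : ℕ) : F.rightDerived i ≅ G.rightDerived i where
  hom := NatTrans.rightDerived α.hom i
  inv := NatTrans.rightDerived α.inv i
  hom_inv_id := by rw [← NatTrans.rightDerived_comp, α.hom_inv_id, NatTrans.rightDerived_id]
  inv_hom_id := by rw [← NatTrans.rightDerived_comp, α.inv_hom_id, NatTrans.rightDerived_id]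

/-- Local cohomology is the right derived functor of `Γ_I`. -/
theorem nonempty_iso_rightDerived_gammaI (i : ℕ) :
    Nonempty (localCohomology I i ≅ (DRing.gammaI I).rightDerived i) := by
  obtain ⟨e⟩ := UnivDelta.nonempty_iso_rightDerived (deltaFunctor I) i
  exact ⟨e ≪≫ rightDerivedIso (zeroIso I) i⟩

end

end Groth.Agent.LocCohBasic
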