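import Groth.Agent.LocCohBasic.Acyclic
import Groth.Agent.LocCohBasic.Derived
import Groth.Agent.UnivDelta.Comp
import Groth.Agent.MatlisDual.FlatLocal
import Mathlib.Algebra.Category.ModuleCat.ChangeOfRings
import Mathlib.RingTheory.Flat.Basic

/-!
# Local cohomology and change of rings
-/

universe u

open CategoryTheory Limits LocCoh TensorProduct

namespace Groth.Agent.LocCohBasic

variable {R : Type u} [CommRing R] {R' : Type u} [CommRing R'] [Algebra R R']

/-- Torsion with respect to an extended ideal. -/
lemma mem_torsionSub_map_iff (J : Ideal R) {M : Type u} [AddCommGroup M] [Module R' M]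
    [Module R M] [IsScalarTower R R' M] {x : M} :
    x ∈ DRing.torsionSub (J.map (algebraMap R R')) M ↔ x ∈ DRing.torsionSub J M := by
  constructor
  · rintro ⟨n, hn⟩
    refine ⟨n, fun a ha => ?_⟩
    rw [← algebraMap_smul R' a x]
    exact hn _ (by rw [← Ideal.map_pow]; exact Ideal.mem_map_of_mem _ ha)
  · rintro ⟨n, hn⟩
    refine ⟨n, fun b hb => ?_⟩
    rw [← Ideal.map_pow] at hb
    induction hb using Submodule.span_induction with
    | mem b hb => obtain ⟨a, ha, rfl⟩ := hb; rw [algebraMap_smul]; exact hn a ha
    | zero => simp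
    | add b c _ _ hb hc => rw [add_smul, hb, hc, add_zero]
    | smul c b _ hb => rw [smul_assoc, hb, smul_zero]

/-- An injective module over an algebra is acyclic. -/
theorem subsingleton_restrict_injective [IsNoetherianRing R] [IsNoetherianRing R'] (I : Ideal R)
    (M : Type u) [AddCommGroup M] [Module R' M] [Module R M] [IsScalarTower R R' M]
    [Module.Injective R' M] (i : ℕ) :
    Subsingleton ((localCohomology I (i + 1)).obj (ModuleCat.of R M)) := by
  obtain ⟨s, hs⟩ := IsNoetherian.noetherian I
  rw [show I = Ideal.span (s : Set R) from hs.symm]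
  refine subsingleton_span_finset_of_divisible s M (fun t _ f _ x hx => ?_) i
  let J' := (Ideal.span (t : Set R)).map (algebraMap R R')
  have hx' : x ∈ DRing.torsionSub J' M := (mem_torsionSub_map_iff _).mpr hx
  have := injective_torsionSub J' M
  obtain ⟨c, y, hy⟩ := exists_pow_smul_smul_sub_eq_zero (algebraMap R R' f)
    (E := DRing.torsionSub J' M) ⟨x, hx'⟩ 1
  refine ⟨c, y.1, (mem_torsionSub_map_iff _).mp y.2, ?_⟩
  have h := congrArg Subtype.val hy
  simp only [pow_one, ZeroMemClass.coe_zero,
    ← map_pow, algebraMap_smul] at h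
  exact h

/-- `H_{IR'}` and `H_I` agree on `R'`-modules. -/
theorem nonempty_independence [IsNoetherianRing R] [IsNoetherianRing R'] (I : Ideal R) (i : ℕ) :
    Nonempty (localCohomology (I.map (algebraMap R R')) i ⋙
        ModuleCat.restrictScalars (algebraMap R R') ≅
      ModuleCat.restrictScalars.{u} (algebraMap R R') ⋙ localCohomology I i) := by
  let G : ModuleCat.{u} R' ⥤ ModuleCat.{u} R := ModuleCat.restrictScalars (algebraMap R R')
  have he : ∀ S : ShortComplex (ModuleCat.{u} R'), S.Exact → (S.map G).Exact := fun S hS =>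
    (ShortComplex.moduleCat_exact_iff _).mpr ((ShortComplex.moduleCat_exact_iff S).mp hS)
  have hm : G.PreservesMonomorphisms := ⟨fun f hf => (ModuleCat.mono_iff_injective _).mpr
    (((ModuleCat.mono_iff_injective f).mp hf : Function.Injective f))⟩
  have hG : ∀ S : ShortComplex (ModuleCat.{u} R'), S.ShortExact → (S.map G).ShortExact := by
    intro S hS
    exact { exact := he S hS.exact
            mono_f := (ModuleCat.mono_iff_injective _).mpr hS.moduleCat_injective_f
            epi_g := (ModuleCat.epi_iff_surjective _).mpr hS.moduleCat_surjective_g }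
  let T1 := (deltaFunctor (I.map (algebraMap R R'))).post G hm he
  let T2 := (deltaFunctor I).pre G hG fun J hJ n => by
    let : Module R J := Module.compHom J (algebraMap R R')
    have : IsScalarTower R R' J := IsScalarTower.of_algebraMap_smul fun _ _ => rfl
    have : Module.Injective R' J := Module.injective_module_of_injective_object R' J
    have := subsingleton_restrict_injective (R' := R') I J n
    exact @ModuleCat.isZero_of_subsingleton R _ ((localCohomology I (n + 1)).obj (ModuleCat.of R J)) this
  let α : DRing.gammaI (I.map (algebraMap R R')) ⋙ G ≅ G ⋙ DRing.gammaI I :=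
    NatIso.ofComponents (fun N =>
      letI : Module R N := Module.compHom N (algebraMap R R')
      haveI : IsScalarTower R R' N := IsScalarTower.of_algebraMap_smul fun _ _ => rfl
      let e : (G.obj ((DRing.gammaI (I.map (algebraMap R R'))).obj N) : ModuleCat.{u} R) ≃ₗ[R]
          ((DRing.gammaI I).obj (G.obj N) : ModuleCat.{u} R) :=
        { toFun := fun x => ⟨x.1, (mem_torsionSub_map_iff (M := N) I).mp x.2⟩
          invFun := fun x => ⟨x.1, (mem_torsionSub_map_iff (M := N) I).mpr x.2⟩
          left_inv := fun _ => rfl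
          right_inv := fun _ => rfl
          map_add' := fun _ _ => rfl
          map_smul' := fun _ _ => rfl }
      e.toModuleIso) fun f => rfl
  obtain ⟨e⟩ := UnivDelta.nonempty_iso_of_zero T1 T2
    (Functor.isoWhiskerRight (zeroIso _) G ≪≫ α ≪≫ (Functor.isoWhiskerLeft G (zeroIso I)).symm) i
  exact ⟨e⟩

/-- Base change as a functor. -/
noncomputable def bcFunctor (R R' : Type u) [CommRing R] [CommRing R'] [Algebra R R'] :
    ModuleCat.{u} R ⥤ ModuleCat.{u} R' where
  obj M := ModuleCat.of R' (R' ⊗[R] M)
  map f := ModuleCat.ofHom (f.hom.baseChange R')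
  map_id _ := ModuleCat.hom_ext LinearMap.baseChange_id
  map_comp f g := ModuleCat.hom_ext (LinearMap.baseChange_comp f.hom g.hom)

instance : (bcFunctor R R').Additive where
  map_add {_ _ f g} := ModuleCat.hom_ext (LinearMap.baseChange_add f.hom g.hom)

/-- The torsion of a flat base change, in the colimit. -/
lemma mem_torsionSub_baseChange [IsNoetherianRing R] [Module.Flat R R'] (J : Ideal R)
    {M : Type u} [AddCommGroup M] [Module R M] {x : R' ⊗[R] M} :
    x ∈ DRing.torsionSub (J.map (algebraMap R R')) (R' ⊗[R] M) ↔
      x ∈ LinearMap.range ((DRing.torsionSub J M).subtype.baseChange R') := by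
  constructor
  · rintro ⟨n, hn⟩
    have hx : x ∈ LocCoh.torsionBy ((J ^ n).map (algebraMap R R')) (R' ⊗[R] M) :=
      (Submodule.mem_torsionBySet_iff _ _).mpr fun a => hn a (by rw [← Ideal.map_pow]; exact a.2)
    rw [← MatlisDual.range_baseChange_torsionBy (J ^ n).fg_of_isNoetherianRing M] at hx
    obtain ⟨z, rfl⟩ := hx
    have hle : LocCoh.torsionBy (J ^ n) M ≤ DRing.torsionSub J M := fun m hm =>
      ⟨n, fun a ha => (Submodule.mem_torsionBySet_iff _ _).mp hm ⟨a, ha⟩⟩
    exact ⟨(Submodule.inclusion hle).baseChange R' z, by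
      rw [← LinearMap.comp_apply, ← LinearMap.baseChange_comp]; rfl⟩
  · rintro ⟨z, rfl⟩
    induction z using TensorProduct.induction_on with
    | zero => rw [map_zero]; exact Submodule.zero_mem _
    | add a b ha hb => rw [map_add]; exact Submodule.add_mem _ ha hb
    | tmul r m =>
      obtain ⟨n, hn⟩ := m.2
      rw [mem_torsionSub_map_iff]
      refine ⟨n, fun a ha => ?_⟩
      change a • (r ⊗ₜ[R] (m : M)) = 0
      rw [← TensorProduct.tmul_smul, hn a ha, TensorProduct.tmul_zero]

/-- A flat base change of an injective module is acyclic. -/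
theorem subsingleton_baseChange_injective [IsNoetherianRing R] [IsNoetherianRing R']
    [Module.Flat R R'] (I : Ideal R) (E : Type u) [AddCommGroup E] [Module R E]
    [Module.Injective R E] (i : ℕ) :
    Subsingleton ((localCohomology (I.map (algebraMap R R')) (i + 1)).obj
      (ModuleCat.of R' (R' ⊗[R] E))) := by
  classical
  obtain ⟨s, hs⟩ := IsNoetherian.noetherian I
  have hI : I.map (algebraMap R R') = Ideal.span ((s.image (algebraMap R R') : Finset R') : Set R') := by
    rw [Finset.coe_image, ← Ideal.map_span]; exact congrArg _ hs.symm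
  rw [hI]
  refine subsingleton_span_finset_of_divisible _ (R' ⊗[R] E) (fun t ht f' hf' x hx => ?_) i
  obtain ⟨f, -, rfl⟩ := Finset.mem_image.mp hf'
  obtain ⟨t', -, rfl⟩ := Finset.subset_image_iff.mp ht
  rw [Finset.coe_image, ← Ideal.map_span] at hx ⊢
  set J := Ideal.span (t' : Set R)
  rw [mem_torsionSub_baseChange] at hx
  obtain ⟨z, rfl⟩ := hx
  have := injective_torsionSub J E
  have key : ∀ z : R' ⊗[R] DRing.torsionSub J E, ∃ (c : ℕ) (y : R' ⊗[R] DRing.torsionSub J E),
      f ^ c • (f • y - z) = 0 := by
    intro z
    induction z using TensorProduct.induction_on with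
    | zero => exact ⟨0, 0, by simp⟩
    | tmul r m =>
      obtain ⟨c, y, hy⟩ := exists_pow_smul_smul_sub_eq_zero f m 1
      refine ⟨c, r ⊗ₜ y, ?_⟩
      rw [pow_one] at hy
      rw [← TensorProduct.tmul_smul, ← TensorProduct.tmul_sub, ← TensorProduct.tmul_smul, hy,
        TensorProduct.tmul_zero]
    | add a b ha hb =>
      obtain ⟨c, y, hy⟩ := ha
      obtain ⟨d, w, hw⟩ := hb
      refine ⟨c + d, y + w, ?_⟩
      rw [smul_add, add_sub_add_comm, smul_add]
      conv_lhs => rw [pow_add, mul_comm, mul_smul, hy, smul_zero, mul_comm, mul_smul, hw, smul_zero]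
      rw [add_zero]
  obtain ⟨c, y, hy⟩ := key z
  refine ⟨c, (DRing.torsionSub J E).subtype.baseChange R' y,
    (mem_torsionSub_baseChange J).mpr ⟨y, rfl⟩, ?_⟩
  rw [← map_pow, algebraMap_smul, algebraMap_smul, ← LinearMap.map_smul_of_tower, ← map_sub,
    ← LinearMap.map_smul_of_tower, hy, map_zero]

/-- Local cohomology commutes with flat base change. -/
theorem nonempty_flat_baseChange [IsNoetherianRing R] [IsNoetherianRing R'] [Module.Flat R R']
    (I : Ideal R) (i : ℕ) :
    Nonempty (localCohomology I i ⋙ bcFunctor R R' ≅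
      bcFunctor R R' ⋙ localCohomology (I.map (algebraMap R R')) i) := by
  have he : ∀ S : ShortComplex (ModuleCat.{u} R), S.Exact → (S.map (bcFunctor R R')).Exact := by
    intro S hS
    rw [ShortComplex.ShortExact.moduleCat_exact_iff_function_exact] at hS ⊢
    exact Module.Flat.lTensor_exact R' hS
  have hm : (bcFunctor R R').PreservesMonomorphisms := ⟨fun f hf =>
    (ModuleCat.mono_iff_injective _).mpr
      (Module.Flat.lTensor_preserves_injective_linearMap (M := R') f.hom
        ((ModuleCat.mono_iff_injective f).mp hf))⟩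
  have hG : ∀ S : ShortComplex (ModuleCat.{u} R), S.ShortExact →
      (S.map (bcFunctor R R')).ShortExact := by
    intro S hS
    exact { exact := he S hS.exact
            mono_f := have := hS.mono_f; have := hm; (bcFunctor R R').map_mono _
            epi_g := (ModuleCat.epi_iff_surjective _).mpr
              (LinearMap.lTensor_surjective R' hS.moduleCat_surjective_g) }
  let T1 := (deltaFunctor I).post (bcFunctor R R') hm he
  let T2 := (deltaFunctor (I.map (algebraMap R R'))).pre (bcFunctor R R') hG fun J hJ n => by
    have : Module.Injective R J := Module.injective_module_of_injective_object R J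
    have := subsingleton_baseChange_injective (R' := R') I J n
    exact @ModuleCat.isZero_of_subsingleton R' _
      ((localCohomology (I.map (algebraMap R R')) (n + 1)).obj (ModuleCat.of R' (R' ⊗[R] J))) this
  let c : ∀ N : ModuleCat.{u} R, (DRing.gammaI I ⋙ bcFunctor R R').obj N →ₗ[R']
      (bcFunctor R R' ⋙ DRing.gammaI (I.map (algebraMap R R'))).obj N := fun N =>
    LinearMap.codRestrict _ ((DRing.torsionSub I N).subtype.baseChange R')
      fun z => (mem_torsionSub_baseChange I).mpr ⟨z, rfl⟩
  have hc : ∀ N, Function.Bijective (c N) := fun N =>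
    ⟨fun a b h => MatlisDual.baseChange_subtype_injective _ (congrArg Subtype.val h), fun x => by
      obtain ⟨z, hz⟩ := (mem_torsionSub_baseChange I).mp x.2
      exact ⟨z, Subtype.ext hz⟩⟩
  let α : DRing.gammaI I ⋙ bcFunctor R R' ≅
      bcFunctor R R' ⋙ DRing.gammaI (I.map (algebraMap R R')) :=
    NatIso.ofComponents (fun N => (LinearEquiv.ofBijective (c N) (hc N)).toModuleIso)
      fun {M N} f => ModuleCat.hom_ext (LinearMap.ext fun z => Subtype.ext (by
        have h : (DRing.torsionSub I N).subtype.baseChange R' ∘ₗ
            (f.hom.restrict fun _ hm => DRing.map_mem_torsionSub I f.hom hm).baseChange R' =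
            f.hom.baseChange R' ∘ₗ (DRing.torsionSub I M).subtype.baseChange R' := by
          rw [← LinearMap.baseChange_comp, ← LinearMap.baseChange_comp]
          rfl
        exact LinearMap.congr_fun h z))
  obtain ⟨e⟩ := UnivDelta.nonempty_iso_of_zero T1 T2
    (Functor.isoWhiskerRight (zeroIso I) _ ≪≫ α ≪≫ (Functor.isoWhiskerLeft _ (zeroIso _)).symm) i
  exact ⟨e⟩

end Groth.Agent.LocCohBasic
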