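import Groth.Agent.LocCohBasic.Compare
import Groth.Agent.S11617
import Mathlib.RingTheory.Localization.BaseChange

/-!
# When is `H_{I'} → H_I` bijective
-/

universe u

open CategoryTheory LocCoh IsLocalRing

namespace Groth.Agent.LocCohBasic

variable {A : Type u} [CommRing A] [IsNoetherianRing A]

/-- Vanishing at the points of `V(I) \ V(I')`. -/
def VanishesBetween (I I' : Ideal A) (M : ModuleCat.{u} A) (i : ℕ) : Prop :=
  ∀ p : PrimeSpectrum A, I ≤ p.asIdeal → ¬ I' ≤ p.asIdeal →
    Subsingleton (LocCoh.H (maximalIdeal (Localization.AtPrime p.asIdeal)) i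
      (LocalizedModule p.asIdeal.primeCompl M))

/-- At a minimal prime of `I` some element outside it kills a given class. -/
lemma exists_notMem_smul_eq_zero (I : Ideal A) (p : Ideal A) [p.IsPrime] (hp : p ∈ I.minimalPrimes)
    (M : ModuleCat.{u} A) (i : ℕ)
    (h : Subsingleton (LocCoh.H (maximalIdeal (Localization.AtPrime p)) i
      (LocalizedModule p.primeCompl M)))
    (y : (localCohomology I i).obj M) : ∃ c, c ∉ p ∧ c • y = 0 := by
  let R' := Localization.AtPrime p
  have hrad : (I.map (algebraMap A R')).radical = (maximalIdeal R').radical := by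
    rw [IsLocalization.AtPrime.radical_map_of_mem_minimalPrimes R' p I hp,
      Localization.AtPrime.map_eq_maximalIdeal, (maximalIdeal.isMaximal R').isPrime.radical]
  obtain ⟨e⟩ := nonempty_iso_of_radical_eq (I.map (algebraMap A R')) hrad i
  obtain ⟨φ⟩ := S11617.result A R' I M i
  let ψ := φ ≪≫ₗ ((localCohomology _ i).mapIso
    (LocalizedModule.equivTensorProduct p.primeCompl M).symm.toModuleIso).toLinearEquiv ≪≫ₗ
      (e.app _).toLinearEquiv
  have h1 : Subsingleton (TensorProduct A R' (LocCoh.H I i M)) := ψ.toEquiv.subsingleton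
  have : IsLocalizedModule p.primeCompl (TensorProduct.mk A R' ((localCohomology I i).obj M) 1) :=
    (isLocalizedModule_iff_isBaseChange p.primeCompl R' _).mpr
      (TensorProduct.isBaseChange A _ R')
  obtain ⟨⟨c, hc⟩, hcy⟩ := (IsLocalizedModule.eq_zero_iff p.primeCompl
    (TensorProduct.mk A R' ((localCohomology I i).obj M) 1)).mp
    (@Subsingleton.elim _ h1 (TensorProduct.mk A R' ((localCohomology I i).obj M) 1 y) 0)
  exact ⟨c, hc, hcy⟩

omit [IsNoetherianRing A] in
lemma exists_pow_smul_of_le_radical (I : Ideal A) {b : A} (hb : b ∈ I.radical)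
    (M : ModuleCat.{u} A) (i : ℕ) (y : (localCohomology I i).obj M) : ∃ n : ℕ, b ^ n • y = 0 := by
  obtain ⟨k, hk⟩ := hb
  obtain ⟨m, hm⟩ := exists_pow_smul_eq_zero I M y
  exact ⟨k * m, hm _ (by rw [pow_mul]; exact Ideal.pow_mem_pow hk m)⟩

/-- Under the vanishing hypothesis the classes are `I'`-power torsion. -/
theorem exists_pow_smul_of_vanishes (I' : Ideal A) (M : ModuleCat.{u} A) (i : ℕ) (I : Ideal A) :
    VanishesBetween I I' M i → ∀ b ∈ I', ∀ y : (localCohomology I i).obj M,
      ∃ n : ℕ, b ^ n • y = 0 := by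
  induction I using (wellFounded_gt (α := Ideal A)).induction with
  | _ I ih =>
    intro h b hb y
    by_cases hall : ∀ p ∈ I.minimalPrimes, I' ≤ p
    · refine exists_pow_smul_of_le_radical I ?_ M i y
      rw [← Ideal.sInf_minimalPrimes]
      exact Ideal.mem_sInf.mpr fun {p} hp => hall p hp hb
    · push Not at hall
      obtain ⟨p, hp, hpI'⟩ := hall
      have := hp.isPrime
      obtain ⟨c, hcp, hcy⟩ := exists_notMem_smul_eq_zero I p hp M i
        (h ⟨p, this⟩ hp.1.2 hpI') y
      obtain ⟨e, he, hep⟩ := SetLike.not_le_iff_exists.mp hpI'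
      have hcep : c * e ∉ p := fun h' => (this.mem_or_mem h').elim hcp hep
      obtain ⟨y₁, rfl⟩ := (mem_range_φb_iff (c * e) I i M y).mpr
        ⟨1, by rw [pow_one, mul_comm, mul_smul, hcy, smul_zero]⟩
      have hlt : I < I ⊔ Ideal.span {c * e} := lt_of_le_of_ne le_sup_left fun heq => hcep
        (hp.1.2 (heq.symm ▸ Submodule.mem_sup_right (Ideal.mem_span_singleton_self _)))
      obtain ⟨n, hn⟩ := ih (I ⊔ Ideal.span {c * e}) hlt
        (fun q hq hq' => h q (le_sup_left.trans hq) hq') b hb y₁
      exact ⟨n, by rw [← map_smul, hn, map_zero]⟩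

lemma surjective_HmapOfLE_aux (I' : Ideal A) (M : ModuleCat.{u} A) (i : ℕ) (I : Ideal A) :
    ∀ (h : I ≤ I'), VanishesBetween I I' M i →
      Function.Surjective ((Dual2.HmapOfLE h i).app M) := by
  induction I using (wellFounded_gt (α := Ideal A)).induction with
  | _ I ih =>
    intro h hv y
    by_cases heq : I' ≤ I
    · obtain rfl := le_antisymm h heq
      obtain ⟨k, x, rfl⟩ := exists_loc I M y
      refine ⟨loc I M k x, ?_⟩
      rw [HmapOfLE_loc]
      have : qmap h k = 𝟙 (QI I k) := ModuleCat.hom_ext (Submodule.linearMap_qext _ rfl)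
      rw [this, Abelian.Ext.mk₀_id_comp]
    · obtain ⟨b, hb, hbI⟩ := SetLike.not_le_iff_exists.mp heq
      obtain ⟨n, hn⟩ := exists_pow_smul_of_vanishes I' M i I hv b hb y
      obtain ⟨y₁, rfl⟩ := (mem_range_φb_iff b I i M y).mpr ⟨n, hn⟩
      have hle : I ⊔ Ideal.span {b} ≤ I' := sup_le h ((Ideal.span_singleton_le_iff_mem _).mpr hb)
      obtain ⟨z, rfl⟩ := ih (I ⊔ Ideal.span {b})
        (lt_of_le_of_ne le_sup_left fun e => hbI
          (e.symm ▸ Submodule.mem_sup_right (Ideal.mem_span_singleton_self _))) hle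
        (fun q hq hq' => hv q (le_sup_left.trans hq) hq') y₁
      exact ⟨z, (HmapOfLE_trans le_sup_left hle M z).symm⟩

lemma injective_HmapOfLE_aux (I' : Ideal A) (M : ModuleCat.{u} A) (i : ℕ) (I : Ideal A) :
    ∀ (h : I ≤ I'), (∀ j, j + 1 = i → VanishesBetween I I' M j) →
      Function.Injective ((Dual2.HmapOfLE h i).app M) := by
  cases i with
  | zero => exact fun h _ => HmapOfLE_zero_injective h M
  | succ i =>
    induction I using (wellFounded_gt (α := Ideal A)).induction with
    | _ I ih =>
      intro h hv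
      by_cases heq : I' ≤ I
      · obtain rfl := le_antisymm h heq
        intro y y' hyy'
        have hid : ∀ z, (Dual2.HmapOfLE h (i + 1)).app M z = z := fun z => by
          obtain ⟨k, x, rfl⟩ := exists_loc I M z
          rw [HmapOfLE_loc]
          have : qmap h k = 𝟙 (QI I k) := ModuleCat.hom_ext (Submodule.linearMap_qext _ rfl)
          rw [this, Abelian.Ext.mk₀_id_comp]
        rwa [hid, hid] at hyy'
      · obtain ⟨b, hb, hbI⟩ := SetLike.not_le_iff_exists.mp heq
        have hle : I ⊔ Ideal.span {b} ≤ I' :=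
          sup_le h ((Ideal.span_singleton_le_iff_mem _).mpr hb)
        have h1 := ih (I ⊔ Ideal.span {b})
          (lt_of_le_of_ne le_sup_left fun e => hbI
            (e.symm ▸ Submodule.mem_sup_right (Ideal.mem_span_singleton_self _))) hle
          (fun j hj q hq hq' => hv j hj q (le_sup_left.trans hq) hq')
        have h2 : Function.Injective (φb b I (i + 1) M) := by
          obtain ⟨e⟩ := nonempty_coker_equiv b I i M
          refine LinearMap.ker_eq_bot.mp ((Submodule.eq_bot_iff _).mpr fun x hx => ?_)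
          obtain ⟨q, hq⟩ := e.surjective ⟨x, hx⟩
          obtain ⟨z, rfl⟩ := Submodule.Quotient.mk_surjective _ q
          obtain ⟨n, y, hy⟩ := exists_pow_smul_mem_range b I i M z
          obtain ⟨m, hm⟩ := exists_pow_smul_of_vanishes I' M i I (hv i rfl) b hb y
          have hz : (b ^ (m + n)) • z = 0 := by
            rw [pow_add, mul_smul, ← hy, ← map_smul, hm, map_zero]
          have hz0 : z = 0 := (smul_bijective b I i M ⟨b ^ (m + n), m + n, rfl⟩).1
            (hz.trans (smul_zero (b ^ (m + n))).symm)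
          rw [hz0, Submodule.Quotient.mk_zero, map_zero] at hq
          exact (congrArg Subtype.val hq).symm
        intro y y' hyy'
        refine h1 (h2 ?_)
        rw [HmapOfLE_trans, HmapOfLE_trans]
        exact hyy'

end Groth.Agent.LocCohBasic
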