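import Groth.Agent.Depth.CM
import Groth.Agent.LocCohBasic.Basic

/-!
# Local cohomology and depth
-/

universe u

open CategoryTheory Limits Opposite Abelian localCohomology LocCoh

namespace Groth.Agent.LocCohBasic

variable {R : Type u} [CommRing R] [IsNoetherianRing R] (I : Ideal R)
  (M : ModuleCat.{u} R) [Module.Finite R M]

lemma support_QI_subset (k : ℕ) :
    Module.support R (QI I k) ⊆ PrimeSpectrum.zeroLocus (I : Set R) := by
  rw [Module.support_eq_zeroLocus, Ideal.annihilator_quotient]
  rcases k.eq_zero_or_pos with rfl | hk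
  · intro p hp
    rw [PrimeSpectrum.mem_zeroLocus, pow_zero, Ideal.one_eq_top, SetLike.coe_subset_coe] at hp
    exact absurd (top_le_iff.mp hp) p.isPrime.ne_top
  · rw [PrimeSpectrum.zeroLocus_pow I hk.ne']

lemma subsingleton_of_lt_idealDepth {i : ℕ} (h : (i : ℕ∞) < idealDepth I M) :
    Subsingleton ((localCohomology I i).obj M) :=
  subsingleton_of_ext I M fun k =>
    Depth.subsingleton_ext_of_lt_idealDepth (support_QI_subset I k) h

/-- In degree `depth` the transition maps are injective. -/
lemma proj_comp_injective {n : ℕ} (hn : (n : ℕ∞) ≤ idealDepth I M) {k l : ℕ} (hk : 1 ≤ k)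
    (h : k ≤ l) : Function.Injective
      (fun x : Ext (QI I k) M n => (Ext.mk₀ (proj I h)).comp x (zero_add n)) := by
  intro x y hxy
  rw [← sub_eq_zero]
  set z := x - y
  have hz : (Ext.mk₀ (proj I h)).comp z (zero_add n) = 0 := by
    exact ((((Ext.mk₀ (proj I h)).precomp M (zero_add n))).map_sub x y).trans
      (sub_eq_zero.mpr hxy)
  have hsurj : Function.Surjective (proj I h).hom := by
    intro q
    obtain ⟨r, rfl⟩ := Ideal.Quotient.mk_surjective q
    exact ⟨Ideal.Quotient.mk _ r, rfl⟩
  let S := (proj I h).hom.shortComplexKer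
  have hS : S.ShortExact := LinearMap.shortExact_shortComplexKer hsurj
  cases n with
  | zero =>
    have := hS.epi_g
    exact Ext.precomp_mk₀_injective_of_epi M S.g (hz.trans (map_zero _).symm)
  | succ m =>
    obtain ⟨w, hw⟩ := Ext.contravariant_sequence_exact₃ hS M z hz (n₀ := m) (by omega)
    have hsupp : Module.support R S.X₁ ⊆ PrimeSpectrum.zeroLocus (I : Set R) :=
      (Module.support_subset_of_injective (LinearMap.ker (proj I h).hom).subtype
        (Submodule.injective_subtype _)).trans (support_QI_subset I l)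
    have := Depth.subsingleton_ext_of_lt_idealDepth (M := M) hsupp
      (i := m) (lt_of_lt_of_le (by exact_mod_cast Nat.lt_succ_self m) hn)
    rw [← hw, Subsingleton.eq_zero w, Ext.comp_zero]

lemma nontrivial_of_idealDepth_eq (hIM : I • (⊤ : Submodule R M) ≠ ⊤) {n : ℕ}
    (hn : idealDepth I M = n) : Nontrivial ((localCohomology I n).obj M) := by
  obtain ⟨x, hx⟩ : ∃ x : Ext (QI I 1) M n, x ≠ 0 := by
    by_contra! h
    have hsupp : Module.support R (QI I 1) = PrimeSpectrum.zeroLocus (I : Set R) := by
      rw [Module.support_eq_zeroLocus, Ideal.annihilator_quotient, pow_one]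
    have : ((n + 1 : ℕ) : ℕ∞) ≤ idealDepth I M :=
      (Depth.le_idealDepth_iff_ext_of_support hsupp).mpr fun i hi => by
        rcases Nat.lt_succ_iff_lt_or_eq.mp hi with h' | h'
        · exact Depth.subsingleton_ext_of_lt_idealDepth hsupp.subset
            (hn ▸ (by exact_mod_cast h'))
        · subst h'; exact subsingleton_of_forall_eq 0 h
    rw [hn] at this
    exact absurd (by exact_mod_cast this : n + 1 ≤ n) (by omega)
  refine nontrivial_of_ne (loc I M 1 x) 0 fun h0 => ?_
  obtain ⟨l, hl, hl'⟩ := (loc_eq_zero_iff I M x).mp h0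
  exact hx (proj_comp_injective I M hn.ge le_rfl hl
    (hl'.trans (Ext.comp_zero (Ext.mk₀ (proj I hl)) M n n (zero_add n)).symm))

/-- The depth is the first degree with nonzero local cohomology. -/
lemma le_idealDepth_iff_subsingleton {n : ℕ} :
    (n : ℕ∞) ≤ idealDepth I M ↔ ∀ i < n, Subsingleton ((localCohomology I i).obj M) := by
  refine ⟨fun h i hi => subsingleton_of_lt_idealDepth I M
    (lt_of_lt_of_le (by exact_mod_cast hi) h), fun h => ?_⟩
  by_cases hIM : I • (⊤ : Submodule R M) = ⊤
  · rw [Depth.idealDepth_eq_top hIM]; exact le_top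
  · obtain ⟨d, hd⟩ := Depth.exists_natCast_eq_idealDepth hIM
    rw [hd, Nat.cast_le]
    by_contra hlt
    exact not_subsingleton_iff_nontrivial.mpr (nontrivial_of_idealDepth_eq I M hIM hd)
      (h d (not_le.mp hlt))

end Groth.Agent.LocCohBasic
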