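import Groth.Agent.LocCohBasic.Vanish
import Mathlib.Algebra.Module.FinitePresentation
import Mathlib.RingTheory.LocalProperties.Projective

/-!
# Finiteness and annihilation of local cohomology
-/

universe u

open CategoryTheory LocCoh

namespace Groth.Agent.LocCohBasic

variable {R : Type u} [CommRing R] [IsNoetherianRing R] (I : Ideal R)

/-- A module squeezed between two finite ones is finite. -/
lemma finite_mid {A B C : Type u} [AddCommGroup A] [Module R A] [AddCommGroup B] [Module R B]
    [AddCommGroup C] [Module R C] [Module.Finite R A] [Module.Finite R C]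
    (f : A →ₗ[R] B) (g : B →ₗ[R] C) (h : ∀ b, g b = 0 → b ∈ LinearMap.range f) :
    Module.Finite R B :=
  ⟨Submodule.fg_of_fg_map_of_fg_inf_ker g (IsNoetherian.noetherian _)
    (by
      rw [top_inf_eq]
      have : LinearMap.ker g ≤ LinearMap.range f := h
      exact Submodule.FG.of_le_of_isNoetherian this)⟩

/-- `H^0` of a finite module is finite. -/
lemma finite_zero (M : ModuleCat.{u} R) [Module.Finite R M] :
    Module.Finite R ((localCohomology I 0).obj M) :=
  have : Module.Finite R (DRing.torsionSub I M) :=
    Module.Finite.of_injective (DRing.torsionSub I M).subtype Subtype.val_injective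
  let e : DRing.torsionSub I M ≃ₗ[R] (localCohomology I 0).obj M :=
    (((zeroIso I).app M).toLinearEquiv : _ ≃ₗ[R] DRing.torsionSub I M).symm
  Module.Finite.of_surjective (M := DRing.torsionSub I M) (hM := this) e.toLinearMap e.surjective

omit [IsNoetherianRing R] in
/-- Finitely generated local cohomology is killed by a power of the ideal. -/
lemma exists_pow_smul_of_finite {i : ℕ} (M : ModuleCat.{u} R)
    [Module.Finite R ((localCohomology I i).obj M)] :
    ∃ N : ℕ, ∀ a ∈ I ^ N, ∀ y : (localCohomology I i).obj M, a • y = 0 := by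
  obtain ⟨N, hN⟩ := exists_uniform_pow I
    (⊤ : Submodule R ((localCohomology I i).obj M)) Module.Finite.fg_top
    fun y _ => exists_pow_smul_eq_zero I M y
  exact ⟨N, fun a ha y => hN a ha y trivial⟩

omit [IsNoetherianRing R] in
/-- Uniform annihilation in a range of degrees. -/
lemma exists_pow_smul_of_finite_le (n : ℕ) (M : ModuleCat.{u} R)
    (h : ∀ i ≤ n, Module.Finite R ((localCohomology I i).obj M)) :
    ∃ N : ℕ, ∀ i ≤ n, ∀ a ∈ I ^ N, ∀ y : (localCohomology I i).obj M, a • y = 0 := by
  have h' : ∀ i : Fin (n + 1), ∃ N : ℕ, ∀ a ∈ I ^ N,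
      ∀ y : (localCohomology I i).obj M, a • y = 0 := fun i => by
    have := h i (by omega)
    exact exists_pow_smul_of_finite I M
  choose N hN using h'
  refine ⟨∑ i, N i, fun i hi a ha y => hN ⟨i, by omega⟩ a
    (Ideal.pow_le_pow_right (Finset.single_le_sum (f := N) (fun _ _ => Nat.zero_le _)
      (Finset.mem_univ (⟨i, by omega⟩ : Fin (n + 1)))) ha) y⟩

section Quotient

/-- The short complex `M ⟶ M ⟶ M ⧸ x M`. -/
noncomputable def smulSeq (M : ModuleCat.{u} R) (x : R) : ShortComplex (ModuleCat.{u} R) :=
  ModuleCat.shortComplexOfCompEqZero (LinearMap.lsmul R M x)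
    (LinearMap.range (LinearMap.lsmul R M x)).mkQ (LinearMap.range_mkQ_comp _)

omit [IsNoetherianRing R] in
lemma smulSeq_shortExact {M : ModuleCat.{u} R} {x : R} (hx : IsSMulRegular M x) :
    (smulSeq M x).ShortExact :=
  ModuleCat.shortComplex_shortExact _
    ((LinearMap.lsmul R M x).exact_map_mkQ_range) hx (Submodule.mkQ_surjective _)

instance (M : ModuleCat.{u} R) [Module.Finite R M] (x : R) :
    Module.Finite R (smulSeq M x).X₃ :=
  Module.Finite.of_surjective (LinearMap.range (LinearMap.lsmul R M x)).mkQ
    (Submodule.mkQ_surjective _)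

/-- The quotient by the torsion. -/
noncomputable abbrev modTorsion (M : ModuleCat.{u} R) : ModuleCat.{u} R :=
  ModuleCat.of R (M ⧸ DRing.torsionSub I M)

/-- `H^{i+1}(M) ≅ H^{i+1}(M ⧸ Γ M)`. -/
noncomputable def modTorsionEquiv (M : ModuleCat.{u} R) (i : ℕ) :
    (localCohomology I (i + 1)).obj M ≃ₗ[R] (localCohomology I (i + 1)).obj (modTorsion I M) :=
  LinearEquiv.ofBijective _ (map_mkQ_torsionSub_bijective I M i)

lemma subsingleton_zero_modTorsion (M : ModuleCat.{u} R) :
    Subsingleton ((localCohomology I 0).obj (modTorsion I M)) := by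
  have : Subsingleton (DRing.torsionSub I (modTorsion I M)) :=
    subsingleton_of_forall_eq 0 fun q => Subtype.ext
      (eq_zero_of_mem_torsionSub_quotient I q.2)
  exact Equiv.subsingleton (β := DRing.torsionSub I (modTorsion I M))
    ((((zeroIso I).app (modTorsion I M)).toLinearEquiv :
      _ ≃ₗ[R] DRing.torsionSub I (modTorsion I M))).toEquiv

lemma exists_regular_modTorsion (M : ModuleCat.{u} R) [Module.Finite R M] :
    ∃ x ∈ I, IsSMulRegular (modTorsion I M) x :=
  exists_mem_isSMulRegular I fun _ hm => eq_zero_of_mem_torsionSub_quotient I hm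

/-- Lower local cohomology of `M ⧸ Γ M`. -/
lemma modTorsion_cases {P : ∀ V : Type u, [AddCommGroup V] → [Module R V] → Prop}
    (hsub : ∀ (V : Type u) [AddCommGroup V] [Module R V], Subsingleton V → P V)
    (hequiv : ∀ (V W : Type u) [AddCommGroup V] [Module R V] [AddCommGroup W] [Module R W],
      (V ≃ₗ[R] W) → P V → P W)
    (M : ModuleCat.{u} R) (i : ℕ) (h : P ((localCohomology I i).obj M)) :
    P ((localCohomology I i).obj (modTorsion I M)) := by
  cases i with
  | zero => exact hsub _ (subsingleton_zero_modTorsion I M)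
  | succ i => exact hequiv _ _ (modTorsionEquiv I M i) h

end Quotient

/-- Annihilated local cohomology of a finite module is finite. -/
theorem finite_of_annihilated (n : ℕ) : ∀ (M : ModuleCat.{u} R) [Module.Finite R M] (N : ℕ),
    (∀ i ≤ n, ∀ a ∈ I ^ N, ∀ y : (localCohomology I i).obj M, a • y = 0) →
    ∀ i ≤ n, Module.Finite R ((localCohomology I i).obj M) := by
  induction n with
  | zero =>
    intro M _ N _ i hi
    obtain rfl : i = 0 := by omega
    exact finite_zero I M
  | succ n ih =>
    intro M _ N hN i hi
    rcases Nat.lt_or_ge i (n + 1) with hlt | hge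
    · exact ih M N (fun j hj => hN j (by omega)) i (by omega)
    obtain rfl : i = n + 1 := by omega
    set M' := modTorsion I M
    suffices Module.Finite R ((localCohomology I (n + 1)).obj M') from
      Module.Finite.equiv (modTorsionEquiv I M n).symm
    have hN' : ∀ j ≤ n + 1, ∀ a ∈ I ^ N, ∀ y : (localCohomology I j).obj M', a • y = 0 :=
      fun j hj a ha => modTorsion_cases I (P := fun V => ∀ y : V, a • y = 0)
        (fun V _ _ _ y => Subsingleton.elim _ _)
        (fun V W _ _ _ _ e hV w => by rw [← e.apply_symm_apply w, ← map_smul, hV, map_zero])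
        M j (hN j hj a ha)
    obtain ⟨x, hxI, hx⟩ := exists_regular_modTorsion I M
    have hS := smulSeq_shortExact (hx.pow N)
    have hδ : Function.Surjective (delta I n hS) := fun y =>
      exists_of_map_f_eq_zero I hS y
        ((map_lsmul I M' _ y).trans (hN' (n + 1) le_rfl _ (Ideal.pow_mem_pow hxI N) y))
    have : Module.Finite R ((localCohomology I n).obj (smulSeq M' (x ^ N)).X₃) := by
      refine ih (smulSeq M' (x ^ N)).X₃ (N + N) (fun j hj a ha z => ?_) n le_rfl
      rw [pow_add] at ha
      induction ha using Submodule.mul_induction_on' with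
      | mem_mul_mem b hb c hc =>
        obtain ⟨w, hw⟩ := exists_of_delta_eq_zero I hS (c • z)
          ((map_smul (delta I j hS).hom c z).trans (hN' (j + 1) (by omega) c hc _))
        rw [mul_smul, ← hw, ← map_smul]
        exact (congrArg _ (hN' j (by omega) b hb w)).trans (map_zero _)
      | add p _ q _ hp hq => rw [add_smul, hp, hq, add_zero]
    exact Module.Finite.of_surjective (delta I n hS).hom hδ

/-- The finiteness criterion. -/
theorem forall_finite_iff (n : ℕ) (M : ModuleCat.{u} R) [Module.Finite R M] :
    (∀ i ≤ n, Module.Finite R ((localCohomology I i).obj M)) ↔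
      ∃ N : ℕ, ∀ i ≤ n, ∀ a ∈ I ^ N, ∀ y : (localCohomology I i).obj M, a • y = 0 :=
  ⟨exists_pow_smul_of_finite_le I n M, fun ⟨N, hN⟩ => finite_of_annihilated I n M N hN⟩

section TorsionBy

/-- If the lower local cohomology is finite, so is `(0 : I^k)` in the next one. -/
theorem finite_torsionBy (n k : ℕ) : ∀ (M : ModuleCat.{u} R) [Module.Finite R M],
    (∀ i < n, Module.Finite R ((localCohomology I i).obj M)) →
    Module.Finite R (LocCoh.torsionBy (I ^ k) ((localCohomology I n).obj M)) := by
  induction n with
  | zero =>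
    intro M _ _
    have := finite_zero I M
    infer_instance
  | succ n ih =>
    intro M _ hlow
    set M' := modTorsion I M
    have hlow' : ∀ i < n + 1, Module.Finite R ((localCohomology I i).obj M') :=
      fun i hi => modTorsion_cases I (P := fun V => Module.Finite R V)
        (fun V _ _ _ => inferInstance) (fun V W _ _ _ _ e hV => Module.Finite.equiv e)
        M i (hlow i hi)
    suffices Module.Finite R (LocCoh.torsionBy (I ^ k) ((localCohomology I (n + 1)).obj M')) by
      refine Module.Finite.of_injective
        ((modTorsionEquiv I M n).toLinearMap.restrict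
          (p := LocCoh.torsionBy (I ^ k) _) (q := LocCoh.torsionBy (I ^ k) _)
          fun y hy => (Submodule.mem_torsionBySet_iff _ _).mpr fun a => by
            rw [LinearEquiv.coe_coe, ← map_smul, (Submodule.mem_torsionBySet_iff _ _).mp hy a,
              map_zero])
        fun a b h => Subtype.ext ((modTorsionEquiv I M n).injective (congrArg Subtype.val h :))
    obtain ⟨x, hxI, hx⟩ := exists_regular_modTorsion I M
    have hS := smulSeq_shortExact (hx.pow k)
    set Q := (smulSeq M' (x ^ k)).X₃
    set d : (localCohomology I n).obj Q →ₗ[R] (localCohomology I (n + 1)).obj M' :=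
      (delta I n hS).hom
    set G := LinearMap.range ((localCohomology I n).map (smulSeq M' (x ^ k)).g).hom
    have hG : Module.Finite R G := by
      have : Module.Finite R ((localCohomology I n).obj (smulSeq M' (x ^ k)).X₂) :=
        hlow' n (Nat.lt_succ_self n)
      exact Module.Finite.range _
    have hlowQ : ∀ i < n, Module.Finite R ((localCohomology I i).obj Q) := by
      intro i hi
      have := hlow' i (by omega)
      have := hlow' (i + 1) (by omega)
      have h1 : Module.Finite R ((localCohomology I i).obj (smulSeq M' (x ^ k)).X₂) :=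
        hlow' i (by omega)
      have h2 : Module.Finite R ((localCohomology I (i + 1)).obj (smulSeq M' (x ^ k)).X₁) :=
        hlow' (i + 1) (by omega)
      exact finite_mid (A := (localCohomology I i).obj (smulSeq M' (x ^ k)).X₂)
        ((localCohomology I i).map (smulSeq M' (x ^ k)).g).hom
        (C := (localCohomology I (i + 1)).obj (smulSeq M' (x ^ k)).X₁) (delta I i hS).hom
        fun z hz => exists_of_delta_eq_zero I hS z hz
    have := ih Q hlowQ
    let W := (LocCoh.torsionBy (I ^ k) ((localCohomology I (n + 1)).obj M')).comap d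
    obtain ⟨s, hs⟩ := IsNoetherian.noetherian (I ^ k)
    have hW : ∀ (w : W) (a : {a : R // a ∈ s}), (a : R) • (w : (localCohomology I n).obj Q) ∈ G :=
      fun w a => exists_of_delta_eq_zero I hS _ ((map_smul d _ _).trans
        ((Submodule.mem_torsionBySet_iff _ _).mp w.2 ⟨a, hs ▸ Ideal.subset_span a.2⟩))
    have : Module.Finite R W := by
      let g : W →ₗ[R] ({a : R // a ∈ s} → G) := LinearMap.pi fun a =>
        ((LinearMap.lsmul R _ (a : R)) ∘ₗ W.subtype).codRestrict G fun w => hW w a
      have hker : ∀ w, g w = 0 → (w : (localCohomology I n).obj Q) ∈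
          LocCoh.torsionBy (I ^ k) ((localCohomology I n).obj Q) := by
        intro w hw
        rw [← hs]
        change (w : (localCohomology I n).obj Q) ∈
          Submodule.torsionBySet R _ (Submodule.span R (s : Set R) : Set R)
        rw [← Submodule.torsionBySet_eq_torsionBySet_span, Submodule.mem_torsionBySet_iff]
        exact fun a => congrArg Subtype.val (congrFun hw ⟨a.1, a.2⟩)
      have : Module.Finite R (LinearMap.ker g) := Module.Finite.of_injective
        ((W.subtype ∘ₗ (LinearMap.ker g).subtype).codRestrict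
          (LocCoh.torsionBy (I ^ k) _) fun w => hker w.1 w.2)
        fun a b h => Subtype.ext (Subtype.ext (congrArg Subtype.val h :))
      exact finite_mid (LinearMap.ker g).subtype g fun w hw => by simpa using hw
    refine Module.Finite.of_surjective
      ((d ∘ₗ W.subtype).codRestrict (LocCoh.torsionBy (I ^ k) _) fun w => w.2) ?_
    rintro ⟨y, hy⟩
    have hy0 : (x ^ k) • y = 0 :=
      (Submodule.mem_torsionBySet_iff _ _).mp hy ⟨_, Ideal.pow_mem_pow hxI k⟩
    obtain ⟨z, hz⟩ := exists_of_map_f_eq_zero I hS y ((map_lsmul I M' _ y).trans hy0)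
    exact ⟨⟨z, show d z ∈ LocCoh.torsionBy (I ^ k) _ by rw [show d z = y from hz]; exact hy⟩,
      Subtype.ext hz⟩

/-- If the lower local cohomology is finite and the next is locally finite, it is finite. -/
theorem finite_of_locally (n : ℕ) (M : ModuleCat.{u} R) [Module.Finite R M]
    (hlow : ∀ i < n, Module.Finite R ((localCohomology I i).obj M))
    (hloc : ∀ (p : Ideal R) [p.IsPrime], Module.Finite (Localization.AtPrime p)
      (LocalizedModule p.primeCompl ((localCohomology I n).obj M))) :
    Module.Finite R ((localCohomology I n).obj M) := by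
  classical
  set H := (localCohomology I n).obj M
  let T : ℕ → Submodule R H := fun k => LocCoh.torsionBy (I ^ k) H
  have hT : ∀ k, Module.Finite R (T k) := fun k => finite_torsionBy I n k M hlow
  have hmem : ∀ {k : ℕ} {y : H}, y ∈ T k ↔ ∀ a ∈ I ^ k, a • y = 0 := fun {k y} =>
    (Submodule.mem_torsionBySet_iff _ _).trans ⟨fun h a ha => h ⟨a, ha⟩, fun h a => h a a.2⟩
  have hmono : Monotone T := fun a b hab y hy =>
    hmem.mpr fun r hr => hmem.mp hy r (Ideal.pow_le_pow_right hab hr)
  let c : ℕ → Ideal R := fun k => (T k).colon (T (k + 1))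
  have hc : Monotone c := by
    refine monotone_nat_of_le_succ fun k s hs => Submodule.mem_colon.mpr fun y hy => ?_
    refine hmem.mpr fun a ha => ?_
    rw [pow_succ] at ha
    induction ha using Submodule.mul_induction_on' with
    | mem_mul_mem b hb e he =>
      have hey : e • y ∈ T (k + 1) := hmem.mpr fun a' ha' => by
        rw [← mul_smul]
        exact hmem.mp hy _ (by rw [pow_succ _ (k + 1)]; exact Ideal.mul_mem_mul ha' he)
      rw [mul_smul, smul_comm e s y]
      exact hmem.mp (Submodule.mem_colon.mp hs _ hey) b hb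
    | add p _ q _ hp hq => rw [add_smul, hp, hq, add_zero]
  obtain ⟨k₀, hk₀⟩ := (monotone_stabilizes_iff_noetherian.mpr
    (inferInstanceAs (IsNoetherian R R))) ⟨c, hc⟩
  have htop : c k₀ = ⊤ := by
    by_contra hne
    obtain ⟨p, hp, hle⟩ := Ideal.exists_le_maximal _ hne
    have := hp.isPrime
    obtain ⟨t, ht⟩ := (hloc p).fg_top
    choose num den hnd using fun z : LocalizedModule p.primeCompl H =>
      IsLocalizedModule.mk'_surjective p.primeCompl (LocalizedModule.mkLinearMap p.primeCompl H) z
        |> fun ⟨⟨a, b⟩, h⟩ => (⟨a, b, h⟩ : ∃ (a : H) (b : p.primeCompl), IsLocalizedModule.mk'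
          (LocalizedModule.mkLinearMap p.primeCompl H) a b = z)
    choose e he using fun z => exists_pow_smul_eq_zero I M (num z)
    obtain ⟨k, hk0, hk⟩ : ∃ k, k₀ ≤ k ∧ ∀ z ∈ t, num z ∈ T k :=
      ⟨k₀ + ∑ z ∈ t, e z, Nat.le_add_right _ _, fun z hz => hmono
        (le_trans (Finset.single_le_sum (fun _ _ => Nat.zero_le _) hz) (Nat.le_add_left _ _))
        (hmem.mpr (he z))⟩
    have hall : ∀ y : H, ∃ s : R, s ∉ p ∧ s • y ∈ T k := by
      intro y
      have hy : LocalizedModule.mkLinearMap p.primeCompl H y ∈
          Submodule.span (Localization.AtPrime p) (t : Set _) := by rw [ht]; trivial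
      suffices ∀ z ∈ Submodule.span (Localization.AtPrime p) (t : Set _),
          ∀ y : H, ∀ b : p.primeCompl,
          IsLocalizedModule.mk' (LocalizedModule.mkLinearMap p.primeCompl H) y b = z →
          ∃ s : R, s ∉ p ∧ s • y ∈ T k from
        this _ hy y 1 (IsLocalizedModule.mk'_one _ _ _)
      intro z hz
      let L : Submodule (Localization.AtPrime p) (LocalizedModule p.primeCompl H) :=
        (T k).localized p.primeCompl
      have hzL : z ∈ L := by
        refine Submodule.span_le.mpr (fun w hw => ?_) hz
        exact ⟨num w, hk w hw, den w, hnd w⟩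
      obtain ⟨m, hm, b', hmb⟩ := hzL
      intro y b hyb
      rw [← hmb, IsLocalizedModule.mk'_eq_mk'_iff] at hyb
      obtain ⟨u, hu⟩ := hyb
      refine ⟨(u : R) * (b' : R), fun hmem' => ?_, ?_⟩
      · rcases (‹p.IsPrime›).mem_or_mem hmem' with h | h
        · exact u.2 h
        · exact b'.2 h
      · have hu' : ((u : R) * (b' : R)) • y = ((u : R) * (b : R)) • m := by
          simpa only [Submonoid.smul_def, ← mul_smul] using hu.symm
        rw [hu']
        exact Submodule.smul_mem _ _ hm
    obtain ⟨g, hg⟩ := (hT (k + 1)).fg_top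
    choose s hsp hs using hall
    have hmem_c : (∏ y ∈ g, s (y : H)) ∈ c k := by
      refine Submodule.mem_colon.mpr fun y hy => ?_
      have hy' : (⟨y, hy⟩ : T (k + 1)) ∈ Submodule.span R (g : Set (T (k + 1))) := by
        rw [hg]; trivial
      suffices ∀ w ∈ Submodule.span R (g : Set (T (k + 1))),
          (∏ y ∈ g, s (y : H)) • (w : H) ∈ T k from this _ hy'
      intro w hw
      induction hw using Submodule.span_induction with
      | mem w hw =>
        rw [← Finset.prod_erase_mul g _ hw, mul_smul]
        exact Submodule.smul_mem _ _ (hs w)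
      | zero => simp
      | add a b _ _ ha hb => rw [Submodule.coe_add, smul_add]; exact add_mem ha hb
      | smul r a _ ha => rw [Submodule.coe_smul, smul_comm]; exact Submodule.smul_mem _ _ ha
    have hck : c k ≤ p := (hk₀ k hk0).symm.le.trans hle
    obtain ⟨y, -, hy⟩ := (‹p.IsPrime›.prod_mem_iff).mp (hck hmem_c)
    exact hsp _ hy
  have hall : ∀ y : H, y ∈ T k₀ := by
    intro y
    obtain ⟨e, he⟩ := exists_pow_smul_eq_zero I M y
    suffices ∀ j, T (k₀ + j) ≤ T k₀ from
      this e (hmono (Nat.le_add_left _ _) (hmem.mpr he))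
    intro j
    induction j with
    | zero => exact le_rfl
    | succ j ihj =>
      refine le_trans (fun w hw => ?_) ihj
      have h1 : (1 : R) ∈ c (k₀ + j) := by
        rw [show c (k₀ + j) = c k₀ from (hk₀ _ (Nat.le_add_right _ _)).symm, htop]; trivial
      simpa using Submodule.mem_colon.mp h1 w hw
  exact Module.Finite.of_surjective (T k₀).subtype fun y => ⟨⟨y, hall y⟩, rfl⟩

/-- Finiteness of local cohomology is local. -/
theorem forall_finite_iff_locally (n : ℕ) (M : ModuleCat.{u} R) [Module.Finite R M] :
    (∀ i ≤ n, Module.Finite R ((localCohomology I i).obj M)) ↔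
      ∀ (p : Ideal R) [p.IsPrime], ∀ i ≤ n, Module.Finite (Localization.AtPrime p)
        (LocalizedModule p.primeCompl ((localCohomology I i).obj M)) := by
  refine ⟨fun h p _ i hi => ?_, fun h i hi => ?_⟩
  · have := h i hi
    infer_instance
  · induction i using Nat.strong_induction_on with
    | _ i ih =>
      exact finite_of_locally I i M (fun j hj => ih j hj (by omega)) (fun p _ => h p i hi)

end TorsionBy

section LocallyFree

omit [IsNoetherianRing R] in
/-- `H^i(R^m)` is killed by what kills `H^i(R)`. -/
lemma smul_pi_eq_zero {m i : ℕ} {a : R}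
    (ha : ∀ y : (localCohomology I i).obj (ModuleCat.of R R), a • y = 0)
    (y : (localCohomology I i).obj (ModuleCat.of R (Fin m → R))) : a • y = 0 := by
  let P := ModuleCat.of R (Fin m → R)
  have hid : 𝟙 P = ∑ j, ModuleCat.ofHom (LinearMap.proj j : (Fin m → R) →ₗ[R] R) ≫
      ModuleCat.ofHom (LinearMap.single R (fun _ : Fin m => R) j) := by
    refine ModuleCat.hom_ext ?_
    rw [ModuleCat.hom_sum]
    refine LinearMap.ext fun v => ?_
    rw [LinearMap.sum_apply]
    funext l
    simp [P, Pi.single_apply]
  have h2 := congrArg (fun f => ((localCohomology I i).map f).hom y) hid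
  simp only [Functor.map_sum, Functor.map_comp, ModuleCat.hom_sum,
    LinearMap.sum_apply, ModuleCat.hom_comp, LinearMap.comp_apply] at h2
  have hy : ((localCohomology I i).map (𝟙 P)).hom y = y := by
    rw [CategoryTheory.Functor.map_id]; rfl
  rw [hy] at h2
  rw [h2, Finset.smul_sum]
  refine Finset.sum_eq_zero fun j _ => ?_
  rw [← map_smul, ha, map_zero]

/-- Projective after localisation: a scalar factors through a free module. -/
lemma exists_factor_free (S : Submonoid R) (M : Type u) [AddCommGroup M] [Module R M]
    [Module.Finite R M] [Module.Projective (Localization S) (LocalizedModule S M)] :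
    ∃ (s : S) (m : ℕ) (f : M →ₗ[R] Fin m → R) (g : (Fin m → R) →ₗ[R] M),
      g ∘ₗ f = (s : R) • LinearMap.id := by
  have : Module.FinitePresentation R M := Module.finitePresentation_of_finite R M
  obtain ⟨m, π, hπ⟩ := Module.Finite.exists_fin' R M
  let πS := LocalizedModule.map S π
  have hπS : Function.Surjective πS := LocalizedModule.map_surjective S π hπ
  obtain ⟨σ, hσ⟩ := Module.projective_lifting_property πS LinearMap.id hπS
  let ι := LocalizedModule.mkLinearMap S M
  let ι' := LocalizedModule.mkLinearMap S (Fin m → R)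
  obtain ⟨f, t, hf⟩ := Module.FinitePresentation.exists_lift_of_isLocalizedModule S ι'
    (σ.restrictScalars R ∘ₗ ι)
  have hcomp : ι ∘ₗ (π ∘ₗ f) = ι ∘ₗ ((t : R) • LinearMap.id) := by
    refine LinearMap.ext fun x => ?_
    have h1 : ι' (f x) = (t : R) • σ (ι x) := by
      have := LinearMap.congr_fun hf x
      simpa [Submonoid.smul_def] using this
    have h2 : ∀ v, ι (π v) = πS (ι' v) := fun v => by simp [ι, ι', πS, LocalizedModule.map_mk]
    calc ι (π (f x)) = πS (ι' (f x)) := h2 _
      _ = (t : R) • πS (σ (ι x)) := by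
        rw [h1]; exact (πS.restrictScalars R).map_smul _ _
      _ = (t : R) • ι x := congrArg _ (LinearMap.congr_fun hσ _)
      _ = ι ((t : R) • x) := (ι.map_smul _ _).symm
  obtain ⟨s, hs⟩ := Module.Finite.exists_smul_of_comp_eq_of_isLocalizedModule S ι _ _ hcomp
  refine ⟨s * t, m, f, (s : R) • π, ?_⟩
  rw [LinearMap.smul_comp]
  refine (show (s : R) • (π ∘ₗ f) = (s : R) • ((t : R) • LinearMap.id) from hs).trans ?_
  rw [smul_smul, Submonoid.coe_mul]

omit [IsNoetherianRing R] in
/-- Annihilation through a free module. -/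
lemma mul_smul_eq_zero_of_factor {M : Type u} [AddCommGroup M] [Module R M] {m i : ℕ} {s a : R}
    {f : M →ₗ[R] Fin m → R} {g : (Fin m → R) →ₗ[R] M} (hfg : g ∘ₗ f = s • LinearMap.id)
    (ha : ∀ y : (localCohomology I i).obj (ModuleCat.of R R), a • y = 0)
    (y : (localCohomology I i).obj (ModuleCat.of R M)) : (s * a) • y = 0 := by
  have h1 : ModuleCat.ofHom f ≫ ModuleCat.ofHom g =
      ModuleCat.ofHom (LinearMap.lsmul R M s) := by
    refine ModuleCat.hom_ext (LinearMap.ext fun x => ?_)
    exact LinearMap.congr_fun hfg x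
  have h2 : s • y = (localCohomology I i).map (ModuleCat.ofHom g)
      ((localCohomology I i).map (ModuleCat.ofHom f) y) := by
    rw [← ModuleCat.comp_apply, ← Functor.map_comp, h1]
    exact (map_lsmul I (ModuleCat.of R M) s y).symm
  rw [mul_comm, mul_smul, h2, ← map_smul, smul_pi_eq_zero I ha, map_zero]

/-- Modules locally free away from `V(I)` inherit annihilators from the ring. -/
theorem exists_pow_smul_of_projective_away {J : Ideal R} (hJI : J ≤ I) (i n : ℕ)
    (hA : ∀ a ∈ J ^ n, ∀ y : (localCohomology I i).obj (ModuleCat.of R R), a • y = 0)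
    (M : Type u) [AddCommGroup M] [Module R M] [Module.Finite R M]
    (hM : ∀ f ∈ I, Module.Projective (Localization.Away f)
      (LocalizedModule (Submonoid.powers f) M)) :
    ∃ k : ℕ, ∀ a ∈ J ^ k, ∀ y : (localCohomology I i).obj (ModuleCat.of R M), a • y = 0 := by
  let C : Ideal R :=
    (Module.annihilator R ((localCohomology I i).obj (ModuleCat.of R M))).colon (↑(J ^ n) : Set R)
  have hC : ∀ {c : R}, (∀ a ∈ J ^ n, ∀ y : (localCohomology I i).obj (ModuleCat.of R M),
      (c * a) • y = 0) → c ∈ C := fun {c} hc =>
    Submodule.mem_colon.mpr fun a ha => Module.mem_annihilator.mpr (hc a ha)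
  have hrad : J ≤ C.radical := by
    intro f hf
    have := hM f (hJI hf)
    obtain ⟨⟨s, ⟨e, rfl⟩⟩, m, φ, ψ, hfg⟩ := exists_factor_free (Submonoid.powers f) M
    exact ⟨e, hC fun a ha => mul_smul_eq_zero_of_factor I hfg (hA a ha)⟩
  obtain ⟨k, hk⟩ := Ideal.exists_pow_le_of_le_radical_of_fg hrad J.fg_of_isNoetherianRing
  refine ⟨k + n, fun a ha => ?_⟩
  rw [pow_add] at ha
  intro y
  induction ha using Submodule.mul_induction_on' with
  | mem_mul_mem b hb c hc =>
    exact Module.mem_annihilator.mp (Submodule.mem_colon.mp (hk hb) c hc) y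
  | add p _ q _ hp hq => rw [add_smul, hp, hq, add_zero]

end LocallyFree

end Groth.Agent.LocCohBasic
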