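import Groth.Agent.LocCohBasic.Vanish
import Groth.Agent.MatlisDual.Completion
import Mathlib.RingTheory.KrullDimension.Regular

/-!
# Local cohomology at the maximal ideal: Artinian, non-vanishing
-/

universe u

open CategoryTheory LocCoh IsLocalRing

namespace Groth.Agent.LocCohBasic

variable {R : Type u} [CommRing R] [IsLocalRing R] [IsNoetherianRing R]

omit [IsNoetherianRing R] in
lemma finite_socle_of_isArtinian {V : Type u} [AddCommGroup V] [Module R V] (N : Submodule R V)
    [IsArtinian R N] (h : LocCoh.torsionBy (maximalIdeal R) V ≤ N) :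
    Module.Finite (R ⧸ maximalIdeal R) ↥(LocCoh.torsionBy (maximalIdeal R) V) := by
  let : Field (R ⧸ maximalIdeal R) := Ideal.Quotient.field _
  have : IsArtinian R ↥(LocCoh.torsionBy (maximalIdeal R) V) := isArtinian_of_le h
  have : IsArtinian (R ⧸ maximalIdeal R) ↥(LocCoh.torsionBy (maximalIdeal R) V) :=
    isArtinian_of_tower R this
  exact (IsSemisimpleModule.finite_tfae.out 2 0).mp this

lemma isArtinian_iff' (M : Type u) [AddCommGroup M] [Module R M] :
    IsArtinian R M ↔ (IsPowerTorsion (maximalIdeal R) M ∧
      Module.Finite (R ⧸ maximalIdeal R) ↥(LocCoh.torsionBy (maximalIdeal R) M)) := by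
  obtain ⟨E, _, _, f, hf⟩ := InjHullBasic.exists_isInjectiveHull R (ResidueField R)
  exact MatlisDual.isArtinian_iff hf M

/-- A finite torsion module is Artinian. -/
lemma isArtinian_of_torsion {N : Type u} [AddCommGroup N] [Module R N] [Module.Finite R N]
    (h : IsPowerTorsion (maximalIdeal R) N) : IsArtinian R N := by
  refine (isArtinian_iff' N).mpr ⟨h, ?_⟩
  have : Module.Finite R ↥(LocCoh.torsionBy (maximalIdeal R) N) := inferInstance
  exact Module.Finite.of_restrictScalars_finite R _ _

omit [IsNoetherianRing R] in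
/-- An Artinian module killed by a power of the maximal ideal is finite. -/
lemma finite_of_isArtinian_killed (k : ℕ) : ∀ (V : Type u) [AddCommGroup V] [Module R V]
    [IsArtinian R V], (∀ a ∈ maximalIdeal R ^ k, ∀ x : V, a • x = 0) → Module.Finite R V := by
  induction k with
  | zero =>
    intro V _ _ _ h
    have : Subsingleton V := subsingleton_of_forall_eq 0 fun x => by
      simpa using h 1 (by simp) x
    infer_instance
  | succ k ih =>
    intro V _ _ _ h
    let : Field (R ⧸ maximalIdeal R) := Ideal.Quotient.field _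
    let S := LocCoh.torsionBy (maximalIdeal R) V
    have := finite_socle_of_isArtinian S le_rfl
    have h1 : Module.Finite R S := Module.Finite.trans (R ⧸ maximalIdeal R) S
    have h2 : Module.Finite R (V ⧸ S) := ih (V ⧸ S) fun a ha q => by
      obtain ⟨x, rfl⟩ := Submodule.Quotient.mk_surjective _ q
      rw [← Submodule.Quotient.mk_smul, Submodule.Quotient.mk_eq_zero,
        Submodule.mem_torsionBySet_iff]
      rintro ⟨b, hb⟩
      change b • a • x = 0
      rw [← mul_smul]
      exact h _ (by rw [pow_succ']; exact Ideal.mul_mem_mul hb ha) x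
    exact Module.Finite.of_submodule_quotient S

/-- Local cohomology at the maximal ideal of a finite module is Artinian. -/
theorem isArtinian_localCohomology (i : ℕ) : ∀ (M : ModuleCat.{u} R) [Module.Finite R M],
    IsArtinian R ((localCohomology (maximalIdeal R) i).obj M) := by
  induction i with
  | zero =>
    intro M _
    have h : IsArtinian R (DRing.torsionSub (maximalIdeal R) M) :=
      isArtinian_of_torsion (isPowerTorsion_torsionSub _ M)
    exact (((zeroIso (maximalIdeal R)).app M).toLinearEquiv :
      _ ≃ₗ[R] DRing.torsionSub (maximalIdeal R) M).isArtinian_iff.mpr h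
  | succ i ih =>
    intro M _
    let M' : ModuleCat.{u} R := ModuleCat.of R (M ⧸ DRing.torsionSub (maximalIdeal R) M)
    suffices IsArtinian R ((localCohomology (maximalIdeal R) (i + 1)).obj M') from
      (LinearEquiv.ofBijective _
        (map_mkQ_torsionSub_bijective (maximalIdeal R) M i)).isArtinian_iff.mpr this
    refine (isArtinian_iff' _).mpr ⟨exists_pow_smul_eq_zero _ _, ?_⟩
    obtain ⟨x, hxI, hx⟩ := exists_mem_isSMulRegular (maximalIdeal R) (M := M')
      fun m hm => eq_zero_of_mem_torsionSub_quotient _ hm
    let S := ModuleCat.shortComplexOfCompEqZero (LinearMap.lsmul R M' x)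
      (LinearMap.range (LinearMap.lsmul R M' x)).mkQ (LinearMap.range_mkQ_comp _)
    have hS : S.ShortExact := ModuleCat.shortComplex_shortExact _
      ((LinearMap.lsmul R M' x).exact_map_mkQ_range) hx (Submodule.mkQ_surjective _)
    have : Module.Finite R S.X₃ := inferInstanceAs (Module.Finite R (M' ⧸ _))
    have := ih S.X₃
    have : IsArtinian R (LinearMap.range (delta (maximalIdeal R) i hS).hom) :=
      isArtinian_of_surjective _ _ (delta (maximalIdeal R) i hS).hom.surjective_rangeRestrict
    refine finite_socle_of_isArtinian (LinearMap.range (delta (maximalIdeal R) i hS).hom) ?_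
    intro y hy
    have hxy : x • y = 0 := (Submodule.mem_torsionBySet_iff _ _).mp hy ⟨x, hxI⟩
    exact exists_of_map_f_eq_zero _ hS y ((map_lsmul _ M' x y).trans hxy)

omit [IsLocalRing R] [IsNoetherianRing R] in
/-- Artinian modules have secondary decompositions. -/
theorem exists_secondary_decomposition (V : Type u) [AddCommGroup V] [Module R V] [IsArtinian R V] :
    ∃ s : Finset (Submodule R V), s.sup id = ⊤ ∧ ∀ C ∈ s, C ≠ ⊥ ∧ ∀ r : R,
      (∀ y ∈ C, ∃ x ∈ C, r • x = y) ∨ ∃ n : ℕ, ∀ x ∈ C, r ^ n • x = 0 := by
  classical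
  suffices ∀ C : Submodule R V, ∃ s : Finset (Submodule R V), s.sup id = C ∧ ∀ C ∈ s, C ≠ ⊥ ∧
      ∀ r : R, (∀ y ∈ C, ∃ x ∈ C, r • x = y) ∨ ∃ n : ℕ, ∀ x ∈ C, r ^ n • x = 0 from this ⊤
  intro C
  induction C using WellFoundedLT.induction with
  | _ C ih =>
    by_cases hC : C = ⊥
    · exact ⟨∅, by simp [hC], by simp⟩
    by_cases hsec : ∀ r : R, (∀ y ∈ C, ∃ x ∈ C, r • x = y) ∨ ∃ n : ℕ, ∀ x ∈ C, r ^ n • x = 0
    · exact ⟨{C}, by simp, by simpa using ⟨hC, hsec⟩⟩
    push Not at hsec
    obtain ⟨r, ⟨y, hy, hy'⟩, hr⟩ := hsec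
    let c : ℕ →o (Submodule R V)ᵒᵈ := ⟨fun n => OrderDual.toDual (C.map (LinearMap.lsmul R V (r ^ n))),
      monotone_nat_of_le_succ fun n => by
        rintro _ ⟨x, hx, rfl⟩
        exact ⟨r • x, C.smul_mem r hx, by simp only [LinearMap.lsmul_apply]; rw [pow_succ, mul_smul]⟩⟩
    obtain ⟨n, hn⟩ := IsArtinian.monotone_stabilizes c
    let P := C.map (LinearMap.lsmul R V (r ^ (n + 1)))
    let K := C ⊓ LinearMap.ker (LinearMap.lsmul R V (r ^ (n + 1)))
    have hP : P < C := by
      refine lt_of_le_of_ne ?_ fun h => ?_
      · rintro _ ⟨x, hx, rfl⟩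
        exact C.smul_mem _ hx
      · obtain ⟨x, hx, hxy⟩ : y ∈ P := h ▸ hy
        exact hy' (r ^ n • x) (C.smul_mem _ hx) (by rw [← mul_smul, ← pow_succ']; exact hxy)
    have hK : K < C := by
      refine lt_of_le_of_ne inf_le_left fun h => ?_
      obtain ⟨x, hx, hx'⟩ := hr (n + 1)
      exact hx' (LinearMap.mem_ker.mp (h.symm ▸ hx : x ∈ K).2)
    have hsup : P ⊔ K = C := by
      refine le_antisymm (sup_le hP.le inf_le_left) fun x hx => ?_
      have h1 : c (n + 1) = c (n + 1 + (n + 1)) :=
        ((hn (n + 1) (by omega)).symm.trans (hn (n + 1 + (n + 1)) (by omega)) : _)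
      obtain ⟨z, hz, hz'⟩ : r ^ (n + 1) • x ∈ C.map (LinearMap.lsmul R V (r ^ (n + 1 + (n + 1)))) := by
        have h2 : C.map (LinearMap.lsmul R V (r ^ (n + 1))) =
            C.map (LinearMap.lsmul R V (r ^ (n + 1 + (n + 1)))) := h1
        rw [← h2]
        exact ⟨x, hx, rfl⟩
      refine Submodule.mem_sup.mpr ⟨r ^ (n + 1) • z, ⟨z, hz, rfl⟩, x - r ^ (n + 1) • z,
        ⟨C.sub_mem hx (C.smul_mem _ hz), ?_⟩, add_sub_cancel _ _⟩
      rw [SetLike.mem_coe, LinearMap.mem_ker, map_sub, sub_eq_zero, LinearMap.lsmul_apply, LinearMap.lsmul_apply,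
        ← mul_smul, ← pow_add]
      exact hz'.symm
    obtain ⟨s, hs, hs'⟩ := ih P hP
    obtain ⟨t, ht, ht'⟩ := ih K hK
    refine ⟨s ∪ t, by rw [Finset.sup_union, hs, ht, hsup], fun D hD => ?_⟩
    rcases Finset.mem_union.mp hD with hD | hD
    exacts [hs' D hD, ht' D hD]

/-- A good element: regular, and dividing an Artinian module up to a finite length piece. -/
theorem exists_good_element {N : Type u} [AddCommGroup N] [Module R N] [Module.Finite R N]
    (hN : ∀ m : N, m ∈ DRing.torsionSub (maximalIdeal R) N → m = 0) (V : Type u) [AddCommGroup V]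
    [Module R V] [IsArtinian R V] :
    ∃ x ∈ maximalIdeal R, IsSMulRegular N x ∧
      Module.Finite R (V ⧸ LinearMap.range (LinearMap.lsmul R V x)) := by
  classical
  obtain ⟨s, hs, hs'⟩ := exists_secondary_decomposition (R := R) V
  let q : Submodule R V → Ideal R := fun C => C.annihilator.radical
  have hq : ∀ C ∈ s, (q C).IsPrime := fun C hC => by
    refine ⟨fun h => ?_, fun {a b} hab => ?_⟩
    · rw [Ideal.radical_eq_top, Submodule.annihilator_eq_top_iff] at h
      exact (hs' C hC).1 h
    · by_cases ha : a ∈ q C
      · exact Or.inl ha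
      refine Or.inr ?_
      rcases (hs' C hC).2 a with hsurj | ⟨n, hn⟩
      · obtain ⟨k, hk⟩ := hab
        refine ⟨k, Submodule.mem_annihilator.mpr fun y hy => ?_⟩
        have hpow : ∀ j, ∀ y ∈ C, ∃ x ∈ C, a ^ j • x = y := by
          intro j
          induction j with
          | zero => exact fun y hy => ⟨y, hy, by simp⟩
          | succ j ihj =>
            intro y hy
            obtain ⟨x, hx, rfl⟩ := ihj y hy
            obtain ⟨z, hz, rfl⟩ := hsurj x hx
            exact ⟨z, hz, by rw [pow_succ, mul_smul]⟩
        obtain ⟨x, hx, rfl⟩ := hpow k y hy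
        rw [smul_comm, ← mul_smul, ← mul_pow]
        exact Submodule.mem_annihilator.mp hk x hx
      · exact absurd ⟨n, Submodule.mem_annihilator.mpr hn⟩ ha
  let t := s.filter fun C => q C ≠ maximalIdeal R
  have hcover : ¬ ((maximalIdeal R : Set R) ⊆
      ⋃ p ∈ associatedPrimes R N ∪ q '' (t : Set (Submodule R V)), (p : Set R)) := by
    intro hsub
    have hprime : ∀ p ∈ associatedPrimes R N ∪ q '' (t : Set (Submodule R V)), p.IsPrime := by
      rintro p (hp | ⟨C, hC, rfl⟩)
      · exact hp.isPrime
      · exact hq C (Finset.mem_filter.mp hC).1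
    obtain ⟨p, hp, hle⟩ := (Ideal.subset_union_prime_finite
      ((associatedPrimes.finite R N).union (t.finite_toSet.image q)) ⊥ ⊥
      fun p hp _ _ => hprime p hp).mp hsub
    · have hpp : p.IsPrime := hprime p hp
      have heq : p = maximalIdeal R :=
        ((maximalIdeal.isMaximal R).eq_of_le hpp.ne_top hle).symm
      rcases hp with hp | ⟨C, hC, rfl⟩
      · obtain ⟨_, g, hg⟩ := (isAssociatedPrime_iff_exists_injective_linearMap p N).mp hp
        subst heq
        have h0 : g (Submodule.Quotient.mk (1 : R)) = 0 := hN _ ⟨1, fun a ha => by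
          rw [← map_smul, ← Submodule.Quotient.mk_smul, (Submodule.Quotient.mk_eq_zero _).mpr,
            map_zero]
          rw [smul_eq_mul, mul_one]
          simpa using ha⟩
        exact hpp.ne_top ((Ideal.eq_top_iff_one _).mpr
          ((Submodule.Quotient.mk_eq_zero _).mp (hg (h0.trans (map_zero g).symm))))
      · exact (Finset.mem_filter.mp hC).2 heq
  obtain ⟨x, hx, hx'⟩ := Set.not_subset.mp hcover
  simp only [Set.mem_iUnion, not_exists] at hx'
  refine ⟨x, hx, ?_, ?_⟩
  · by_contra hreg
    have : x ∈ ⋃ p ∈ associatedPrimes R N, (p : Set R) := by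
      rw [biUnion_associatedPrimes_eq_compl_regular]; exact hreg
    obtain ⟨p, hp, hxp⟩ := Set.mem_iUnion₂.mp this
    exact hx' p (Or.inl hp) hxp
  · have hkill : ∀ C ∈ s, ∃ k : ℕ, ∀ a ∈ maximalIdeal R ^ k, ∀ v ∈ C,
        a • v ∈ LinearMap.range (LinearMap.lsmul R V x) := by
      intro C hC
      by_cases hqC : q C = maximalIdeal R
      · obtain ⟨k, hk⟩ := (maximalIdeal R).exists_pow_le_of_le_radical_of_fg hqC.ge
          (maximalIdeal R).fg_of_isNoetherianRing
        exact ⟨k, fun a ha v hv => by
          rw [Submodule.mem_annihilator.mp (hk ha) v hv]; exact Submodule.zero_mem _⟩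
      · refine ⟨0, fun a _ v hv => ?_⟩
        rcases (hs' C hC).2 x with hsurj | ⟨n, hn⟩
        · obtain ⟨w, -, hw⟩ := hsurj (a • v) (C.smul_mem a hv)
          exact ⟨w, hw⟩
        · exact absurd ⟨n, Submodule.mem_annihilator.mpr hn⟩
            (hx' (q C) (Or.inr ⟨C, Finset.mem_filter.mpr ⟨hC, hqC⟩, rfl⟩))
    choose! k hk using hkill
    have : IsArtinian R (V ⧸ LinearMap.range (LinearMap.lsmul R V x)) := inferInstance
    refine finite_of_isArtinian_killed (s.sup k) _ fun a ha v => ?_
    obtain ⟨v, rfl⟩ := Submodule.Quotient.mk_surjective _ v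
    rw [← Submodule.Quotient.mk_smul, Submodule.Quotient.mk_eq_zero]
    have hle : s.sup id ≤ (LinearMap.range (LinearMap.lsmul R V x)).comap (LinearMap.lsmul R V a) :=
      Finset.sup_le fun C hC w hw =>
        hk C hC a (Ideal.pow_le_pow_right (Finset.le_sup hC) ha) w hw
    exact hle (hs ▸ Submodule.mem_top)

/-- The top local cohomology of a finite module of positive dimension is not finite. -/
theorem not_finite_localCohomology (d : ℕ) : ∀ (M : ModuleCat.{u} R) [Module.Finite R M],
    Module.supportDim R M = ((d + 1 : ℕ) : WithBot ℕ∞) →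
      ¬ Module.Finite R ((localCohomology (maximalIdeal R) (d + 1)).obj M) := by
  induction d using Nat.strong_induction_on with
  | _ d ih =>
    intro M _ hM hfin
    let N : ModuleCat.{u} R := ModuleCat.of R (M ⧸ DRing.torsionSub (maximalIdeal R) M)
    have hNreg : ∀ m : N, m ∈ DRing.torsionSub (maximalIdeal R) N → m = 0 :=
      fun m hm => eq_zero_of_mem_torsionSub_quotient _ hm
    have hsupT : Module.support R (DRing.torsionSub (maximalIdeal R) M) ⊆
        {closedPoint R} := by
      intro p hp
      obtain ⟨m, hm⟩ := Module.mem_support_iff_exists_annihilator.mp hp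
      obtain ⟨k, hk⟩ := m.2
      have h1 : maximalIdeal R ^ k ≤ p.asIdeal := fun a ha => hm
        ((Submodule.mem_annihilator_span_singleton _ _).mpr (Subtype.ext (hk a ha)))
      exact PrimeSpectrum.ext ((maximalIdeal.isMaximal R).eq_of_le p.2.ne_top
        (Ideal.IsPrime.le_of_pow_le h1)).symm
    have hNne : Nontrivial N := by
      by_contra hne
      rw [not_nontrivial_iff_subsingleton] at hne
      have h1 : Module.support R M ⊆ {closedPoint R} := by
        rw [Module.support_of_exact (LinearMap.exact_subtype_mkQ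
            (DRing.torsionSub (maximalIdeal R) M)) (Submodule.injective_subtype _)
          (Submodule.mkQ_surjective _)]
        exact Set.union_subset hsupT ((Module.support_eq_empty (R := R) (M := N)).le.trans
          (Set.empty_subset _))
      have h2 : Module.supportDim R M ≤ 0 := by
        rw [Module.supportDim, Order.krullDim_nonpos_iff_forall_isMax]
        intro a b _
        exact (Subtype.ext ((h1 b.2).trans (h1 a.2).symm)).le
      rw [hM] at h2
      exact absurd h2 (by norm_cast)
    have hNdim : Module.supportDim R N = ((d + 1 : ℕ) : WithBot ℕ∞) := by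
      have h1 : Module.support R M = Module.support R N := by
        rw [Module.support_of_exact (LinearMap.exact_subtype_mkQ
            (DRing.torsionSub (maximalIdeal R) M)) (Submodule.injective_subtype _)
          (Submodule.mkQ_surjective _)]
        refine Set.union_eq_right.mpr (hsupT.trans (Set.singleton_subset_iff.mpr ?_))
        exact closedPoint_mem_support R N
      rw [← hM, Module.supportDim, Module.supportDim, h1]
    have hfinN : Module.Finite R ((localCohomology (maximalIdeal R) (d + 1)).obj N) :=
      Module.Finite.equiv (LinearEquiv.ofBijective _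
        (map_mkQ_torsionSub_bijective (maximalIdeal R) M d))
    have := isArtinian_localCohomology d N
    obtain ⟨x, hxm, hx, hfinV⟩ := exists_good_element hNreg
      ((localCohomology (maximalIdeal R) d).obj N)
    let S := ModuleCat.shortComplexOfCompEqZero (LinearMap.lsmul R N x)
      (LinearMap.range (LinearMap.lsmul R N x)).mkQ (LinearMap.range_mkQ_comp _)
    have hS : S.ShortExact := ModuleCat.shortComplex_shortExact _
      ((LinearMap.lsmul R N x).exact_map_mkQ_range) hx (Submodule.mkQ_surjective _)
    have : Module.Finite R S.X₃ := inferInstanceAs (Module.Finite R (N ⧸ _))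
    have hdim : Module.supportDim R S.X₃ = (d : WithBot ℕ∞) := by
      have h := Module.supportDim_quotSMulTop_succ_eq_supportDim (M := N) hx hxm
      have e : QuotSMulTop x N ≃ₗ[R] S.X₃ := Submodule.quotEquivOfEq _ _
        (by ext; simp [Submodule.mem_smul_pointwise_iff_exists, LinearMap.mem_range])
      rw [Module.supportDim_eq_of_equiv e, hNdim] at h
      push_cast at h
      exact ENat.WithBot.add_one_cancel.mp h
    have hzero : Subsingleton ((localCohomology (maximalIdeal R) (d + 1)).obj N) := by
      have hvan := subsingleton_of_supportDim_lt (maximalIdeal R) (i := d + 1) S.X₃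
        (by rw [hdim]; exact_mod_cast Nat.lt_succ_self d)
      have hsurj : (⊤ : Submodule R ((localCohomology (maximalIdeal R) (d + 1)).obj N)) ≤
          maximalIdeal R • ⊤ := by
        intro y _
        obtain ⟨z, hz⟩ := exists_of_map_g_eq_zero (maximalIdeal R) hS y
          (@Subsingleton.elim _ hvan _ _)
        rw [← hz, show (localCohomology (maximalIdeal R) (d + 1)).map S.f z = x • z from
          map_lsmul _ N x z]
        exact Submodule.smul_mem_smul hxm Submodule.mem_top
      have htop := Submodule.eq_bot_of_le_smul_of_le_jacobson_bot (maximalIdeal R) _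
        Module.Finite.fg_top hsurj (maximalIdeal_le_jacobson _)
      exact subsingleton_of_forall_eq 0 fun y => by
        have : y ∈ (⊤ : Submodule R _) := Submodule.mem_top
        rwa [htop, Submodule.mem_bot] at this
    cases d with
    | zero =>
      have hsub : Subsingleton ((localCohomology (maximalIdeal R) 0).obj S.X₃) := by
        refine subsingleton_of_forall_eq 0 fun z => ?_
        obtain ⟨y, hy⟩ := exists_of_delta_eq_zero (maximalIdeal R) hS z
          (@Subsingleton.elim _ hzero _ _)
        rw [← hy]
        have hy0 : y = 0 := by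
          let e : _ ≃ₗ[R] DRing.torsionSub (maximalIdeal R) N :=
            ((zeroIso (maximalIdeal R)).app N).toLinearEquiv
          exact e.injective (Subtype.ext (by
            rw [map_zero]; exact hNreg _ (e y).2))
        rw [hy0, map_zero]
      have hX : Nontrivial S.X₃ := (Module.supportDim_ne_bot_iff_nontrivial R _).mp
        (by rw [hdim]; simp)
      have htor : IsPowerTorsion (maximalIdeal R) S.X₃ := by
        intro m
        have hsupp := support_of_supportDim_eq_zero R S.X₃ (by simpa using hdim)
        rw [Module.support_eq_zeroLocus, PrimeSpectrum.zeroLocus_eq_iff] at hsupp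
        obtain ⟨k, hk⟩ := (maximalIdeal R).exists_pow_le_of_le_radical_of_fg
          (Ideal.le_radical.trans hsupp.ge) (maximalIdeal R).fg_of_isNoetherianRing
        exact ⟨k, fun a ha => Module.mem_annihilator.mp (hk ha) m⟩
      obtain ⟨m, hm⟩ := exists_ne (0 : S.X₃)
      let e : _ ≃ₗ[R] DRing.torsionSub (maximalIdeal R) S.X₃ :=
        ((zeroIso (maximalIdeal R)).app S.X₃).toLinearEquiv
      have h1 : e.symm ⟨m, htor m⟩ = 0 := @Subsingleton.elim _ hsub _ _
      have h2 := congrArg e h1
      rw [e.apply_symm_apply, map_zero] at h2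
      exact hm (congrArg Subtype.val h2)
    | succ d =>
      refine ih d (Nat.lt_succ_self d) S.X₃ hdim ?_
      let φ : ((localCohomology (maximalIdeal R) (d + 1)).obj N) →ₗ[R]
          ((localCohomology (maximalIdeal R) (d + 1)).obj S.X₃) :=
        ((localCohomology (maximalIdeal R) (d + 1)).map S.g).hom
      have hsurj : Function.Surjective φ := fun z =>
        exists_of_delta_eq_zero (maximalIdeal R) hS z (@Subsingleton.elim _ hzero _ _)
      have hle : LinearMap.range (LinearMap.lsmul R _ x) ≤ LinearMap.ker φ := by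
        rintro _ ⟨y, rfl⟩
        have h0 := congrArg (fun g => g y)
          (map_comp_map_eq_zero (maximalIdeal R) (n := d + 1) S)
        rw [LinearMap.mem_ker]
        refine Eq.trans (congrArg φ (map_lsmul _ N x y).symm) h0
      refine Module.Finite.of_surjective (Submodule.liftQ _ φ hle) fun z => ?_
      obtain ⟨y, rfl⟩ := hsurj z
      exact ⟨Submodule.Quotient.mk y, rfl⟩

/-- Non-vanishing at the dimension. -/
theorem nontrivial_localCohomology (M : ModuleCat.{u} R) [Module.Finite R M] (d : ℕ)
    (hd : Module.supportDim R M = (d : WithBot ℕ∞)) :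
    Nontrivial ((localCohomology (maximalIdeal R) d).obj M) := by
  cases d with
  | zero =>
    have hX : Nontrivial M := (Module.supportDim_ne_bot_iff_nontrivial R _).mp (by rw [hd]; simp)
    have hsupp := support_of_supportDim_eq_zero R M (by simpa using hd)
    rw [Module.support_eq_zeroLocus, PrimeSpectrum.zeroLocus_eq_iff] at hsupp
    obtain ⟨k, hk⟩ := (maximalIdeal R).exists_pow_le_of_le_radical_of_fg
      (Ideal.le_radical.trans hsupp.ge) (maximalIdeal R).fg_of_isNoetherianRing
    obtain ⟨m, hm⟩ := exists_ne (0 : M)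
    let e : _ ≃ₗ[R] DRing.torsionSub (maximalIdeal R) M :=
      ((zeroIso (maximalIdeal R)).app M).toLinearEquiv
    refine ⟨⟨e.symm ⟨m, k, fun a ha => Module.mem_annihilator.mp (hk ha) m⟩, 0, fun h => ?_⟩⟩
    have h2 := congrArg e h
    rw [e.apply_symm_apply, map_zero] at h2
    exact hm (congrArg Subtype.val h2)
  | succ d =>
    by_contra h
    rw [not_nontrivial_iff_subsingleton] at h
    exact not_finite_localCohomology d M hd inferInstance

end Groth.Agent.LocCohBasic
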