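import Groth.Agent.LocCohBasic.Vanish
import Mathlib.RingTheory.LocalRing.Module
import Mathlib.RingTheory.Ideal.AssociatedPrime.Finiteness
import Mathlib.RingTheory.KrullDimension.NonZeroDivisors
import Mathlib.RingTheory.Localization.Integer

/-!
# Local cohomology in the degree of the dimension
-/

universe u

open CategoryTheory LocCoh

namespace Groth.Agent.LocCohBasic

variable {R : Type u} [CommRing R]

/-- Supports avoiding the top components have smaller dimension. -/
theorem supportDim_lt {d : ℕ} (hd : ringKrullDim R = d) (Q : Type u) [AddCommGroup Q] [Module R Q]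
    (h : ∀ q ∈ Module.support R Q, q.asIdeal ∈ minimalPrimes R →
      ringKrullDim (R ⧸ q.asIdeal) ≠ d) :
    Module.supportDim R Q < (d : WithBot ℕ∞) := by
  by_contra hge
  rw [not_lt] at hge
  obtain ⟨s, hs⟩ := Order.le_krullDim_iff.mp hge
  by_cases hmin : IsMin s.head.1
  · refine h s.head.1 s.head.2 (PrimeSpectrum.isMin_iff.mp hmin) (le_antisymm ?_ ?_)
    · exact (ringKrullDim_quotient_le _).trans hd.le
    · rw [ringKrullDim_quotient]
      let t : LTSeries (PrimeSpectrum.zeroLocus (R := R) (s.head.1.asIdeal : Set R)) :=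
        { length := s.length
          toFun := fun i => ⟨(s i).1, PrimeSpectrum.mem_zeroLocus _ _ |>.mpr
            (s.monotone (Fin.zero_le i))⟩
          step := fun i => s.step i }
      rw [← hs]
      exact Order.le_krullDim_iff.mpr ⟨t, rfl⟩
  · obtain ⟨r, hr⟩ := not_isMin_iff.mp hmin
    let t : LTSeries (PrimeSpectrum R) := (s.map Subtype.val fun _ _ h => h).cons r hr
    have h1 : ((s.length + 1 : ℕ) : WithBot ℕ∞) ≤ ringKrullDim R :=
      Order.le_krullDim_iff.mpr ⟨t, by simp [t]⟩
    rw [hd, hs] at h1
    norm_cast at h1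
    omega

variable [IsNoetherianRing R] (I : Ideal R) {d : ℕ}

/-- The top degree is right exact. -/
theorem map_surjective_top (hd : ringKrullDim R = d) {M N : ModuleCat.{u} R} (g : M ⟶ N)
    (hg : Function.Surjective g) : Function.Surjective ((localCohomology I d).map g) := by
  let S := ModuleCat.shortComplexOfCompEqZero (LinearMap.ker g.hom).subtype g.hom
    (LinearMap.comp_ker_subtype g.hom)
  have hS : S.ShortExact := ModuleCat.shortComplex_shortExact _
    (LinearMap.exact_subtype_ker_map g.hom) (Submodule.injective_subtype _) hg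
  have hvan := subsingleton_of_supportDim_lt I (i := d + 1) S.X₁
    ((Module.supportDim_le_ringKrullDim R _).trans_lt
      (by rw [hd]; exact_mod_cast Nat.lt_succ_self d))
  exact fun z => exists_of_delta_eq_zero I hS z (@Subsingleton.elim _ hvan _ _)

/-- An injection with small cokernel is surjective in the top degree. -/
theorem map_surjective_of_supportDim_lt {M : ModuleCat.{u} R} (N : Submodule R M)
    (h : Module.supportDim R (M ⧸ N) < (d : WithBot ℕ∞)) :
    Function.Surjective ((localCohomology I d).map (ModuleCat.ofHom N.subtype)) := by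
  let S := ModuleCat.shortComplexOfCompEqZero N.subtype N.mkQ
    (LinearMap.ext fun x => (Submodule.Quotient.mk_eq_zero N).mpr x.2)
  have hS : S.ShortExact := ModuleCat.shortComplex_shortExact _
    (LinearMap.exact_subtype_mkQ N) (Submodule.injective_subtype _) (Submodule.mkQ_surjective _)
  have hvan := subsingleton_of_supportDim_lt I (i := d) S.X₃ h
  exact fun z => exists_of_map_g_eq_zero I hS z (@Subsingleton.elim _ hvan _ _)

omit [IsNoetherianRing R] in
/-- A finite module has a nonzero map to `R/p` at a minimal prime of its support. -/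
theorem exists_map_quotient_prime {M : Type u} [AddCommGroup M] [Module R M] [Module.Finite R M]
    (p : PrimeSpectrum R) (hp : p ∈ Module.support R M) :
    ∃ ψ : M →ₗ[R] (R ⧸ p.asIdeal), ψ ≠ 0 := by
  classical
  let K := p.asIdeal.ResidueField
  have hnt : Nontrivial (TensorProduct R K M) :=
    Module.mem_support_iff_nontrivial_residueField_tensorProduct (p := p) |>.mp hp
  obtain ⟨l, hl⟩ := exists_ne (0 : Module.Dual K (TensorProduct R K M))
  let φ : M →ₗ[R] K := (l.restrictScalars R) ∘ₗ TensorProduct.mk R K M 1
  have hφ : φ ≠ 0 := fun h => hl (LinearMap.ext fun z => by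
    induction z using TensorProduct.induction_on with
    | zero => simp
    | add a b ha hb => rw [map_add, map_add, ha, hb]
    | tmul c m =>
      rw [show c ⊗ₜ[R] m = c • ((1 : K) ⊗ₜ[R] m) by
        rw [TensorProduct.smul_tmul', smul_eq_mul, mul_one], map_smul,
        show l ((1 : K) ⊗ₜ[R] m) = 0 from LinearMap.congr_fun h m, smul_zero]
      rfl)
  obtain ⟨t, ht⟩ := Module.finite_def.mp ‹Module.Finite R M›
  obtain ⟨b, hb⟩ := IsLocalization.exist_integer_multiples (nonZeroDivisors (R ⧸ p.asIdeal))
    t fun m => φ m
  let ι : (R ⧸ p.asIdeal) →ₗ[R] K :=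
    (IsScalarTower.toAlgHom R (R ⧸ p.asIdeal) K).toLinearMap
  have hι : Function.Injective ι := p.asIdeal.injective_algebraMap_quotient_residueField
  let φb : M →ₗ[R] K := ((b : R ⧸ p.asIdeal) • LinearMap.id : K →ₗ[R ⧸ p.asIdeal] K).restrictScalars R ∘ₗ φ
  have hrange : ∀ m, φb m ∈ LinearMap.range ι := fun m => by
    have hm : m ∈ Submodule.span R (t : Set M) := ht ▸ Submodule.mem_top
    induction hm using Submodule.span_induction with
    | mem y hy => obtain ⟨c, hc⟩ := hb y hy; exact ⟨c, hc⟩
    | zero => simp
    | add x y _ _ hx hy => rw [map_add]; exact Submodule.add_mem _ hx hy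
    | smul c x _ hx => rw [map_smul]; exact Submodule.smul_mem _ c hx
  refine ⟨(LinearEquiv.ofInjective ι hι).symm.toLinearMap ∘ₗ φb.codRestrict _ hrange, fun h => hφ ?_⟩
  refine LinearMap.ext fun m => ?_
  have h1 := congrArg (LinearEquiv.ofInjective ι hι) (LinearMap.congr_fun h m)
  simp only [LinearMap.comp_apply, LinearEquiv.coe_coe, LinearEquiv.apply_symm_apply,
    LinearMap.zero_apply, map_zero] at h1
  have h2 : (b : R ⧸ p.asIdeal) • φ m = 0 := congrArg Subtype.val h1
  rw [Algebra.smul_def, mul_eq_zero] at h2
  exact h2.resolve_left ((map_ne_zero_iff _ hι).mpr (nonZeroDivisors.ne_zero b.2))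

/-- Vanishing on one module with full support gives vanishing everywhere in the top degree. -/
theorem subsingleton_top_of_subsingleton (hd : ringKrullDim R = d) (M : ModuleCat.{u} R)
    [Module.Finite R M]
    (hsupp : ∀ p : PrimeSpectrum R, p.asIdeal ∈ minimalPrimes R →
      ringKrullDim (R ⧸ p.asIdeal) = d → p ∈ Module.support R M)
    (hvan : Subsingleton ((localCohomology I d).obj M)) (N : ModuleCat.{u} R) (i : ℕ) (hi : d ≤ i) :
    Subsingleton ((localCohomology I i).obj N) := by
  rcases hi.lt_or_eq with hlt | rfl
  · exact subsingleton_of_supportDim_lt I N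
      ((Module.supportDim_le_ringKrullDim R _).trans_lt (by rw [hd]; exact_mod_cast hlt))
  refine subsingleton_of_fg I N fun N' hN' => ?_
  have : Module.Finite R N' := Module.Finite.iff_fg.mpr hN'
  suffices ∀ (P : Type u) [AddCommGroup P] [Module R P] [Module.Finite R P],
      Subsingleton ((localCohomology I d).obj (ModuleCat.of R P)) from this N'
  intro P _ _ hP
  induction hP using IsNoetherianRing.induction_on_isQuotientEquivQuotientPrime with
  | subsingleton P =>
    exact subsingleton_of_supportDim_lt I (ModuleCat.of R P)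
      (by rw [Module.supportDim_eq_bot_of_subsingleton R P]; exact WithBot.bot_lt_coe _)
  | exact P₁ P₂ P₃ f g hf hg hex h₁ h₃ =>
    have hS : (ModuleCat.shortComplexOfCompEqZero f g hex.linearMap_comp_eq_zero).ShortExact :=
      ModuleCat.shortComplex_shortExact _ hex hf hg
    refine subsingleton_of_forall_eq 0 fun y => ?_
    obtain ⟨x, hx⟩ := exists_of_map_g_eq_zero I hS y (@Subsingleton.elim _ h₃ _ _)
    rw [← hx, @Subsingleton.elim _ h₁ x 0, map_zero]
  | quotient P p e =>
    have key : Subsingleton ((localCohomology I d).obj (ModuleCat.of R (R ⧸ p.asIdeal))) := by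
      by_cases htop : p.asIdeal ∈ minimalPrimes R ∧ ringKrullDim (R ⧸ p.asIdeal) = d
      · obtain ⟨hmin, hdim⟩ := htop
        obtain ⟨ψ, hψ⟩ := exists_map_quotient_prime p (hsupp p hmin hdim)
        let J := LinearMap.range ψ
        have hJ : Module.supportDim R ((R ⧸ p.asIdeal) ⧸ J) < (d : WithBot ℕ∞) := by
          refine supportDim_lt hd _ fun q hq hqmin _ => hψ ?_
          have hle : p.asIdeal ≤ q.asIdeal := by
            have := Module.support_subset_of_surjective J.mkQ J.mkQ_surjective hq
            rw [Module.support_eq_zeroLocus, Ideal.annihilator_quotient] at this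
            exact this
          have hqp : q = p := le_antisymm
            (PrimeSpectrum.asIdeal_le_asIdeal _ _ |>.mp (hqmin.2 ⟨p.2, bot_le⟩ hle)) hle
          refine LinearMap.ext fun m => by_contra fun hm => ?_
          obtain ⟨c, hc⟩ := Ideal.Quotient.mk_surjective (ψ m)
          have hcp : c ∉ p.asIdeal := fun hcp => hm (hc.symm.trans
            (Ideal.Quotient.eq_zero_iff_mem.mpr hcp))
          apply hcp
          rw [← hqp]
          refine Module.annihilator_le_of_mem_support hq (Module.mem_annihilator.mpr fun z => ?_)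
          obtain ⟨z, rfl⟩ := Submodule.mkQ_surjective J z
          obtain ⟨w, rfl⟩ := Ideal.Quotient.mk_surjective z
          rw [← map_smul, Submodule.mkQ_apply, Submodule.Quotient.mk_eq_zero]
          refine ⟨w • m, ?_⟩
          rw [map_smul, ← hc, Algebra.smul_def, Algebra.smul_def, mul_comm]
          rfl
        refine subsingleton_of_forall_eq 0 fun z => ?_
        obtain ⟨y, hy⟩ := map_surjective_of_supportDim_lt I (M := ModuleCat.of R (R ⧸ p.asIdeal)) J hJ z
        obtain ⟨x, hx⟩ := map_surjective_top I hd (ModuleCat.ofHom ψ.rangeRestrict)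
          ψ.surjective_rangeRestrict y
        rw [← hy, ← hx, @Subsingleton.elim _ hvan x 0, map_zero, map_zero]
      · refine subsingleton_of_supportDim_lt I _ (supportDim_lt hd _ fun q hq hqmin hqd => htop ?_)
        rw [Module.support_eq_zeroLocus, Ideal.annihilator_quotient] at hq
        have hqp : q = p := le_antisymm
          (PrimeSpectrum.asIdeal_le_asIdeal _ _ |>.mp (hqmin.2 ⟨p.2, bot_le⟩ hq)) hq
        exact hqp ▸ ⟨hqmin, hqd⟩
    exact ((localCohomology I d).mapIso e.toModuleIso).toLinearEquiv.toEquiv.subsingleton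

/-- Multiplication by an element outside the top components is surjective in the top degree. -/
theorem smul_surjective_top (hd : ringKrullDim R = d) (f : R)
    (hf : ∀ p : PrimeSpectrum R, p.asIdeal ∈ minimalPrimes R →
      ringKrullDim (R ⧸ p.asIdeal) = d → f ∉ p.asIdeal)
    (M : ModuleCat.{u} R) : Function.Surjective (fun x : (localCohomology I d).obj M => f • x) := by
  intro z
  let l := LinearMap.lsmul R M f
  have hQ : Module.supportDim R (M ⧸ LinearMap.range l) < (d : WithBot ℕ∞) := by
    refine supportDim_lt hd _ fun q hq hqmin hqd => hf q hqmin hqd ?_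
    refine Module.annihilator_le_of_mem_support hq (Module.mem_annihilator.mpr fun z => ?_)
    obtain ⟨z, rfl⟩ := Submodule.mkQ_surjective (LinearMap.range l) z
    rw [← map_smul, Submodule.mkQ_apply, Submodule.Quotient.mk_eq_zero]
    exact ⟨z, rfl⟩
  obtain ⟨y, hy⟩ := map_surjective_of_supportDim_lt I (LinearMap.range l) hQ z
  obtain ⟨x, hx⟩ := map_surjective_top I hd (ModuleCat.ofHom l.rangeRestrict)
    l.surjective_rangeRestrict y
  refine ⟨x, ?_⟩
  change f • x = z
  rw [← map_lsmul I M f x, ← hy, ← hx, ← ModuleCat.comp_apply, ← Functor.map_comp]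
  rfl

end Groth.Agent.LocCohBasic
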