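import Groth.Prelude.Def_W4bk5brsh7111920
import Groth.Agent.LocCohBasic.Finiteness
import Groth.Agent.Depth.LocalIneq
import Groth.Agent.S11617
import Groth.Agent.S11648
import Groth.Agent.S11649
import Mathlib.RingTheory.Ideal.KrullsHeightTheorem

/-!
# The inequality in Faltings' annihilator theorem
-/

universe u

open CategoryTheory LocCoh IsLocalRing

namespace Groth.Agent.LocCohBasic

variable {R : Type u} [CommRing R]

section Height

lemma comap_map_mk {p t : Ideal R} (h : p ≤ t) :
    (t.map (Ideal.Quotient.mk p)).comap (Ideal.Quotient.mk p) = t := by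
  rw [Ideal.comap_map_of_surjective _ Ideal.Quotient.mk_surjective, ← RingHom.ker_eq_comap_bot,
    Ideal.mk_ker, sup_of_le_left h]

lemma isPrime_map_mk {p t : Ideal R} [t.IsPrime] (h : p ≤ t) :
    (t.map (Ideal.Quotient.mk p)).IsPrime :=
  Ideal.map_isPrime_of_surjective Ideal.Quotient.mk_surjective (by rwa [Ideal.mk_ker])

lemma le_comap_mk (p : Ideal R) (Q : Ideal (R ⧸ p)) : p ≤ Q.comap (Ideal.Quotient.mk p) :=
  fun x hx => by rw [Ideal.mem_comap, Ideal.Quotient.eq_zero_iff_mem.mpr hx]; exact Q.zero_mem

lemma map_mk_lt {p t t' : Ideal R} (h : p ≤ t) (h' : t < t') :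
    t.map (Ideal.Quotient.mk p) < t'.map (Ideal.Quotient.mk p) := by
  refine lt_of_le_of_ne (Ideal.map_mono h'.le) fun e => h'.ne ?_
  rw [← comap_map_mk h, e, comap_map_mk (h.trans h'.le)]

/-- Heights add along a chain `p ≤ s ≤ q`. -/
lemma height_add_le {p s q : Ideal R} [s.IsPrime] [q.IsPrime] (hps : p ≤ s) (hsq : s ≤ q) :
    (s.map (Ideal.Quotient.mk p)).height + (q.map (Ideal.Quotient.mk s)).height ≤
      (q.map (Ideal.Quotient.mk p)).height := by
  suffices H : ∀ (n : ℕ) (q : Ideal R), q.IsPrime → s ≤ q →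
      (n : ℕ∞) ≤ (q.map (Ideal.Quotient.mk s)).height →
      (s.map (Ideal.Quotient.mk p)).height + n ≤ (q.map (Ideal.Quotient.mk p)).height by
    cases h : (q.map (Ideal.Quotient.mk s)).height using ENat.recTopCoe with
    | top =>
      rw [add_top, top_le_iff, ENat.eq_top_iff_forall_ge]
      exact fun n => le_add_self.trans (H n q ‹_› hsq (h ▸ le_top))
    | coe n => exact H n q ‹_› hsq h.ge
  intro n
  induction n with
  | zero =>
    intro q hq hsq' _
    simpa using Ideal.height_mono (Ideal.map_mono hsq')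
  | succ n ih =>
    intro q hq hsq' hn
    have := isPrime_map_mk hsq'
    let Q : PrimeSpectrum (R ⧸ s) := ⟨q.map (Ideal.Quotient.mk s), this⟩
    have hn' : ((n + 1 : ℕ) : ℕ∞) ≤ Order.height Q := by
      rw [← PrimeSpectrum.height_eq_orderHeight]; exact hn
    obtain ⟨l, hlast, hlen⟩ := Order.exists_series_of_le_height Q hn'
    let Q' := l.eraseLast.last
    have hlt : Q' < Q := hlast ▸ RelSeries.eraseLast_last_rel_last l (by omega)
    have hnQ' : (n : ℕ∞) ≤ Order.height Q' := by
      refine le_trans ?_ Order.length_le_height_last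
      simp [hlen]
    set t := Q'.asIdeal.comap (Ideal.Quotient.mk s)
    have hst : s ≤ t := le_comap_mk s _
    have htq : t < q := by
      have hle : t ≤ q := (Ideal.comap_mono hlt.le).trans (comap_map_mk hsq').le
      refine lt_of_le_of_ne hle fun e => hlt.ne (PrimeSpectrum.ext ?_)
      change Q'.asIdeal = q.map (Ideal.Quotient.mk s)
      rw [← e, Ideal.map_comap_of_surjective _ Ideal.Quotient.mk_surjective]
    have h1 := ih t inferInstance hst (by
      rw [Ideal.map_comap_of_surjective _ Ideal.Quotient.mk_surjective,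
        PrimeSpectrum.height_eq_orderHeight]
      exact hnQ')
    have := isPrime_map_mk (p := p) (hps.trans hst)
    have := isPrime_map_mk (p := p) (t := q) (hps.trans hsq')
    calc _ = (s.map (Ideal.Quotient.mk p)).height + n + 1 := by push_cast; ring
      _ ≤ (t.map (Ideal.Quotient.mk p)).height + 1 := add_le_add h1 le_rfl
      _ ≤ _ := Ideal.height_add_one_le_of_lt_of_isPrime (map_mk_lt (hps.trans hst) htq)

lemma one_le_height_map_mk {p q : Ideal R} [p.IsPrime] [q.IsPrime] (h : p < q) :
    1 ≤ (q.map (Ideal.Quotient.mk p)).height := by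
  have := isPrime_map_mk (p := p) (t := p) le_rfl
  have := isPrime_map_mk (p := p) (t := q) h.le
  exact le_add_self.trans
    (Ideal.height_add_one_le_of_lt_of_isPrime (map_mk_lt le_rfl h))

/-- A prime strictly between two primes avoiding a given element. -/
lemma exists_prime_between [IsNoetherianRing R] (s q : Ideal R) [s.IsPrime] [q.IsPrime]
    (hsq : s < q) (hht : 1 < (q.map (Ideal.Quotient.mk s)).height) (a : R) (has : a ∉ s) :
    ∃ t : Ideal R, t.IsPrime ∧ s < t ∧ t < q ∧ a ∉ t := by
  by_contra! hcon
  set mk := Ideal.Quotient.mk s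
  have hQ := isPrime_map_mk (p := s) hsq.le
  have key : ∀ T : Ideal (R ⧸ s), T.IsPrime → T ≠ ⊥ → T < q.map mk → mk a ∈ T := by
    intro T hT hT0 hTq
    have h1 : s < T.comap mk := by
      refine lt_of_le_of_ne (le_comap_mk s T) fun e => hT0 ?_
      rw [← Ideal.map_comap_of_surjective mk Ideal.Quotient.mk_surjective T, ← e,
        Ideal.map_quotient_self]
    have h2 : T.comap mk < q := by
      refine lt_of_le_of_ne ((Ideal.comap_mono hTq.le).trans (comap_map_mk hsq.le).le) fun e =>
        hTq.ne ?_
      rw [← e, Ideal.map_comap_of_surjective mk Ideal.Quotient.mk_surjective]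
    exact hcon _ (hT.comap mk) h1 h2
  have ha0 : mk a ≠ 0 := fun h => has (Ideal.Quotient.eq_zero_iff_mem.mp h)
  let F := insert ⊥ {T ∈ (Ideal.span {mk a}).minimalPrimes | T < q.map mk}
  have hF : F.Finite :=
    ((Ideal.finite_minimalPrimes_of_isNoetherianRing _ _).subset fun T hT => hT.1).insert _
  obtain ⟨y, hyq, hy⟩ : ∃ y ∈ q.map mk, ∀ T ∈ F, y ∉ T := by
    by_contra! h
    obtain ⟨T, hT, hle⟩ := (Ideal.subset_union_prime_finite hF ⊥ ⊥ (f := fun T => T)
      (fun T hT _ _ => by
        rcases hT with rfl | hT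
        · exact Ideal.isPrime_bot
        · exact hT.1.1.1)).mp
      (fun x hx => by
        obtain ⟨T, hT, hxT⟩ := h x hx
        exact Set.mem_biUnion hT hxT)
    rcases hT with rfl | hT
    · rw [le_bot_iff] at hle
      rw [hle, Ideal.height_bot] at hht
      exact absurd hht (by simp)
    · exact absurd hle hT.2.not_ge
  obtain ⟨T, hT, hTq⟩ := Ideal.exists_minimalPrimes_le
    (show Ideal.span {y} ≤ q.map mk by rwa [Ideal.span_singleton_le_iff_mem])
  have := hT.1.1
  have hyT : y ∈ T := hT.1.2 (Ideal.mem_span_singleton_self y)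
  have hT1 : T.height ≤ 1 := Ideal.height_le_one_of_isPrincipal_of_mem_minimalPrimes _ T hT
  have hTlt : T < q.map mk := lt_of_le_of_ne hTq fun e =>
    absurd (e ▸ hT1) (not_le.mpr hht)
  have hT0 : T ≠ ⊥ := fun e => hy ⊥ (Set.mem_insert _ _) (e ▸ hyT)
  have haT : mk a ∈ T := key T this hT0 hTlt
  refine hy T (Set.mem_insert_of_mem _ ⟨?_, hTlt⟩) hyT
  refine ⟨⟨this, (Ideal.span_singleton_le_iff_mem _).mpr haT⟩, fun T' hT' hle => ?_⟩
  have := hT'.1
  have h0 : T' ≠ ⊥ := fun e => ha0 (by
    simpa [e] using hT'.2 (Ideal.mem_span_singleton_self (mk a)))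
  rcases eq_or_lt_of_le hle with rfl | hlt
  · exact le_rfl
  · have h := Ideal.height_strict_mono_of_isPrime hlt
    have h' : T'.height = 0 := Order.lt_one_iff.mp (h.trans_le hT1)
    exact absurd (Ideal.height_eq_zero_iff_eq_bot.mp h') h0

/-- Localising twice does not change the depth. -/
lemma depth_twice [IsNoetherianRing R] (S : Submonoid R) (A : Type u) [CommRing A] [Algebra R A]
    [IsLocalization S A] (M N : Type u) [AddCommGroup M] [Module R M] [Module.Finite R M]
    [AddCommGroup N] [Module R N] [Module A N] [IsScalarTower R A N] (f : M →ₗ[R] N)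
    [IsLocalizedModule S f] (s : Ideal R) [s.IsPrime] (sA : Ideal A) [sA.IsPrime]
    (hsA : sA.comap (algebraMap R A) = s) :
    LocCoh.depth (Localization.AtPrime sA) (LocalizedModule sA.primeCompl N) =
      LocCoh.depth (Localization.AtPrime s) (LocalizedModule s.primeCompl M) := by
  subst hsA
  let A' := Localization.AtPrime sA
  have : IsLocalization.AtPrime A' (sA.comap (algebraMap R A)) :=
    IsLocalization.isLocalization_isLocalization_atPrime_isLocalization S A' sA
  let g := ((LocalizedModule.mkLinearMap sA.primeCompl N).restrictScalars R).comp f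
  have : IsLocalizedModule (sA.comap (algebraMap R A)).primeCompl g :=
    (isLocalizedModule_iff_isBaseChange (sA.comap (algebraMap R A)).primeCompl A' g).mpr
      (IsBaseChange.comp ((isLocalizedModule_iff_isBaseChange S A f).mp inferInstance)
        ((isLocalizedModule_iff_isBaseChange sA.primeCompl A'
          (LocalizedModule.mkLinearMap sA.primeCompl N)).mp inferInstance))
  let e := IsLocalization.algEquiv (sA.comap (algebraMap R A)).primeCompl
    (Localization.AtPrime (sA.comap (algebraMap R A))) A'
  let : Algebra (Localization.AtPrime (sA.comap (algebraMap R A))) A' := e.toRingHom.toAlgebra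
  have : IsScalarTower R (Localization.AtPrime (sA.comap (algebraMap R A))) A' :=
    IsScalarTower.of_algebraMap_eq fun r => (e.commutes r).symm
  let : Module (Localization.AtPrime (sA.comap (algebraMap R A)))
      (LocalizedModule sA.primeCompl N) := Module.compHom _ e.toRingHom
  have : IsScalarTower (Localization.AtPrime (sA.comap (algebraMap R A))) A'
      (LocalizedModule sA.primeCompl N) :=
    IsScalarTower.of_algebraMap_smul fun _ _ => rfl
  have : IsScalarTower R (Localization.AtPrime (sA.comap (algebraMap R A)))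
      (LocalizedModule sA.primeCompl N) :=
    IsScalarTower.of_algebraMap_smul fun r x =>
      (congrArg (· • x) (e.commutes r)).trans (algebraMap_smul A' r x)
  let j := (IsLocalizedModule.iso (sA.comap (algebraMap R A)).primeCompl g)
  let j' := j.extendScalarsOfIsLocalization (sA.comap (algebraMap R A)).primeCompl
    (Localization.AtPrime (sA.comap (algebraMap R A)))
  have : Module.Finite A' (LocalizedModule sA.primeCompl N) := by
    have : Module.Finite A N := Module.Finite.of_isLocalizedModule S f
    infer_instance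
  have : IsNoetherianRing A' := by
    have : IsNoetherianRing A := IsLocalization.isNoetherianRing S A ‹_›
    infer_instance
  rw [Depth.depth_congr j', Depth.depth_eq_of_surjective e.surjective]

end Height

section Step

variable {A : Type u} [CommRing A] [IsNoetherianRing A] [IsLocalRing A] (a : Ideal A)

omit [IsNoetherianRing A] [IsLocalRing A] in
/-- `H^i` of a module killed by `c` is killed by `c`. -/
lemma smul_eq_zero_of_killed (M : ModuleCat.{u} A) {c : A} (hc : ∀ m : M, c • m = 0) (i : ℕ)
    (y : (localCohomology a i).obj M) : c • y = 0 := by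
  have : ModuleCat.ofHom (LinearMap.lsmul A M c) = 0 := ModuleCat.hom_ext (LinearMap.ext hc)
  rw [← map_lsmul a M c y, this, Functor.map_zero]
  rfl

variable {a}

/-- The inductive step over a local ring whose quotient by `s` is one-dimensional. -/
theorem not_killed_of_depth (s : Ideal A) [s.IsPrime] (hs1 : ∀ t : Ideal A, t.IsPrime → s ≤ t →
      t = s ∨ t = maximalIdeal A)
    (has : ¬ a ≤ s) (ha : a ≤ maximalIdeal A) (r : ℕ) :
    ∀ (M : Type u) [AddCommGroup M] [Module A M] [Module.Finite A M] (e : A),
      e ∈ maximalIdeal A → e ∉ s →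
      LocCoh.depth (Localization.AtPrime s) (LocalizedModule s.primeCompl M) = r →
      ∀ k : ℕ, (∀ i ≤ r + 1, ∀ y : LocCoh.H a i M, e ^ k • y = 0) → False := by
  have hsm : s ≠ maximalIdeal A := fun h => has (h ▸ ha)
  induction r with
  | zero =>
    intro M _ _ _ e hem hes hd k hk
    have : Nontrivial (LocalizedModule s.primeCompl M) := by
      by_contra h
      rw [not_nontrivial_iff_subsingleton] at h
      rw [LocCoh.depth, Depth.idealDepth_of_subsingleton] at hd
      exact ENat.top_ne_natCast 0 hd
    have hass : s ∈ associatedPrimes A M := by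
      rw [Nat.cast_zero, Depth.depth_eq_zero_iff] at hd
      have := Module.associatedPrimes.comap_mem_associatedPrimes_of_mem_associatedPrimes_of_isLocalizedModule_of_fg
        s.primeCompl (LocalizedModule.mkLinearMap s.primeCompl M) _ hd (IsNoetherian.noetherian _)
      have h2 : (maximalIdeal (Localization.AtPrime s)).comap
          (algebraMap A (Localization.AtPrime s)) = s := Localization.AtPrime.under_maximalIdeal
      rwa [h2] at this
    have hht : ((a ⊔ s).map (Ideal.Quotient.mk s)).height = 1 := by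
      refine le_antisymm ?_ ?_
      · have hle : (a ⊔ s).map (Ideal.Quotient.mk s) ≤ (maximalIdeal A).map (Ideal.Quotient.mk s) :=
          Ideal.map_mono (sup_le ha (le_maximalIdeal ‹s.IsPrime›.ne_top))
        refine (Ideal.height_mono hle).trans ?_
        have := isPrime_map_mk (p := s) (t := maximalIdeal A) (le_maximalIdeal ‹s.IsPrime›.ne_top)
        rw [← Nat.cast_one, Ideal.height_le_iff]
        intro T hT hlt
        have hT' : T.comap (Ideal.Quotient.mk s) = s ∨
            T.comap (Ideal.Quotient.mk s) = maximalIdeal A :=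
          hs1 _ (hT.comap _) (le_comap_mk s T)
        rw [← Ideal.map_comap_of_surjective _ (Ideal.Quotient.mk_surjective (I := s)) T] at hlt ⊢
        rcases hT' with h | h
        · rw [h, Ideal.map_quotient_self, Ideal.height_bot]; exact_mod_cast Nat.one_pos
        · rw [h] at hlt; exact absurd rfl hlt.ne
      · rw [Ideal.height_eq_inf_minimalPrimes]
        refine le_iInf₂ fun T hT => ?_
        have := hT.1.1
        rw [Order.one_le_iff_pos, pos_iff_ne_zero, Ne, Ideal.height_eq_zero_iff_eq_bot]
        intro h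
        have hle := Ideal.map_le_iff_le_comap.mp (h ▸ hT.1.2)
        rw [← RingHom.ker_eq_comap_bot, Ideal.mk_ker] at hle
        exact has (le_sup_left.trans hle)
    refine S11648.result A a (Ideal.span {e}) M s hass
      (fun h => hes (h (Ideal.mem_span_singleton_self e))) hht ?_
    rw [Ideal.span_singleton_le_iff_mem]
    exact ⟨k, Module.mem_annihilator.mpr (hk 1 le_rfl)⟩
  | succ r ih =>
    intro M _ _ _ e hem hes hd k hk
    -- pass to `M / Γ_e M`
    set Γ := DRing.torsionSub (Ideal.span {e}) M
    obtain ⟨N, hN⟩ := exists_uniform_pow (Ideal.span {e}) Γ (IsNoetherian.noetherian _) le_rfl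
    have hN' : ∀ m : Γ, e ^ N • m = 0 := fun m => Subtype.ext
      (hN _ (Ideal.pow_mem_pow (Ideal.mem_span_singleton_self e) N) m m.2)
    let S := ModuleCat.shortComplexOfCompEqZero Γ.subtype Γ.mkQ
      (LinearMap.ext fun m => (Submodule.Quotient.mk_eq_zero Γ).mpr m.2)
    have hS : S.ShortExact := ModuleCat.shortComplex_shortExact _
      (LinearMap.exact_subtype_mkQ Γ) (Submodule.injective_subtype _) (Submodule.mkQ_surjective _)
    have hk1 : ∀ i ≤ r + 1 + 1, ∀ y : LocCoh.H a i (M ⧸ Γ), e ^ (k + N) • y = 0 := by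
      intro i hi y
      obtain ⟨w, hw⟩ := exists_of_delta_eq_zero a hS (e ^ N • y)
        ((map_smul (delta a i hS).hom _ y).trans
          (smul_eq_zero_of_killed a _ hN' _ _))
      rw [pow_add, mul_smul]
      exact (congrArg (e ^ k • ·) hw.symm).trans ((map_smul _ _ w).symm.trans
        ((congrArg _ (hk i hi w)).trans (map_zero _)))
    have htors : ∀ q : M ⧸ Γ, e • q = 0 → q = 0 := fun q hq =>
      eq_zero_of_mem_torsionSub_quotient (Ideal.span {e}) ⟨1, fun c hc => by
        rw [pow_one, Ideal.mem_span_singleton'] at hc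
        obtain ⟨d, rfl⟩ := hc
        rw [mul_smul, hq, smul_zero]⟩
    have hreg : IsSMulRegular (M ⧸ Γ) e := fun x y hxy => sub_eq_zero.mp
      (htors _ (by rw [smul_sub]; exact sub_eq_zero.mpr hxy))
    have hloc : Function.Bijective (LocalizedModule.map s.primeCompl Γ.mkQ) := by
      refine ⟨fun x y h => ?_, LocalizedModule.map_surjective _ _ (Submodule.mkQ_surjective _)⟩
      rw [← sub_eq_zero] at h ⊢
      rw [← map_sub] at h
      generalize x - y = w at h ⊢
      induction w using LocalizedModule.induction_on with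
      | h m t =>
        rw [LocalizedModule.map_mk, ← LocalizedModule.zero_mk 1, LocalizedModule.mk_eq] at h
        obtain ⟨v, hv⟩ := h
        simp only [Submonoid.smul_def, smul_zero, one_smul, Submodule.mkQ_apply,
          ← Submodule.Quotient.mk_smul, Submodule.Quotient.mk_eq_zero] at hv
        obtain ⟨n, hn⟩ := hv
        have hn' := hn _ (Ideal.pow_mem_pow (Ideal.mem_span_singleton_self e) n)
        rw [← LocalizedModule.zero_mk 1, LocalizedModule.mk_eq]
        refine ⟨⟨e ^ n * v, mul_mem (pow_mem (show e ∈ s.primeCompl from hes) n) v.2⟩, ?_⟩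
        simp only [Submonoid.smul_def, one_smul, smul_zero]
        rw [mul_smul, hn']
    have hd' : LocCoh.depth (Localization.AtPrime s) (LocalizedModule s.primeCompl (M ⧸ Γ)) =
        ((r + 1 : ℕ) : ℕ∞) := by
      rw [← hd]
      exact (Depth.depth_congr (LinearEquiv.ofBijective _ hloc)).symm
    obtain ⟨x, hxs, hx⟩ : ∃ x ∈ s, IsSMulRegular (M ⧸ Γ) x := by
      by_contra! h
      have hsub : (s : Set A) ⊆ ⋃ p ∈ associatedPrimes A (M ⧸ Γ), (p : Set A) := by
        rw [biUnion_associatedPrimes_eq_compl_regular]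
        exact h
      obtain ⟨p, hp, hle⟩ := (Ideal.subset_union_prime_finite (associatedPrimes.finite A (M ⧸ Γ))
        ⊥ ⊥ (fun p hp _ _ => hp.isPrime)).mp hsub
      rcases hs1 p hp.isPrime hle with h | h
      · subst h
        have := hp.isPrime
        have hsupp := Depth.mem_support_of_mem_associatedPrimes hp
        have : Nontrivial (LocalizedModule p.primeCompl (M ⧸ Γ)) :=
          Module.mem_support_iff.mp hsupp
        rw [(Depth.depth_eq_zero_iff).mpr
          (Module.associatedPrimes.mem_associatedPrimes_atPrime_of_mem_associatedPrimes hp)] at hd'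
        exact absurd hd'.symm (Nat.cast_ne_zero.mpr (Nat.succ_ne_zero r))
      · subst h
        have : e ∈ ⋃ p ∈ associatedPrimes A (M ⧸ Γ), (p : Set A) := Set.mem_biUnion hp hem
        rw [biUnion_associatedPrimes_eq_compl_regular] at this
        exact this hreg
    have hS2 := IsSMulRegular.smulShortComplex_shortExact (M := ModuleCat.of A (M ⧸ Γ)) hx
    refine ih (QuotSMulTop x (M ⧸ Γ)) e hem hes ?_ (k + N + (k + N)) fun i hi z => ?_
    · have h := Depth.depth_localized_quotSMulTop_add_one (M := M ⧸ Γ) s hxs hx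
      rw [hd', Nat.cast_add, Nat.cast_one] at h
      exact (ENat.add_left_injective_of_ne_top ENat.one_ne_top) h
    · obtain ⟨w, hw⟩ := exists_of_delta_eq_zero a hS2 (e ^ (k + N) • z)
        ((map_smul (delta a i hS2).hom _ z).trans (hk1 (i + 1) (by omega) _))
      rw [pow_add, mul_smul]
      exact (congrArg (e ^ (k + N) • ·) hw.symm).trans ((map_smul _ _ w).symm.trans
        ((congrArg _ (hk1 i (by omega) w)).trans (map_zero _)))

end Step

variable [IsNoetherianRing R]

/-- The hard case: `s ⋖ q`. -/
lemma exists_not_le_of_covBy (a : Ideal R) (M : Type u) [AddCommGroup M] [Module R M]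
    [Module.Finite R M] {b : Ideal R} {e : R} (heb : e ∈ b) (s q : Ideal R) [s.IsPrime] [q.IsPrime]
    (hsq : s < q) (hcov : ∀ t : Ideal R, t.IsPrime → s ≤ t → t ≤ q → t = s ∨ t = q)
    (haq : a ≤ q) (has : ¬ a ≤ s) (heq : e ∈ q) (hes : e ∉ s) (r : ℕ)
    (hr : LocCoh.depth (Localization.AtPrime s) (LocalizedModule s.primeCompl M) = r) :
    ∃ i ≤ r + 1, ¬ b ≤ (Module.annihilator R (LocCoh.H a i M)).radical := by
  by_contra! hall
  choose k hk using fun i : Fin (r + 1 + 1) => hall i (Nat.lt_succ_iff.mp i.2) heb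
  let A := Localization.AtPrime q
  let sA : Ideal A := s.map (algebraMap R A)
  have hdisj : Disjoint (q.primeCompl : Set R) (s : Set R) :=
    Set.disjoint_left.mpr fun x hx hxs => hx (hsq.le hxs)
  have : sA.IsPrime := IsLocalization.isPrime_of_isPrime_disjoint q.primeCompl A s ‹_› hdisj
  have hsA : sA.comap (algebraMap R A) = s :=
    IsLocalization.under_map_of_isPrime_disjoint q.primeCompl A ‹s.IsPrime› hdisj
  have hcm : ∀ t : Ideal A, (t.comap (algebraMap R A)).map (algebraMap R A) = t :=
    IsLocalization.map_under q.primeCompl A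
  have hs1 : ∀ t : Ideal A, t.IsPrime → sA ≤ t → t = sA ∨ t = maximalIdeal A := by
    intro t ht hle
    have h1 : s ≤ t.comap (algebraMap R A) := hsA ▸ Ideal.comap_mono hle
    have h2 : t.comap (algebraMap R A) ≤ q :=
      (Ideal.comap_mono (le_maximalIdeal ht.ne_top)).trans
        (Localization.AtPrime.under_maximalIdeal).le
    rcases hcov _ (ht.comap _) h1 h2 with h | h
    · exact Or.inl (by rw [← hcm t, h])
    · exact Or.inr (by rw [← hcm t, h, Localization.AtPrime.map_eq_maximalIdeal])
  have haA : a.map (algebraMap R A) ≤ maximalIdeal A :=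
    (Ideal.map_mono haq).trans Localization.AtPrime.map_eq_maximalIdeal.le
  have hanot : ¬ a.map (algebraMap R A) ≤ sA := fun h =>
    has (hsA ▸ Ideal.map_le_iff_le_comap.mp h)
  have hem : algebraMap R A e ∈ maximalIdeal A :=
    (IsLocalization.AtPrime.to_map_mem_maximal_iff A q e).mpr heq
  have hes' : algebraMap R A e ∉ sA := fun h => hes (hsA ▸ Ideal.mem_comap.mpr h)
  let N := LocalizedModule q.primeCompl M
  have hd : LocCoh.depth (Localization.AtPrime sA) (LocalizedModule sA.primeCompl N) = r := by
    rw [← hr]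
    exact depth_twice q.primeCompl A M N (LocalizedModule.mkLinearMap q.primeCompl M) s sA hsA
  refine not_killed_of_depth sA hs1 hanot haA r N (algebraMap R A e) hem hes' hd (∑ i, k i)
    fun i hi y => ?_
  obtain ⟨φ⟩ := S11617.result R A a M i
  let ψ := φ ≪≫ₗ ((localCohomology _ i).mapIso
    (LocalizedModule.equivTensorProduct q.primeCompl M).symm.toModuleIso).toLinearEquiv
  obtain ⟨z, rfl⟩ := ψ.surjective y
  rw [← map_smul, ← map_pow]
  suffices algebraMap R A (e ^ ∑ i, k i) • z = 0 by rw [this, map_zero]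
  induction z using TensorProduct.induction_on with
  | zero => exact smul_zero _
  | tmul x y =>
    have hmem := Ideal.pow_le_pow_right (I := Ideal.span {e})
      (Finset.single_le_sum (f := k) (fun _ _ => Nat.zero_le _)
        (Finset.mem_univ (⟨i, Nat.lt_succ_iff.mpr hi⟩ : Fin (r + 1 + 1))))
      (Ideal.pow_mem_pow (Ideal.mem_span_singleton_self e) _)
    rw [Ideal.span_singleton_pow, Ideal.mem_span_singleton'] at hmem
    obtain ⟨c, hc⟩ := hmem
    rw [algebraMap_smul, ← TensorProduct.tmul_smul, ← hc, mul_smul,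
      Module.mem_annihilator.mp (hk ⟨i, Nat.lt_succ_iff.mpr hi⟩) y, smul_zero,
      TensorProduct.tmul_zero]
  | add x y hx hy => rw [smul_add, hx, hy, add_zero]

/-- The minimum adjusted depth bounds the finiteness dimension. -/
theorem finDimRel_le_minAdjDepth (a b : Ideal R) (M : Type u) [AddCommGroup M] [Module R M]
    [Module.Finite R M] : finDimRel a b M ≤ minAdjDepth a b M := by
  refine le_iInf₂ fun p hp => ?_
  set ht := ((a ⊔ p.asIdeal).map (Ideal.Quotient.mk p.asIdeal)).height with htdef
  cases hht : ht using ENat.recTopCoe with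
  | top => exact le_top.trans_eq (by rw [adjDepth, ← htdef, hht, add_top])
  | coe δ =>
  cases hdp : LocCoh.depth (Localization.AtPrime p.asIdeal)
      (LocalizedModule p.asIdeal.primeCompl M) using ENat.recTopCoe with
  | top => exact le_top.trans_eq (by rw [adjDepth, hdp, top_add])
  | coe ν =>
  have hadj : adjDepth a M p = ((ν + δ : ℕ) : ℕ∞) := by
    rw [adjDepth, hdp, ← htdef, hht, Nat.cast_add]
  have hJ : (a ⊔ p.asIdeal).map (Ideal.Quotient.mk p.asIdeal) ≠ ⊤ := fun h => by
    rw [htdef, h, Ideal.height_top] at hht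
    exact ENat.top_ne_natCast δ hht
  obtain ⟨Q, hQ, hQh⟩ : ∃ Q ∈ ((a ⊔ p.asIdeal).map (Ideal.Quotient.mk p.asIdeal)).minimalPrimes,
      Q.height = (δ : ℕ∞) := by
    rw [htdef] at hht
    obtain ⟨Q, hQ⟩ := Ideal.nonempty_minimalPrimes hJ
    by_contra! hne
    have hlt : ∀ Q ∈ ((a ⊔ p.asIdeal).map (Ideal.Quotient.mk p.asIdeal)).minimalPrimes,
        ((δ + 1 : ℕ) : ℕ∞) ≤ Q.height := fun Q hQ => by
      have hle : (δ : ℕ∞) ≤ Q.height := hht ▸ Ideal.height_mono hQ.1.2
      exact_mod_cast Order.add_one_le_of_lt (lt_of_le_of_ne hle (fun h => hne Q hQ h.symm))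
    have : ((δ + 1 : ℕ) : ℕ∞) ≤ ((a ⊔ p.asIdeal).map (Ideal.Quotient.mk p.asIdeal)).height := by
      rw [Ideal.height_eq_inf_minimalPrimes]; exact le_iInf₂ hlt
    rw [hht] at this
    norm_cast at this
    omega
  have := hQ.1.1
  set q := Q.comap (Ideal.Quotient.mk p.asIdeal) with hqdef
  have hpq : p.asIdeal ≤ q := le_comap_mk _ _
  have hqQ : q.map (Ideal.Quotient.mk p.asIdeal) = Q :=
    Ideal.map_comap_of_surjective _ Ideal.Quotient.mk_surjective Q
  have haq : a ≤ q :=
    le_sup_left.trans (Ideal.map_le_iff_le_comap.mp hQ.1.2)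
  obtain ⟨e, heb, hep⟩ := SetLike.not_le_iff_exists.mp hp
  suffices ∃ i ≤ ν + δ, ¬ b ≤ (Module.annihilator R (LocCoh.H a i M)).radical by
    obtain ⟨i, hi, hb⟩ := this
    rw [hadj]
    exact (iInf₂_le i hb).trans (Nat.cast_le.mpr hi)
  -- depth along the chain
  have hdep : ∀ (s : Ideal R) [s.IsPrime], p.asIdeal ≤ s →
      LocCoh.depth (Localization.AtPrime s) (LocalizedModule s.primeCompl M) ≤
        (ν : ℕ∞) + (s.map (Ideal.Quotient.mk p.asIdeal)).height := fun s _ hs =>
    (Depth.depth_localization_le M p.asIdeal s hs).trans (by rw [hdp])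
  have hsupp : ∀ (s : Ideal R) [s.IsPrime], p.asIdeal ≤ s →
      Nontrivial (LocalizedModule s.primeCompl M) := by
    intro s hs hps
    have h1 : p ∈ Module.support R M := by
      rw [Module.mem_support_iff]
      by_contra h
      rw [not_nontrivial_iff_subsingleton] at h
      rw [LocCoh.depth, Depth.idealDepth_of_subsingleton] at hdp
      exact ENat.top_ne_natCast ν hdp
    exact Module.mem_support_iff.mp
      (Module.mem_support_mono (p := p) (q := ⟨s, hs⟩) hps h1)
  by_cases heq : e ∈ q
  · obtain ⟨s, hs, hmax⟩ := (wellFounded_gt (α := Ideal R)).has_min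
      {s | s.IsPrime ∧ p.asIdeal ≤ s ∧ s ≤ q ∧ e ∉ s} ⟨p.asIdeal, p.isPrime, le_rfl, hpq, hep⟩
    obtain ⟨hsp, hps, hsq, hes⟩ := hs
    have hsq' : s < q := lt_of_le_of_ne hsq fun h => hes (h ▸ heq)
    have hcov : ∀ t : Ideal R, t.IsPrime → s ≤ t → t ≤ q → t = s ∨ t = q := by
      intro t ht hst htq
      by_contra! h
      have hst' : s < t := lt_of_le_of_ne hst h.1.symm
      have htq' : t < q := lt_of_le_of_ne htq h.2
      have h1 : 1 < (q.map (Ideal.Quotient.mk s)).height := by
        have h2 := one_le_height_map_mk hst'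
        have h3 := one_le_height_map_mk htq'
        have h4 : (1 : ℕ∞) + 1 ≤ (q.map (Ideal.Quotient.mk s)).height :=
          (add_le_add h2 h3).trans (height_add_le hst htq)
        rw [one_add_one_eq_two] at h4
        exact lt_of_lt_of_le (by norm_num) h4
      obtain ⟨t', ht', hst'', ht'q, het'⟩ := exists_prime_between s q hsq' h1 e hes
      exact hmax t' ⟨ht', hps.trans hst''.le, ht'q.le, het'⟩ hst''
    have has : ¬ a ≤ s := fun h => by
      have hle : (a ⊔ p.asIdeal).map (Ideal.Quotient.mk p.asIdeal) ≤
          s.map (Ideal.Quotient.mk p.asIdeal) := Ideal.map_mono (sup_le h hps)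
      have := hQ.2 ⟨isPrime_map_mk hps, hle⟩ ((Ideal.map_mono hsq).trans hqQ.le)
      exact absurd (hqQ.le.trans this) (map_mk_lt hps hsq').not_ge
    have h1 := height_add_le hps hsq
    rw [hqQ, hQh] at h1
    have h2 := one_le_height_map_mk hsq'
    cases hds : LocCoh.depth (Localization.AtPrime s) (LocalizedModule s.primeCompl M)
        using ENat.recTopCoe with
    | top =>
      have h3 := hdep s hps
      rw [hds, top_le_iff] at h3
      have h4 : (s.map (Ideal.Quotient.mk p.asIdeal)).height = ⊤ :=
        (WithTop.add_eq_top.mp h3).resolve_left (ENat.natCast_ne_top ν)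
      rw [h4, top_add, top_le_iff] at h1
      exact absurd h1 (ENat.natCast_ne_top δ)
    | coe r =>
      obtain ⟨i, hi, hb⟩ := exists_not_le_of_covBy a M heb s q hsq' hcov haq has heq hes r hds
      refine ⟨i, le_trans hi ?_, hb⟩
      have h3 := hdep s hps
      rw [hds] at h3
      have h5 : ((r + 1 : ℕ) : ℕ∞) ≤ (ν : ℕ∞) + δ := by
        rw [Nat.cast_add, Nat.cast_one]
        calc (r : ℕ∞) + 1 ≤ (ν : ℕ∞) + (s.map (Ideal.Quotient.mk p.asIdeal)).height +
              (q.map (Ideal.Quotient.mk s)).height := add_le_add h3 h2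
          _ ≤ _ := by rw [add_assoc]; exact add_le_add le_rfl h1
      exact_mod_cast h5
  · have hbq : ¬ b ≤ q := fun h => heq (h heb)
    let A := Localization.AtPrime q
    let N := LocalizedModule q.primeCompl M
    have := hsupp q hpq
    have hne : a.map (algebraMap R A) • (⊤ : Submodule A N) ≠ ⊤ := by
      refine (Submodule.top_ne_ideal_smul_of_le_jacobson_annihilator ?_).symm
      refine le_trans ?_ (IsLocalRing.maximalIdeal_le_jacobson _)
      rw [← Localization.AtPrime.map_eq_maximalIdeal]
      exact Ideal.map_mono haq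
    obtain ⟨t, ht⟩ := Depth.exists_natCast_eq_idealDepth hne
    refine ⟨t, ?_, S11649.result R a b M ⟨q, inferInstance⟩
      (Module.mem_support_iff.mpr ‹_›) haq hbq t ht⟩
    have h1 : idealDepth (a.map (algebraMap R A)) N ≤ LocCoh.depth A N := by
      refine Depth.idealDepth_mono ?_ Depth.maximalIdeal_smul_top_ne_top
      rw [← Localization.AtPrime.map_eq_maximalIdeal]
      exact Ideal.map_mono haq
    have h2 := (ht.symm.le.trans h1).trans (hdep q hpq)
    rw [hqQ, hQh, ← Nat.cast_add, Nat.cast_le] at h2
    exact h2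

end Groth.Agent.LocCohBasic
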