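import Groth.Agent.LocCohBasic.Finiteness
import Groth.Agent.LocCohBasic.Depth
import Groth.Agent.LocCohBasic.Faltings
import Mathlib.Algebra.Module.LocalizedModule.Exact
import Mathlib.CategoryTheory.Abelian.Projective.Dimension

/-!
# Annihilators of local cohomology below grade minus projective dimension
-/

universe u

open CategoryTheory LocCoh

namespace Groth.Agent.LocCohBasic

variable {R : Type u} [CommRing R] [IsNoetherianRing R]

lemma subsingleton_pi_of_lt_idealDepth (b : Ideal R) {i m : ℕ} (hi : (i : ℕ∞) < idealDepth b R) :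
    Subsingleton ((localCohomology b i).obj (ModuleCat.of R (Fin m → R))) := by
  have : Subsingleton ((localCohomology b i).obj (ModuleCat.of R R)) :=
    subsingleton_of_lt_idealDepth b (M := ModuleCat.of R R) hi
  refine subsingleton_of_forall_eq 0 fun y => ?_
  simpa using smul_pi_eq_zero b (a := 1) (fun z => Subsingleton.elim _ _) y

/-- The step: one element works for all ideals. -/
theorem exists_smul_eq_zero_of_hasProjectiveDimensionLE (p : Ideal R) [p.IsPrime] (h : ℕ) :
    ∀ (M : Type u) [AddCommGroup M] [Module R M] [Module.Finite R M],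
      HasProjectiveDimensionLE (ModuleCat.of (Localization.AtPrime p)
        (LocalizedModule p.primeCompl M)) h →
      ∃ s : R, s ∉ p ∧ ∀ (b : Ideal R) (i : ℕ), ((i + h : ℕ) : ℕ∞) < idealDepth b R →
        ∀ x : LocCoh.H b i M, s • x = 0 := by
  induction h with
  | zero =>
    intro M _ _ _ hpd
    have hproj : Projective (ModuleCat.of (Localization.AtPrime p)
        (LocalizedModule p.primeCompl M)) :=
      projective_iff_hasProjectiveDimensionLT_one.mpr hpd
    have : Module.Projective (Localization.AtPrime p) (LocalizedModule p.primeCompl M) :=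
      (IsProjective.iff_projective _).mpr hproj
    obtain ⟨⟨s, hs⟩, m, f, g, hfg⟩ := exists_factor_free p.primeCompl M
    refine ⟨s, hs, fun b i hi x => ?_⟩
    have := subsingleton_of_lt_idealDepth b (M := ModuleCat.of R R) (i := i) (by simpa using hi)
    have h' := mul_smul_eq_zero_of_factor b hfg (a := 1) (fun y => Subsingleton.elim _ _) x
    rwa [mul_one] at h'
  | succ h ih =>
    intro M _ _ _ hpd
    obtain ⟨m, π, hπ⟩ := Module.Finite.exists_fin' R M
    let S := π.shortComplexKer
    have hS : S.ShortExact := LinearMap.shortExact_shortComplexKer hπ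
    let T : ShortComplex (ModuleCat.{u} (Localization.AtPrime p)) :=
      ModuleCat.shortComplexOfCompEqZero (LocalizedModule.map p.primeCompl (LinearMap.ker π).subtype)
        (LocalizedModule.map p.primeCompl π) (LinearMap.ext fun z =>
          ((LocalizedModule.map_exact p.primeCompl _ _ (LinearMap.exact_subtype_ker_map π) _).mpr
            ⟨z, rfl⟩))
    have hT : T.ShortExact := ModuleCat.shortComplex_shortExact _
      (LocalizedModule.map_exact p.primeCompl _ _ (LinearMap.exact_subtype_ker_map π))
      (LocalizedModule.map_injective p.primeCompl _ (Submodule.injective_subtype _))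
      (LocalizedModule.map_surjective p.primeCompl _ hπ)
    have : Module.Projective (Localization.AtPrime p)
        (LocalizedModule p.primeCompl (Fin m → R)) :=
      Module.projective_of_isLocalizedModule p.primeCompl
        (LocalizedModule.mkLinearMap p.primeCompl (Fin m → R))
    have hp2 : Projective T.X₂ := (IsProjective.iff_projective _).mp this
    have hK : HasProjectiveDimensionLE T.X₁ h :=
      (hT.hasProjectiveDimensionLT_X₃_iff h hp2).mp hpd
    obtain ⟨s, hs, hkill⟩ := ih (LinearMap.ker π) hK
    refine ⟨s, hs, fun b i hi x => ?_⟩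
    have hlt : (i : ℕ∞) < idealDepth b R :=
      lt_of_le_of_lt (Nat.cast_le.mpr (Nat.le_add_right i (h + 1))) hi
    have := subsingleton_pi_of_lt_idealDepth b (m := m) hlt
    have h0 : delta b i hS (s • x) = 0 := by
      refine (map_smul (delta b i hS).hom s x).trans ?_
      exact hkill b (i + 1) (by rwa [show i + 1 + h = i + (h + 1) by omega]) _
    obtain ⟨w, hw⟩ := exists_of_delta_eq_zero b hS _ h0
    have hw0 : w = 0 := @Subsingleton.elim _ this w 0
    rw [hw0, map_zero] at hw
    exact hw.symm

/-- A power of the defining ideal of the bad locus annihilates. -/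
theorem exists_pow_vanishingIdeal_le_annihilator (M : Type u) [AddCommGroup M] [Module R M]
    [Module.Finite R M] (t : ℕ) :
    ∃ n : ℕ, ∀ (d : Ideal R) (i : ℕ), ((i + t : ℕ) : ℕ∞) < idealDepth d R →
      (PrimeSpectrum.vanishingIdeal {p : PrimeSpectrum R | ¬ HasProjectiveDimensionLE
        (ModuleCat.of (Localization.AtPrime p.asIdeal)
          (LocalizedModule p.asIdeal.primeCompl M)) t}) ^ n ≤
        Module.annihilator R (LocCoh.H d i M) := by
  let C : Ideal R := ⨅ (d : Ideal R) (i : ℕ) (_ : ((i + t : ℕ) : ℕ∞) < idealDepth d R),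
    Module.annihilator R (LocCoh.H d i M)
  set Z := {p : PrimeSpectrum R | ¬ HasProjectiveDimensionLE
    (ModuleCat.of (Localization.AtPrime p.asIdeal) (LocalizedModule p.asIdeal.primeCompl M)) t}
  have hrad : PrimeSpectrum.vanishingIdeal Z ≤ C.radical := by
    rw [← PrimeSpectrum.vanishingIdeal_zeroLocus_eq_radical]
    refine PrimeSpectrum.vanishingIdeal_anti_mono fun p hp => ?_
    by_contra hpd
    simp only [Z, Set.mem_ofPred_eq, not_not] at hpd
    obtain ⟨s, hs, hkill⟩ := exists_smul_eq_zero_of_hasProjectiveDimensionLE p.asIdeal t M hpd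
    refine hs (hp ?_)
    simp only [C, SetLike.mem_coe, Submodule.mem_iInf, Module.mem_annihilator]
    exact fun d i hi x => hkill d i hi x
  obtain ⟨n, hn⟩ := Ideal.exists_pow_le_of_le_radical_of_fg hrad
    (PrimeSpectrum.vanishingIdeal Z).fg_of_isNoetherianRing
  exact ⟨n, fun d i hi => hn.trans (iInf_le_of_le d (iInf_le_of_le i (iInf_le _ hi)))⟩

end Groth.Agent.LocCohBasic
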