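import Groth.Agent.LocCohBasic.Faltings
import Groth.Agent.LocCohBasic.ProjDim
import Groth.Agent.LocCohBasic.RegularPd
import Groth.Agent.LocCohBasic.CompareSupport
import Groth.Agent.S11614
import Groth.Agent.S11617

/-!
# Faltings' annihilator theorem: the converse over homomorphic images of regular rings
-/

universe u

open CategoryTheory LocCoh IsLocalRing

namespace Groth.Agent.LocCohBasic

variable {R : Type u} [CommRing R]

lemma height_add_height_map_mk_le (p q : Ideal R) [p.IsPrime] [q.IsPrime] (h : p ≤ q) :
    p.height + (q.map (Ideal.Quotient.mk p)).height ≤ q.height := by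
  have key : ∀ J : Ideal R, (J.map (Ideal.Quotient.mk (⊥ : Ideal R))).height = J.height := fun J => by
    let e := RingEquiv.quotientBot R
    have h1 := e.symm.height_map J
    exact h1
  have := height_add_le (p := (⊥ : Ideal R)) (s := p) (q := q) bot_le h
  rwa [key, key] at this

variable [IsNoetherianRing R]

/-- If every prime over `V` below `q` contains `e`, some multiple of `e` off `q` is in `√V`. -/
lemma exists_notMem_mul_mem_radical (V : Ideal R) (q : Ideal R) [q.IsPrime] (e : R)
    (h : ∀ p : Ideal R, p.IsPrime → V ≤ p → p ≤ q → e ∈ p) :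
    ∃ s, s ∉ q ∧ s * e ∈ V.radical := by
  classical
  have hfin := Ideal.finite_minimalPrimes_of_isNoetherianRing R V
  have hex : ∀ p ∈ hfin.toFinset.filter (fun p => ¬ p ≤ q), ∃ x, x ∈ p ∧ x ∉ q :=
    fun p hp => SetLike.not_le_iff_exists.mp (Finset.mem_filter.mp hp).2
  choose x hx hxq using hex
  let F := hfin.toFinset.filter (fun p => ¬ p ≤ q)
  refine ⟨∏ p ∈ F.attach, x p.1 p.2, fun hmem => ?_, ?_⟩
  · obtain ⟨p, -, hp⟩ := (‹q.IsPrime›.prod_mem_iff).mp hmem
    exact hxq p.1 p.2 hp
  · rw [← Ideal.sInf_minimalPrimes, Ideal.mem_sInf]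
    intro p hp
    by_cases hpq : p ≤ q
    · exact Ideal.mul_mem_left _ _ (h p hp.1.1 hp.1.2 hpq)
    · refine Ideal.mul_mem_right _ _ ?_
      have hpF : p ∈ F := Finset.mem_filter.mpr ⟨hfin.mem_toFinset.mpr hp, hpq⟩
      obtain ⟨c, hc⟩ := Finset.dvd_prod_of_mem (fun p : F => x p.1 p.2)
        (Finset.mem_attach F ⟨p, hpF⟩)
      rw [hc]
      exact Ideal.mul_mem_right _ _ (hx p hpF)

omit [IsNoetherianRing R] in
lemma minAdjDepth_mono {a a' b : Ideal R} (M : Type u) [AddCommGroup M] [Module R M]
    (h : a ≤ a') : minAdjDepth a b M ≤ minAdjDepth a' b M :=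
  iInf₂_mono fun _ _ => add_le_add le_rfl (Ideal.height_mono (Ideal.map_mono (sup_le_sup_right h _)))

section Regular

variable {S : Type u} [CommRing S] [IsRegularRing S]

lemma isCohenMacaulayRing_of_isRegularRing : IsCohenMacaulayRing S where
  isCohenMacaulayLocalRing_localization p _ :=
    have := IsRegularRing.isRegularLocalRing_localization (R := S) p
    isCohenMacaulayLocalRing_of_isRegularLocalRing

/-- Annihilation at a prime. -/
lemma exists_notMem_pow_smul_eq_zero (b : Ideal S) (M : Type u) [AddCommGroup M] [Module S M]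
    [Module.Finite S M] (q : Ideal S) [q.IsPrime] (i : ℕ)
    (hi : ((i + 1 : ℕ) : ℕ∞) ≤ minAdjDepth q b M) {e : S} (he : e ∈ b) :
    ∃ (s : S) (n : ℕ), s ∉ q ∧ ∀ y : LocCoh.H q i M, (s * e) ^ n • y = 0 := by
  obtain ⟨d, hd⟩ := ENat.ne_top_iff_exists.mp (Ideal.height_ne_top_of_isPrime (I := q))
  have hadj : ∀ p : Ideal S, ∀ [p.IsPrime], p ≤ q → e ∉ p →
      ((i + 1 : ℕ) : ℕ∞) + p.height ≤
        LocCoh.depth (Localization.AtPrime p) (LocalizedModule p.primeCompl M) + d := by
    intro p _ hpq hep
    have h1 : ((i + 1 : ℕ) : ℕ∞) ≤ adjDepth q M ⟨p, ‹_›⟩ :=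
      hi.trans (iInf₂_le _ fun h => hep (h he))
    rw [adjDepth, sup_of_le_left hpq] at h1
    refine (add_le_add h1 le_rfl).trans ?_
    rw [add_assoc, hd, add_comm (Ideal.height _)]
    exact add_le_add le_rfl (height_add_height_map_mk_le p q hpq)
  by_cases hid : d ≤ i
  · obtain ⟨s, hs, hmem⟩ := exists_notMem_mul_mem_radical (Module.annihilator S M) q e
      fun p hp hVp hpq => by
        by_contra hep
        have hne : Nontrivial (LocalizedModule p.primeCompl M) :=
          Module.mem_support_iff.mp
            (Module.mem_support_iff_of_finite.mpr hVp : (⟨p, hp⟩ : PrimeSpectrum S) ∈ _)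
        have : IsNoetherianRing (Localization.AtPrime p) :=
          IsLocalization.isNoetherianRing p.primeCompl _ inferInstance
        have h1 := hadj p hpq hep
        obtain ⟨k, hk⟩ := ENat.ne_top_iff_exists.mp (Ideal.height_ne_top_of_isPrime (I := p))
        have h2 : LocCoh.depth (Localization.AtPrime p) (LocalizedModule p.primeCompl M) ≤ k := by
          have h3 := Depth.depth_le_ringKrullDim (R := Localization.AtPrime p)
            (M := LocalizedModule p.primeCompl M)
          rw [IsLocalization.AtPrime.ringKrullDim_eq_height p (Localization.AtPrime p), ← hk] at h3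
          exact_mod_cast h3
        rw [← hk] at h1
        have h4 := h1.trans (add_le_add h2 le_rfl)
        rw [← Nat.cast_add, ← Nat.cast_add, Nat.cast_le] at h4
        omega
    obtain ⟨n, hn⟩ := hmem
    exact ⟨s, n, hs, smul_eq_zero_of_killed q (ModuleCat.of S M) (Module.mem_annihilator.mp hn) i⟩
  · have hid' : i < d := not_le.mp hid
    let C := ⨅ (D : Ideal S) (j : ℕ) (_ : ((j + (d - (i + 1)) : ℕ) : ℕ∞) < idealDepth D S),
      Module.annihilator S (LocCoh.H D j M)
    obtain ⟨s, hs, hmem⟩ := exists_notMem_mul_mem_radical C q e fun p hp hCp hpq => by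
      by_contra hep
      obtain ⟨k, hk⟩ := ENat.ne_top_iff_exists.mp (Ideal.height_ne_top_of_isPrime (I := p))
      have h1 := hadj p hpq hep
      have : IsNoetherianRing (Localization.AtPrime p) :=
        IsLocalization.isNoetherianRing p.primeCompl _ inferInstance
      have hpd : HasProjectiveDimensionLE (ModuleCat.of (Localization.AtPrime p)
          (LocalizedModule p.primeCompl M)) (d - (i + 1)) := by
        have := IsRegularRing.isRegularLocalRing_localization (R := S) p
        refine hasProjectiveDimensionLE_of_depth _ (d := k) ?_ ?_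
        · rw [IsLocalization.AtPrime.ringKrullDim_eq_height p (Localization.AtPrime p), ← hk]
          rfl
        · rw [← hk] at h1
          cases hdep : LocCoh.depth (Localization.AtPrime p) (LocalizedModule p.primeCompl M)
              using ENat.recTopCoe with
          | top => rw [top_add]; exact le_top
          | coe ν =>
            rw [hdep, ← Nat.cast_add, ← Nat.cast_add, Nat.cast_le] at h1
            rw [← Nat.cast_add, Nat.cast_le]
            omega
      obtain ⟨s, hs, hkill⟩ := exists_smul_eq_zero_of_hasProjectiveDimensionLE p _ M hpd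
      refine hs (hCp ?_)
      simp only [C, Submodule.mem_iInf, Module.mem_annihilator]
      exact fun D j hj x => hkill D j hj x
    obtain ⟨n, hn⟩ := hmem
    refine ⟨s, n, hs, ?_⟩
    simp only [C, Submodule.mem_iInf, Module.mem_annihilator] at hn
    refine hn q i ?_
    have := isCohenMacaulayRing_of_isRegularRing (S := S)
    rw [Depth.idealDepth_eq_height, ← hd, Nat.cast_lt]
    omega

/-- The converse inequality over a regular ring. -/
theorem exists_pow_smul_eq_zero_of_lt (b : Ideal S) (M : Type u) [AddCommGroup M] [Module S M]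
    [Module.Finite S M] (i : ℕ) {e : S} (he : e ∈ b) (a : Ideal S) :
    ((i + 1 : ℕ) : ℕ∞) ≤ minAdjDepth a b M → ∃ n : ℕ, ∀ y : LocCoh.H a i M, e ^ n • y = 0 := by
  classical
  induction a using (wellFounded_gt (α := Ideal S)).induction with
  | _ a ih =>
  intro hlam
  by_cases htop : a = ⊤
  · subst htop
    refine ⟨0, fun y => ?_⟩
    obtain ⟨k, hk⟩ := exists_pow_smul_eq_zero (⊤ : Ideal S) (ModuleCat.of S M) y
    have h1 := hk 1 (by rw [Ideal.top_pow]; trivial)
    rw [one_smul] at h1
    rw [h1, smul_zero]
  obtain ⟨q, hq⟩ := Ideal.nonempty_minimalPrimes htop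
  have := hq.1.1
  obtain ⟨s, n₁, hs, hkill⟩ := exists_notMem_pow_smul_eq_zero b M q i
    (hlam.trans (minAdjDepth_mono M hq.1.2)) he
  -- an element in the other components
  have hfin := Ideal.finite_minimalPrimes_of_isNoetherianRing S a
  let F := hfin.toFinset.erase q
  have hne : ∀ p ∈ F, ∃ x, x ∈ p ∧ x ∉ q := by
    intro p hp
    obtain ⟨hpq, hp'⟩ := Finset.mem_erase.mp hp
    have hp'' := hfin.mem_toFinset.mp hp'
    exact SetLike.not_le_iff_exists.mp fun h => hpq (le_antisymm h (hq.2 hp''.1 h))
  choose x hx hxq using hne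
  set w := ∏ p ∈ F.attach, x p.1 p.2
  have hwq : w ∉ q := fun h => by
    obtain ⟨p, -, hp⟩ := (‹q.IsPrime›.prod_mem_iff).mp h
    exact hxq p.1 p.2 hp
  set f := s * w
  have hfq : f ∉ q := fun h => ((‹q.IsPrime›).mem_or_mem h).elim hs hwq
  let S' := Localization.Away f
  have hfu : IsUnit (algebraMap S S' f) :=
    IsLocalization.map_units S' (⟨f, 1, pow_one f⟩ : Submonoid.powers f)
  have hsu : IsUnit (algebraMap S S' s) := isUnit_of_dvd_unit (map_dvd _ (dvd_mul_right s w)) hfu
  have hwu : IsUnit (algebraMap S S' w) := isUnit_of_dvd_unit (map_dvd _ (dvd_mul_left w s)) hfu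
  have hrad : (a.map (algebraMap S S')).radical = (q.map (algebraMap S S')).radical := by
    refine le_antisymm (Ideal.radical_mono (Ideal.map_mono hq.1.2)) ?_
    refine (Ideal.radical_mono (Ideal.map_le_iff_le_comap.mpr fun z hz => ?_)).trans
      (Ideal.radical_idem _).le
    have hwz : w * z ∈ a.radical := by
      rw [← Ideal.sInf_minimalPrimes, Ideal.mem_sInf]
      intro p hp
      by_cases hpq : p = q
      · exact Ideal.mul_mem_left _ _ (hpq ▸ hz)
      · have hpF : p ∈ F := Finset.mem_erase.mpr ⟨hpq, hfin.mem_toFinset.mpr hp⟩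
        obtain ⟨c, hc⟩ := Finset.dvd_prod_of_mem (fun p : F => x p.1 p.2)
          (Finset.mem_attach F ⟨p, hpF⟩)
        refine Ideal.mul_mem_right _ _ ?_
        rw [show w = x p hpF * c from hc]
        exact Ideal.mul_mem_right _ _ (hx p hpF)
    obtain ⟨m, hm⟩ := hwz
    have h1 : algebraMap S S' w * algebraMap S S' z ∈ (a.map (algebraMap S S')).radical :=
      ⟨m, by rw [← map_mul, ← map_pow]; exact Ideal.mem_map_of_mem _ hm⟩
    exact (Ideal.unit_mul_mem_iff_mem _ hwu).mp h1
  obtain ⟨φa⟩ := S11617.result S S' a M i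
  obtain ⟨φq⟩ := S11617.result S S' q M i
  obtain ⟨j⟩ := nonempty_iso_of_radical_eq (a.map (algebraMap S S')) hrad i
  have hT : ∀ z : TensorProduct S S' (LocCoh.H a i M), algebraMap S S' (e ^ n₁) • z = 0 := by
    intro z
    let Θ := φa ≪≫ₗ (j.app (ModuleCat.of S' (TensorProduct S S' M))).toLinearEquiv ≪≫ₗ φq.symm
    refine Θ.injective ?_
    rw [map_smul, map_zero]
    have hk : ∀ v : TensorProduct S S' (LocCoh.H q i M),
        algebraMap S S' ((s * e) ^ n₁) • v = 0 := by
      intro v
      induction v using TensorProduct.induction_on with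
      | zero => exact smul_zero _
      | tmul c y =>
        rw [algebraMap_smul, ← TensorProduct.tmul_smul, hkill y, TensorProduct.tmul_zero]
      | add u v hu hv => rw [smul_add, hu, hv, add_zero]
    have h := hk (Θ z)
    rw [mul_pow, map_mul, mul_smul, map_pow (algebraMap S S') s] at h
    exact (hsu.pow n₁).smul_eq_zero.mp h
  have hloc : IsLocalizedModule (Submonoid.powers f) (TensorProduct.mk S S' (LocCoh.H a i M) 1) :=
    (isLocalizedModule_iff_isBaseChange (Submonoid.powers f) S' _).mpr
      (TensorProduct.isBaseChange S _ S')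
  have hlt : a < a ⊔ Ideal.span {f} := lt_of_le_of_ne le_sup_left fun h =>
    hfq (hq.1.2 (h.symm ▸ Submodule.mem_sup_right (Ideal.mem_span_singleton_self f)))
  obtain ⟨n₂, hn₂⟩ := ih (a ⊔ Ideal.span {f}) hlt (hlam.trans (minAdjDepth_mono M le_sup_left))
  refine ⟨n₂ + n₁, fun y => ?_⟩
  have h0 : TensorProduct.mk S S' (LocCoh.H a i M) 1 (e ^ n₁ • y) = 0 := by
    rw [map_smul, ← algebraMap_smul S' (e ^ n₁)]
    exact hT _
  obtain ⟨⟨_, m, rfl⟩, hm⟩ := (IsLocalizedModule.eq_zero_iff (Submonoid.powers f)
    (TensorProduct.mk S S' (LocCoh.H a i M) 1)).mp h0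
  obtain ⟨y₁, hy₁⟩ := (mem_range_φb_iff f a i (ModuleCat.of S M) (e ^ n₁ • y)).mpr ⟨m, hm⟩
  rw [pow_add, mul_smul, ← hy₁, ← map_smul, hn₂, map_zero]

end Regular

section Transfer

variable {R : Type u} [CommRing R] [IsNoetherianRing R] {S : Type u} [CommRing S] [Algebra S R]

omit [IsNoetherianRing R] in
lemma height_map_mk_comap (hπ : Function.Surjective (algebraMap S R)) (p J : Ideal R) :
    ((J.comap (algebraMap S R)).map (Ideal.Quotient.mk (p.comap (algebraMap S R)))).height =
      (J.map (Ideal.Quotient.mk p)).height := by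
  let g : S ⧸ p.comap (algebraMap S R) →+* R ⧸ p :=
    Ideal.quotientMap p (algebraMap S R) le_rfl
  have hg : Function.Bijective g :=
    ⟨Ideal.quotientMap_injective, Ideal.quotientMap_surjective hπ⟩
  rw [← (RingEquiv.ofBijective g hg).height_map]
  change (((J.comap (algebraMap S R)).map (Ideal.Quotient.mk (p.comap (algebraMap S R)))).map g).height = _
  rw [Ideal.map_map]
  congr 1
  have hcomp : g.comp (Ideal.Quotient.mk (p.comap (algebraMap S R))) =
      (Ideal.Quotient.mk p).comp (algebraMap S R) := RingHom.ext fun _ => rfl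
  rw [hcomp, ← Ideal.map_map, Ideal.map_comap_of_surjective _ hπ]

variable [IsNoetherianRing S]

omit [IsNoetherianRing S] in
/-- Depth at a prime does not change along a surjection. -/
lemma depth_of_surjective (hπ : Function.Surjective (algebraMap S R)) (M : Type u) [AddCommGroup M]
    [Module R M] [Module S M] [IsScalarTower S R M] [Module.Finite R M] (p : Ideal R) [p.IsPrime] :
    LocCoh.depth (Localization.AtPrime p) (LocalizedModule p.primeCompl M) =
      LocCoh.depth (Localization.AtPrime (p.comap (algebraMap S R)))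
        (LocalizedModule (p.comap (algebraMap S R)).primeCompl M) := by
  set P := p.comap (algebraMap S R) with hP
  let ρ : Localization.AtPrime P →+* Localization.AtPrime p :=
    Localization.localRingHom P p (algebraMap S R) rfl
  have hρ : Function.Surjective ρ := by
    intro z
    obtain ⟨r, t, rfl⟩ := IsLocalization.exists_mk'_eq p.primeCompl z
    obtain ⟨r', rfl⟩ := hπ r
    obtain ⟨t', ht'⟩ := hπ t
    have htP : t' ∈ P.primeCompl := fun h => t.2 (ht' ▸ Ideal.mem_comap.mp h)
    refine ⟨IsLocalization.mk' _ r' (⟨t', htP⟩ : P.primeCompl), ?_⟩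
    rw [Localization.localRingHom_mk']
    congr
  let : Algebra (Localization.AtPrime P) (Localization.AtPrime p) := ρ.toAlgebra
  let Mp := LocalizedModule p.primeCompl M
  let : Module (Localization.AtPrime P) Mp := Module.compHom _ ρ
  have : IsScalarTower (Localization.AtPrime P) (Localization.AtPrime p) Mp :=
    IsScalarTower.of_algebraMap_smul fun _ _ => rfl
  have : IsScalarTower S (Localization.AtPrime P) Mp :=
    IsScalarTower.of_algebraMap_smul fun c x => by
      change ρ (algebraMap S _ c) • x = c • x
      rw [Localization.localRingHom_to_map, algebraMap_smul, algebraMap_smul]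
  let g : M →ₗ[S] Mp := (LocalizedModule.mkLinearMap p.primeCompl M).restrictScalars S
  have : IsLocalizedModule P.primeCompl g := by
    have hact : ∀ (c : S) (x : Mp), c • x = algebraMap S R c • x := fun c x =>
      (algebraMap_smul R c x).symm
    refine ⟨fun s => (Module.End.isUnit_iff _).mpr ?_, fun z => ?_, fun {x y} h => ?_⟩
    · have hs : algebraMap S R s ∈ p.primeCompl := fun h => s.2 (Ideal.mem_comap.mpr h)
      have h1 := (Module.End.isUnit_iff _).mp
        (IsLocalizedModule.map_units (LocalizedModule.mkLinearMap p.primeCompl M) ⟨_, hs⟩)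
      have h2 : (fun x : Mp => (s : S) • x) = fun x => algebraMap S R s • x :=
        funext fun x => hact s x
      change Function.Bijective fun x : Mp => (s : S) • x
      rw [h2]; exact h1
    · obtain ⟨⟨m, t⟩, hm⟩ := IsLocalizedModule.surj p.primeCompl
        (LocalizedModule.mkLinearMap p.primeCompl M) z
      obtain ⟨t', ht'⟩ := hπ t
      refine ⟨(m, ⟨t', fun h => t.2 (ht' ▸ Ideal.mem_comap.mp h)⟩), ?_⟩
      change t' • z = _
      rw [hact]
      exact (congrArg (fun c : R => c • z) ht').trans hm
    · obtain ⟨t, ht⟩ := IsLocalizedModule.exists_of_eq (S := p.primeCompl)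
        (f := LocalizedModule.mkLinearMap p.primeCompl M) h
      obtain ⟨t', ht'⟩ := hπ t
      refine ⟨⟨t', fun h => t.2 (ht' ▸ Ideal.mem_comap.mp h)⟩, ?_⟩
      change t' • x = t' • y
      rw [← algebraMap_smul R t' x, ← algebraMap_smul R t' y, ht']
      exact ht
  let j := (IsLocalizedModule.iso P.primeCompl g).extendScalarsOfIsLocalization P.primeCompl
    (Localization.AtPrime P)
  have : IsNoetherianRing (Localization.AtPrime p) :=
    IsLocalization.isNoetherianRing p.primeCompl _ inferInstance
  rw [Depth.depth_congr j, Depth.depth_eq_of_surjective hρ]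

omit [IsNoetherianRing S] in
lemma minAdjDepth_le_comap (hπ : Function.Surjective (algebraMap S R)) (a b : Ideal R) (M : Type u)
    [AddCommGroup M] [Module R M] [Module S M] [IsScalarTower S R M] [Module.Finite R M] :
    minAdjDepth a b M ≤ minAdjDepth (a.comap (algebraMap S R)) (b.comap (algebraMap S R)) M := by
  have : Module.Finite S R := Module.Finite.of_surjective (Algebra.linearMap S R) hπ
  have : Module.Finite S M := Module.Finite.trans R M
  refine le_iInf₂ fun P hP => ?_
  by_cases hker : RingHom.ker (algebraMap S R) ≤ P.asIdeal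
  · let p : Ideal R := P.asIdeal.map (algebraMap S R)
    have hp : p.IsPrime := Ideal.map_isPrime_of_surjective hπ hker
    have hcomap : p.comap (algebraMap S R) = P.asIdeal := by
      rw [Ideal.comap_map_of_surjective _ hπ, ← RingHom.ker_eq_comap_bot, sup_of_le_left hker]
    have hbp : ¬ b ≤ p := fun h => hP (hcomap ▸ Ideal.comap_mono h)
    refine (iInf₂_le (⟨p, hp⟩ : PrimeSpectrum R) hbp).trans (le_of_eq ?_)
    rw [adjDepth, adjDepth]
    congr 1
    · have key : ∀ (Q : Ideal S) [Q.IsPrime], p.comap (algebraMap S R) = Q →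
          LocCoh.depth (Localization.AtPrime p) (LocalizedModule p.primeCompl M) =
            LocCoh.depth (Localization.AtPrime Q) (LocalizedModule Q.primeCompl M) := by
        intro Q _ hQ
        subst hQ
        exact depth_of_surjective hπ M p
      exact key P.asIdeal hcomap
    · have h1 := height_map_mk_comap hπ p (a ⊔ p)
      rw [← h1]
      suffices ∀ Q : Ideal S, p.comap (algebraMap S R) = Q →
          (((a ⊔ p).comap (algebraMap S R)).map
            (Ideal.Quotient.mk (p.comap (algebraMap S R)))).height =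
          (((a.comap (algebraMap S R)) ⊔ Q).map (Ideal.Quotient.mk Q)).height from
        this P.asIdeal hcomap
      intro Q hQ
      subst hQ
      congr 2
      refine le_antisymm ?_ (sup_le (Ideal.comap_mono le_sup_left) (Ideal.comap_mono le_sup_right))
      intro z hz
      obtain ⟨x, hx, y, hy, hxy⟩ := Submodule.mem_sup.mp (Ideal.mem_comap.mp hz)
      obtain ⟨x', rfl⟩ := hπ x
      have hy' : z - x' ∈ p.comap (algebraMap S R) := by
        rw [Ideal.mem_comap, map_sub, ← hxy, add_sub_cancel_left]; exact hy
      exact Submodule.mem_sup.mpr ⟨x', hx, z - x', hy', add_sub_cancel x' z⟩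
  · have : Subsingleton (LocalizedModule P.asIdeal.primeCompl M) := by
      rw [← Module.notMem_support_iff]
      intro hmem
      refine hker (le_trans ?_ (Module.mem_support_iff_of_finite.mp hmem))
      intro z hz
      exact Module.mem_annihilator.mpr fun m => by
        rw [← algebraMap_smul R z m, RingHom.mem_ker.mp hz, zero_smul]
    refine le_top.trans_eq ?_
    rw [adjDepth, LocCoh.depth, Depth.idealDepth_of_subsingleton, top_add]

/-- Faltings: the converse inequality for images of regular rings. -/
theorem minAdjDepth_le_finDimRel {S : Type u} [CommRing S] [IsRegularRing S] [Algebra S R]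
    (hπ : Function.Surjective (algebraMap S R)) (a b : Ideal R) (M : Type u) [AddCommGroup M]
    [Module R M] [Module S M] [IsScalarTower S R M] [Module.Finite R M] :
    minAdjDepth a b M ≤ finDimRel a b M := by
  have : Module.Finite S R := Module.Finite.of_surjective (Algebra.linearMap S R) hπ
  have : Module.Finite S M := Module.Finite.trans R M
  refine le_iInf₂ fun i hb => ?_
  by_contra hlt
  refine hb fun x hx => ?_
  obtain ⟨x', rfl⟩ := hπ x
  have hi : ((i + 1 : ℕ) : ℕ∞) ≤ minAdjDepth (a.comap (algebraMap S R))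
      (b.comap (algebraMap S R)) M := by
    refine le_trans ?_ (minAdjDepth_le_comap hπ a b M)
    push_cast
    exact Order.add_one_le_of_lt (not_le.mp hlt)
  obtain ⟨n, hn⟩ := exists_pow_smul_eq_zero_of_lt (S := S) (b.comap (algebraMap S R)) M i
    (Ideal.mem_comap.mpr hx) (a.comap (algebraMap S R)) hi
  refine ⟨n, Module.mem_annihilator.mpr ?_⟩
  obtain ⟨φ, hφ⟩ := S11614.result S R (a.comap (algebraMap S R)) M i
  have key : ∀ y : LocCoh.H ((a.comap (algebraMap S R)).map (algebraMap S R)) i M,
      algebraMap S R x' ^ n • y = 0 := fun y => φ.injective (by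
    rw [← map_pow, hφ, map_zero]; exact hn _)
  rw [Ideal.map_comap_of_surjective _ hπ] at key
  exact key

end Transfer

end Groth.Agent.LocCohBasic
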