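import Groth.Agent.LocCohBasic.Cd
import Mathlib.RingTheory.KrullDimension.Regular
import Mathlib.RingTheory.Ideal.AssociatedPrime.Finiteness

/-!
# Vanishing of local cohomology: torsion modules, radical, dimension
-/

universe u

open CategoryTheory Limits Abelian localCohomology LocCoh

namespace Groth.Agent.LocCohBasic

variable {R : Type u} [CommRing R] (I : Ideal R)

lemma gammaI_map_surjective_of_isPowerTorsion {M N : ModuleCat.{u} R} (f : M ⟶ N)
    (hM : IsPowerTorsion I M) (hf : Function.Surjective f) :
    Function.Surjective ((DRing.gammaI I).map f) := by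
  rintro ⟨n, hn⟩
  obtain ⟨m, rfl⟩ := hf n
  exact ⟨⟨m, hM m⟩, rfl⟩

lemma map_g_surjective_zero {M N : ModuleCat.{u} R} (f : M ⟶ N)
    (hM : IsPowerTorsion I M) (hf : Function.Surjective f) :
    Function.Surjective ((localCohomology I 0).map f) := by
  intro z
  obtain ⟨w, hw⟩ := gammaI_map_surjective_of_isPowerTorsion I f hM hf ((zeroIso I).hom.app N z)
  refine ⟨(zeroIso I).inv.app M w, ?_⟩
  rw [← ModuleCat.comp_apply, ← (zeroIso I).inv.naturality, ModuleCat.comp_apply, hw,
    ← ModuleCat.comp_apply, Iso.hom_inv_id_app]
  rfl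

/-- Over a Noetherian ring the higher local cohomology of a torsion module vanishes. -/
theorem subsingleton_of_isPowerTorsion [IsNoetherianRing R] (i : ℕ) :
    ∀ (M : ModuleCat.{u} R), IsPowerTorsion I M →
      Subsingleton ((localCohomology I (i + 1)).obj M) := by
  induction i with
  | zero =>
    intro M hM
    let E := Injective.under M
    let G : ModuleCat.{u} R := (DRing.gammaI I).obj E
    let f : M →ₗ[R] G := (Injective.ι M).hom.codRestrict (DRing.torsionSub I E)
      fun m => DRing.map_mem_torsionSub I (Injective.ι M).hom (hM m)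
    have hf : Function.Injective f := fun a b h =>
      (ModuleCat.mono_iff_injective _).mp inferInstance (congrArg Subtype.val h)
    let S := ModuleCat.shortComplexOfCompEqZero f (LinearMap.range f).mkQ
      (LinearMap.range_mkQ_comp f)
    have hS : S.ShortExact := ModuleCat.shortComplex_shortExact _
      (f.exact_map_mkQ_range) hf (Submodule.mkQ_surjective _)
    refine subsingleton_of_forall_eq 0 fun x => ?_
    have : Injective S.X₂ := injective_gammaI_obj I E
    have := subsingleton_of_injective I S.X₂ 0
    obtain ⟨z, hz⟩ := exists_of_map_f_eq_zero I hS x (Subsingleton.elim _ _)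
    obtain ⟨y, hy⟩ := map_g_surjective_zero I S.g
      (fun e => (e : DRing.torsionSub I E).2.imp fun n hn a ha => Subtype.ext (hn a ha))
      (Submodule.mkQ_surjective _) z
    rw [← hz, ← hy, ← ModuleCat.comp_apply, map_comp_delta]
    rfl
  | succ i ih =>
    intro M hM
    let E := Injective.under M
    let G : ModuleCat.{u} R := (DRing.gammaI I).obj E
    let f : M →ₗ[R] G := (Injective.ι M).hom.codRestrict (DRing.torsionSub I E)
      fun m => DRing.map_mem_torsionSub I (Injective.ι M).hom (hM m)
    have hf : Function.Injective f := fun a b h =>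
      (ModuleCat.mono_iff_injective _).mp inferInstance (congrArg Subtype.val h)
    let S := ModuleCat.shortComplexOfCompEqZero f (LinearMap.range f).mkQ
      (LinearMap.range_mkQ_comp f)
    have hS : S.ShortExact := ModuleCat.shortComplex_shortExact _
      (f.exact_map_mkQ_range) hf (Submodule.mkQ_surjective _)
    refine subsingleton_of_forall_eq 0 fun x => ?_
    have : Injective S.X₂ := injective_gammaI_obj I E
    have := subsingleton_of_injective I S.X₂ (i + 1)
    obtain ⟨z, hz⟩ := exists_of_map_f_eq_zero I hS x (Subsingleton.elim _ _)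
    have := ih S.X₃ fun q => by
      obtain ⟨e, rfl⟩ := Submodule.mkQ_surjective (LinearMap.range f) q
      exact (e : DRing.torsionSub I E).2.imp fun n hn a ha => by
        rw [← map_smul, show a • e = 0 from Subtype.ext (hn a ha), map_zero]
    rw [← hz, Subsingleton.eq_zero z, map_zero]

lemma isPowerTorsion_torsionSub (M : Type u) [AddCommGroup M] [Module R M] :
    IsPowerTorsion I (DRing.torsionSub I M) :=
  fun m => m.2.imp fun _ hn a ha => Subtype.ext (hn a ha)

/-- Removing the torsion submodule does not change higher local cohomology. -/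
theorem map_mkQ_torsionSub_bijective [IsNoetherianRing R] (N : Type u) [AddCommGroup N]
    [Module R N] (i : ℕ) :
    Function.Bijective ((localCohomology I (i + 1)).map
      (ModuleCat.ofHom (DRing.torsionSub I N).mkQ)) := by
  let S := ModuleCat.shortComplexOfCompEqZero (DRing.torsionSub I N).subtype
    (DRing.torsionSub I N).mkQ (LinearMap.ext fun x => (Submodule.Quotient.mk_eq_zero _).mpr x.2)
  have hS : S.ShortExact := ModuleCat.shortComplex_shortExact _
    (LinearMap.exact_subtype_mkQ _) (Submodule.injective_subtype _) (Submodule.mkQ_surjective _)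
  have h1 := subsingleton_of_isPowerTorsion I i S.X₁ (isPowerTorsion_torsionSub I N)
  have h2 := subsingleton_of_isPowerTorsion I (i + 1) S.X₁ (isPowerTorsion_torsionSub I N)
  refine ⟨(injective_iff_map_eq_zero _).mpr fun x hx => ?_, fun z => ?_⟩
  · obtain ⟨a, rfl⟩ := exists_of_map_g_eq_zero I hS x hx
    rw [Subsingleton.eq_zero a, map_zero]
  · exact exists_of_delta_eq_zero I hS z (Subsingleton.elim _ _)

/-- A class in `Ext^i(N, M)` with `N` finite comes from a finitely generated submodule of `M`. -/
lemma exists_fg_ext [IsNoetherianRing R] (i : ℕ) :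
    ∀ (N M : ModuleCat.{u} R) [Module.Finite R N] (x : Ext N M i), ∃ (M' : Submodule R M)
      (_ : M'.FG) (x' : Ext N (ModuleCat.of R M') i),
      x'.comp (Ext.mk₀ (ModuleCat.ofHom M'.subtype)) (add_zero i) = x := by
  induction i with
  | zero =>
    intro N M _ x
    obtain ⟨g, rfl⟩ : ∃ g, Ext.mk₀ g = x := ⟨_, Ext.mk₀_homEquiv₀_apply x⟩
    refine ⟨LinearMap.range g.hom, LinearMap.range_eq_map g.hom ▸ Module.Finite.fg_top.map _,
      Ext.mk₀ (ModuleCat.ofHom g.hom.rangeRestrict), ?_⟩
    rw [Ext.mk₀_comp_mk₀]
    rfl
  | succ i ih =>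
    intro N M _ x
    obtain ⟨n, π, hπ⟩ := Module.Finite.exists_fin' R N
    let K : Submodule R (Fin n → R) := LinearMap.ker π
    let S := ModuleCat.shortComplexOfCompEqZero K.subtype π (LinearMap.ext fun y => y.2)
    have hS : S.ShortExact :=
      ModuleCat.shortComplex_shortExact _ π.exact_subtype_ker_map (Submodule.injective_subtype _) hπ
    have : Projective S.X₂ :=
      inferInstanceAs (Projective (ModuleCat.of R (Fin n → R)))
    obtain ⟨y, hy⟩ := Ext.contravariant_sequence_exact₃ hS M x
      (Ext.eq_zero_of_projective _) (show 1 + i = i + 1 by omega)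
    have : Module.Finite R S.X₁ := inferInstanceAs (Module.Finite R K)
    obtain ⟨M', hM', y', hy'⟩ := ih S.X₁ M y
    refine ⟨M', hM', hS.extClass.comp y' (by omega), ?_⟩
    rw [Ext.comp_assoc _ _ _ _ (add_zero i) (by omega), hy', hy]

/-- A class in local cohomology comes from a finitely generated submodule. -/
lemma exists_fg_map [IsNoetherianRing R] {i : ℕ} (M : ModuleCat.{u} R)
    (y : (localCohomology I i).obj M) : ∃ (M' : Submodule R M) (_ : M'.FG)
      (y' : (localCohomology I i).obj (ModuleCat.of R M')),
      (localCohomology I i).map (ModuleCat.ofHom M'.subtype) y' = y := by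
  obtain ⟨k, x, rfl⟩ := exists_loc I M y
  obtain ⟨M', hM', x', hx'⟩ := exists_fg_ext i (QI I k) M x
  exact ⟨M', hM', loc I _ k x', by rw [map_loc, hx']⟩

lemma subsingleton_of_fg [IsNoetherianRing R] {i : ℕ} (M : ModuleCat.{u} R)
    (h : ∀ M' : Submodule R M, M'.FG → Subsingleton ((localCohomology I i).obj (ModuleCat.of R M'))) :
    Subsingleton ((localCohomology I i).obj M) := by
  refine subsingleton_of_forall_eq 0 fun y => ?_
  obtain ⟨M', hM', y', rfl⟩ := exists_fg_map I M y
  have := h M' hM'
  rw [Subsingleton.eq_zero y', map_zero]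

/-- The functor is linear. -/
lemma map_lsmul {i : ℕ} (M : ModuleCat.{u} R) (x : R) (y : (localCohomology I i).obj M) :
    (localCohomology I i).map (ModuleCat.ofHom (LinearMap.lsmul R M x)) y = x • y := by
  obtain ⟨k, e, rfl⟩ := exists_loc I M y
  have : ModuleCat.ofHom (LinearMap.lsmul R M x) = x • 𝟙 M := rfl
  rw [map_loc, this, Ext.mk₀_smul, Ext.comp_smul, Ext.comp_mk₀_id, map_smul]

lemma eq_zero_of_mem_torsionSub_quotient [IsNoetherianRing R] {M : Type u} [AddCommGroup M]
    [Module R M] {q : M ⧸ DRing.torsionSub I M}
    (hq : q ∈ DRing.torsionSub I (M ⧸ DRing.torsionSub I M)) : q = 0 := by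
  obtain ⟨m, rfl⟩ := Submodule.Quotient.mk_surjective _ q
  obtain ⟨n, hn⟩ := hq
  let N : Submodule R M := (I ^ n) • (R ∙ m)
  have hN : N.FG := Submodule.FG.smul (IsNoetherian.noetherian _) (Submodule.fg_span_singleton m)
  have hle : N ≤ DRing.torsionSub I M := by
    refine Submodule.smul_le.mpr fun a ha y hy => ?_
    obtain ⟨r, rfl⟩ := Submodule.mem_span_singleton.mp hy
    have := hn a ha
    rw [← Submodule.Quotient.mk_smul, Submodule.Quotient.mk_eq_zero] at this
    rw [smul_comm]
    exact Submodule.smul_mem _ r this
  obtain ⟨K, hK⟩ := exists_uniform_pow I N hN hle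
  refine (Submodule.Quotient.mk_eq_zero _).mpr ⟨K + n, fun a ha => ?_⟩
  rw [pow_add] at ha
  induction ha using Submodule.mul_induction_on' with
  | mem_mul_mem b hb c hc =>
    rw [mul_smul]
    exact hK b hb _ (Submodule.smul_mem_smul hc (Submodule.mem_span_singleton_self m))
  | add y _ z _ hy hz => rw [add_smul, hy, hz, add_zero]

lemma exists_mem_isSMulRegular [IsNoetherianRing R] {M : Type u} [AddCommGroup M] [Module R M]
    [Module.Finite R M] (h : ∀ m : M, m ∈ DRing.torsionSub I M → m = 0) :
    ∃ r ∈ I, IsSMulRegular M r := by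
  by_contra! hreg
  have hsub : (I : Set R) ⊆ ⋃ p ∈ associatedPrimes R M, (p : Set R) := by
    rw [biUnion_associatedPrimes_eq_compl_regular]
    exact hreg
  obtain ⟨p, hp, hle⟩ := (Ideal.subset_union_prime_finite (associatedPrimes.finite R M) ⊥ ⊥
    (fun p hp _ _ => hp.isPrime)).mp hsub
  obtain ⟨hpp, m, hm⟩ := (isAssociatedPrime_iff_exists_injective_linearMap p M).mp hp
  have h1 : m (Submodule.Quotient.mk (1 : R)) = 0 := by
    refine h _ ⟨1, fun a ha => ?_⟩
    rw [← map_smul, ← Submodule.Quotient.mk_smul, (Submodule.Quotient.mk_eq_zero p).mpr, map_zero]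
    rw [smul_eq_mul, mul_one]
    exact hle (by simpa using ha)
  exact hpp.ne_top ((Ideal.eq_top_iff_one p).mpr
    ((Submodule.Quotient.mk_eq_zero p).mp (hm (h1.trans (map_zero m).symm))))

/-- Grothendieck vanishing for finitely generated modules. -/
theorem subsingleton_of_supportDim_lt_of_finite [IsNoetherianRing R] (i : ℕ) :
    ∀ (M : ModuleCat.{u} R) [Module.Finite R M],
      Module.supportDim R M < (i : WithBot ℕ∞) → Subsingleton ((localCohomology I i).obj M) := by
  induction i with
  | zero =>
    intro M _ hM
    have : Subsingleton M := by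
      rw [← Module.supportDim_eq_bot_iff_subsingleton R]
      exact WithBot.lt_coe_bot.mp hM
    exact ((zeroIso I).app M).toLinearEquiv.toEquiv.subsingleton_congr.mpr
      (inferInstanceAs (Subsingleton (DRing.torsionSub I M)))
  | succ i ih =>
    intro M _ hM
    let M' : ModuleCat.{u} R := ModuleCat.of R (M ⧸ DRing.torsionSub I M)
    suffices Subsingleton ((localCohomology I (i + 1)).obj M') from
      (Equiv.ofBijective _ (map_mkQ_torsionSub_bijective I M i)).subsingleton_congr.mpr this
    rcases subsingleton_or_nontrivial M' with _ | _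
    · exact subsingleton_of_isPowerTorsion I i M' fun m => ⟨0, fun a _ => Subsingleton.elim _ _⟩
    obtain ⟨x, hxI, hx⟩ := exists_mem_isSMulRegular I (M := M')
      fun m hm => eq_zero_of_mem_torsionSub_quotient I hm
    let S := ModuleCat.shortComplexOfCompEqZero (LinearMap.lsmul R M' x)
      (LinearMap.range (LinearMap.lsmul R M' x)).mkQ (LinearMap.range_mkQ_comp _)
    have hS : S.ShortExact := ModuleCat.shortComplex_shortExact _
      ((LinearMap.lsmul R M' x).exact_map_mkQ_range) hx (Submodule.mkQ_surjective _)
    have hdim : Module.supportDim R S.X₃ < (i : WithBot ℕ∞) := by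
      have hle := Module.supportDim_quotSMulTop_succ_le_of_notMem_minimalPrimes (M := M')
        (fun _ => hx.notMem_of_mem_minimalPrimes)
      have e : QuotSMulTop x M' ≃ₗ[R] S.X₃ := Submodule.quotEquivOfEq _ _
        (by ext; simp [Submodule.mem_smul_pointwise_iff_exists, LinearMap.mem_range])
      rw [Module.supportDim_eq_of_equiv e] at hle
      have h3 : Module.supportDim R M' ≤ Module.supportDim R M :=
        Module.supportDim_le_of_surjective _ (Submodule.mkQ_surjective _)
      have h4 : Module.supportDim R S.X₃ + 1 < (i : WithBot ℕ∞) + 1 :=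
        lt_of_le_of_lt (hle.trans h3) (by rw [← Nat.cast_add_one]; exact hM)
      exact lt_of_add_lt_add_right h4
    have hinj : ∀ y : (localCohomology I (i + 1)).obj M', x • y = 0 → y = 0 := by
      intro y hy
      have := ih S.X₃ hdim
      obtain ⟨z, hz⟩ := exists_of_map_f_eq_zero I hS y ((map_lsmul I M' x y).trans hy)
      rw [← hz, Subsingleton.eq_zero z, map_zero]
    refine subsingleton_of_forall_eq 0 fun y => ?_
    obtain ⟨k, hk⟩ := exists_pow_smul_eq_zero I M' y
    have hk' := hk _ (Ideal.pow_mem_pow hxI k)
    clear hk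
    induction k with
    | zero => simpa using hk'
    | succ k ih' =>
      rw [pow_succ', mul_smul] at hk'
      exact ih' (hinj _ hk')

/-- Grothendieck vanishing. -/
theorem subsingleton_of_supportDim_lt [IsNoetherianRing R] {i : ℕ} (M : ModuleCat.{u} R)
    (hM : Module.supportDim R M < (i : WithBot ℕ∞)) :
    Subsingleton ((localCohomology I i).obj M) := by
  refine subsingleton_of_fg I M fun M' hM' => ?_
  have : Module.Finite R M' := Module.Finite.iff_fg.mpr hM'
  exact subsingleton_of_supportDim_lt_of_finite I i (ModuleCat.of R M')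
    ((Module.supportDim_le_of_injective M'.subtype (Submodule.injective_subtype _)).trans_lt hM)

/-- Cohomological dimension is tested on the ring. -/
theorem cdLE_of_subsingleton_self [IsNoetherianRing R] {d : ℕ}
    (h : ∀ i, d < i → Subsingleton ((localCohomology I i).obj (ModuleCat.of R R))) :
    CdLE R I d := by
  obtain ⟨s, hs⟩ := IsNoetherian.noetherian I
  change Ideal.span (s : Set R) = I at hs
  have key : ∀ t i, d < i → s.card < i + t → ∀ (M : ModuleCat.{u} R),
      Subsingleton ((localCohomology I i).obj M) := by
    intro t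
    induction t with
    | zero =>
      intro i _ hi M
      subst hs
      exact cdLE_span_finset s M i (by omega)
    | succ t ih =>
      intro i hd hi M
      refine subsingleton_of_fg I M fun M' hM' => ?_
      have : Module.Finite R M' := Module.Finite.iff_fg.mpr hM'
      obtain ⟨n, π, hπ⟩ := Module.Finite.exists_fin' R M'
      let S := ModuleCat.shortComplexOfCompEqZero (LinearMap.ker π).subtype π
        (LinearMap.ext fun y => y.2)
      have hS : S.ShortExact :=
        ModuleCat.shortComplex_shortExact _ π.exact_subtype_ker_map (Submodule.injective_subtype _) hπ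
      have h₁ := ih (i + 1) (by omega) (by omega) S.X₁
      have h₂ : Subsingleton ((localCohomology I i).obj S.X₂) := by
        refine subsingleton_of_forall_eq 0 fun y => ?_
        let p : Fin n → (S.X₂ ⟶ ModuleCat.of R R) := fun j => ModuleCat.ofHom (LinearMap.proj j)
        let ι : Fin n → (ModuleCat.of R R ⟶ S.X₂) := fun j =>
          ModuleCat.ofHom (LinearMap.single R (fun _ : Fin n => R) j)
        have hid : 𝟙 S.X₂ = ∑ j, p j ≫ ι j := by
          ext1
          rw [ModuleCat.hom_sum]
          exact LinearMap.ext fun v => by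
            simp [p, ι, LinearMap.sum_apply, S, Finset.univ_sum_single]
        have hy : (localCohomology I i).map (𝟙 S.X₂) y = y := by
          rw [CategoryTheory.Functor.map_id]; rfl
        rw [← hy, hid, Functor.map_sum]
        change (∑ j, (localCohomology I i).map (p j ≫ ι j)).hom y = 0
        rw [ModuleCat.hom_sum, LinearMap.sum_apply]
        refine Finset.sum_eq_zero fun j _ => ?_
        have := h i hd
        rw [Functor.map_comp, ModuleCat.comp_apply,
          Subsingleton.eq_zero ((localCohomology I i).map (p j) y), map_zero]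
      refine subsingleton_of_forall_eq 0 fun z => ?_
      obtain ⟨y, hy⟩ := exists_of_delta_eq_zero I hS z (Subsingleton.elim _ _)
      rw [← hy, Subsingleton.eq_zero y, map_zero]
  intro M _ _ i hi
  exact key (s.card + 1) i hi (by omega) _

lemma torsionSub_eq_of_le [IsNoetherianRing R] {J : Ideal R} (h : I ≤ J.radical)
    (M : Type u) [AddCommGroup M] [Module R M] :
    DRing.torsionSub J M ≤ DRing.torsionSub I M := by
  rintro m ⟨n, hn⟩
  obtain ⟨k, hk⟩ := Ideal.exists_pow_le_of_le_radical_of_fg h (IsNoetherian.noetherian I)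
  exact ⟨k * n, fun a ha => hn a (Ideal.pow_right_mono hk n ((pow_mul I k n).le ha))⟩

lemma torsionSub_eq_of_radical_eq [IsNoetherianRing R] {J : Ideal R} (h : I.radical = J.radical)
    (M : Type u) [AddCommGroup M] [Module R M] :
    DRing.torsionSub I M = DRing.torsionSub J M :=
  le_antisymm (torsionSub_eq_of_le J (h.symm ▸ Ideal.le_radical) M)
    (torsionSub_eq_of_le I (h ▸ Ideal.le_radical) M)

/-- `Γ` of ideals with the same radical agree as functors. -/
noncomputable def gammaIsoOfRadical [IsNoetherianRing R] {J : Ideal R}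
    (h : I.radical = J.radical) : DRing.gammaI I ≅ DRing.gammaI J :=
  NatIso.ofComponents
    (fun M => (LinearEquiv.ofEq _ _ (torsionSub_eq_of_radical_eq I h M)).toModuleIso)
    (fun _ => rfl)

/-- Local cohomology only depends on the radical. -/
theorem nonempty_iso_of_radical_eq [IsNoetherianRing R] {J : Ideal R}
    (h : I.radical = J.radical) (i : ℕ) :
    Nonempty (localCohomology I i ≅ localCohomology J i) := by
  obtain ⟨e⟩ := nonempty_iso_rightDerived_gammaI I i
  obtain ⟨e'⟩ := nonempty_iso_rightDerived_gammaI J i
  exact ⟨e ≪≫ rightDerivedIso (gammaIsoOfRadical I h) i ≪≫ e'.symm⟩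

end Groth.Agent.LocCohBasic
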