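import Groth.Agent.LocCohBasic.Derived
import Mathlib.RingTheory.Filtration
import Mathlib.Algebra.Category.ModuleCat.Injective
import Mathlib.Algebra.Module.Injective
import Mathlib.RingTheory.Ideal.Operations

/-!
# `Γ_I` preserves injectives; cohomological dimension
-/

universe u

open CategoryTheory Limits Abelian localCohomology

namespace Groth.Agent.LocCohBasic

variable {R : Type u} [CommRing R]

section Injective

variable [IsNoetherianRing R] (I : Ideal R)

omit [IsNoetherianRing R] in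
lemma exists_uniform_pow {M : Type u} [AddCommGroup M] [Module R M] (N : Submodule R M)
    (hN : N.FG) (h : N ≤ DRing.torsionSub I M) :
    ∃ K : ℕ, ∀ a ∈ I ^ K, ∀ x ∈ N, a • x = 0 := by
  induction N, hN using Submodule.fg_induction with
  | singleton x =>
    obtain ⟨k, hk⟩ := h (Submodule.mem_span_singleton_self x)
    refine ⟨k, fun a ha y hy => ?_⟩
    obtain ⟨r, rfl⟩ := Submodule.mem_span_singleton.mp hy
    rw [smul_comm, hk a ha, smul_zero]
  | sup N₁ _ N₂ _ h₁ h₂ =>
    obtain ⟨K₁, hK₁⟩ := h₁ (le_trans le_sup_left h)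
    obtain ⟨K₂, hK₂⟩ := h₂ (le_trans le_sup_right h)
    refine ⟨K₁ + K₂, fun a ha x hx => ?_⟩
    obtain ⟨y, hy, z, hz, rfl⟩ := Submodule.mem_sup.mp hx
    rw [smul_add, hK₁ a (Ideal.pow_le_pow_right (Nat.le_add_right _ _) ha) y hy,
      hK₂ a (Ideal.pow_le_pow_right (Nat.le_add_left _ _) ha) z hz, add_zero]

/-- A map from an ideal to a torsion module kills `P ∩ J` for a power `P` of `I`. -/
lemma exists_pow_inf_killed {M : Type u} [AddCommGroup M] [Module R M] (J : Ideal R)
    (g : J →ₗ[R] M) (hg : LinearMap.range g ≤ DRing.torsionSub I M) :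
    ∃ N : ℕ, ∀ (x : J), (x : R) ∈ I ^ N → g x = 0 := by
  have hJ : J.FG := IsNoetherian.noetherian J
  have hJ' : (⊤ : Submodule R J).FG := (Submodule.fg_top J).mpr hJ
  obtain ⟨K, hK⟩ := exists_uniform_pow I (LinearMap.range g)
    (LinearMap.range_eq_map g ▸ hJ'.map g) hg
  obtain ⟨c, hc⟩ := Ideal.exists_pow_inf_eq_pow_smul (M := R) I J
  refine ⟨K + c, fun x hx => ?_⟩
  have h := hc (K + c) (by omega)
  simp only [smul_eq_mul, Ideal.mul_top, Nat.add_sub_cancel] at h
  have hx' : (x : R) ∈ I ^ K * J :=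
    Ideal.mul_mono_right inf_le_right (h.le ⟨hx, x.2⟩)
  have h0 : ∀ y : R, y ∈ I ^ K * J → ∃ hy : y ∈ J, g ⟨y, hy⟩ = 0 := by
    intro y hy
    induction hy using Submodule.mul_induction_on' with
    | mem_mul_mem a ha b hb =>
      refine ⟨J.mul_mem_left a hb, ?_⟩
      have e : (⟨a * b, J.mul_mem_left a hb⟩ : J) = a • ⟨b, hb⟩ := Subtype.ext rfl
      rw [e, map_smul]
      exact hK a ha _ (LinearMap.mem_range_self g _)
    | add y _ z _ hy' hz' =>
      obtain ⟨hy1, hy2⟩ := hy'
      obtain ⟨hz1, hz2⟩ := hz'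
      refine ⟨add_mem hy1 hz1, ?_⟩
      have e : (⟨y + z, add_mem hy1 hz1⟩ : J) = ⟨y, hy1⟩ + ⟨z, hz1⟩ := Subtype.ext rfl
      rw [e, map_add, hy2, hz2, add_zero]
  obtain ⟨_, h1⟩ := h0 x hx'
  exact h1

/-- Over a Noetherian ring `Γ_I` of an injective module is injective. -/
theorem injective_torsionSub (E : Type u) [AddCommGroup E] [Module R E] [Module.Injective R E] :
    Module.Injective R (DRing.torsionSub I E) := by
  refine Module.Baer.injective fun J g => ?_
  let g' : J →ₗ[R] E := (DRing.torsionSub I E).subtype ∘ₗ g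
  have hg' : LinearMap.range g' ≤ DRing.torsionSub I E := by
    rintro _ ⟨x, rfl⟩
    exact (g x).2
  obtain ⟨N, hN⟩ := exists_pow_inf_killed I J g' hg'
  let j : J ⧸ Submodule.comap J.subtype (I ^ N) →ₗ[R] R ⧸ (I ^ N) :=
    Submodule.mapQ _ _ J.subtype le_rfl
  have hj : Function.Injective j := by
    refine LinearMap.ker_eq_bot.mp (Submodule.ker_liftQ_eq_bot _ _ _ ?_)
    rw [LinearMap.ker_comp, Submodule.ker_mkQ]
  let gE : J ⧸ Submodule.comap J.subtype (I ^ N) →ₗ[R] E :=
    Submodule.liftQ _ g' (fun x hx => hN x hx)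
  obtain ⟨h, hh⟩ := Module.Injective.out j hj gE
  have hmem : ∀ r : R, h (Submodule.Quotient.mk r) ∈ DRing.torsionSub I E := by
    refine fun r => ⟨N, fun a ha => ?_⟩
    rw [← map_smul, ← Submodule.Quotient.mk_smul,
      (Submodule.Quotient.mk_eq_zero _).mpr (show a • r ∈ I ^ N from (I ^ N).mul_mem_right r ha),
      map_zero]
  exact ⟨(h ∘ₗ (I ^ N).mkQ).codRestrict _ hmem,
    fun x hx => Subtype.ext (hh (Submodule.Quotient.mk ⟨x, hx⟩))⟩

instance injective_gammaI_obj (E : ModuleCat.{u} R) [Injective E] :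
    Injective ((DRing.gammaI I).obj E) := by
  have : Module.Injective R E := Module.injective_module_of_injective_object R E
  have := injective_torsionSub I E
  exact Module.injective_object_of_injective_module R (DRing.torsionSub I E)

end Injective

section Criterion

variable (I : Ideal R)

/-- Vanishing criterion on an injective resolution. -/
lemma subsingleton_succ_iff {M : ModuleCat.{u} R} (E : InjectiveResolution M) (i : ℕ) :
    Subsingleton ((localCohomology I (i + 1)).obj M) ↔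
      ∀ z : E.cocomplex.X (i + 1), z ∈ DRing.torsionSub I (E.cocomplex.X (i + 1)) →
        E.cocomplex.d (i + 1) (i + 2) z = 0 →
        ∃ y ∈ DRing.torsionSub I (E.cocomplex.X i), E.cocomplex.d i (i + 1) y = z := by
  obtain ⟨e⟩ := nonempty_iso_rightDerived_gammaI I (i + 1)
  let e' := e.app M ≪≫ E.isoRightDerivedObj (DRing.gammaI I) (i + 1)
  let K := ((DRing.gammaI I).mapHomologicalComplex (ComplexShape.up ℕ)).obj E.cocomplex
  have h1 : Subsingleton ((localCohomology I (i + 1)).obj M) ↔ K.ExactAt (i + 1) := by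
    rw [HomologicalComplex.exactAt_iff_isZero_homology]
    refine ⟨fun h => (ModuleCat.isZero_of_subsingleton _).of_iso e'.symm, fun h => ?_⟩
    exact ModuleCat.subsingleton_of_isZero (h.of_iso e')
  rw [h1, HomologicalComplex.exactAt_iff' K i (i + 1) (i + 2) (by simp) (by simp),
    ShortComplex.moduleCat_exact_iff]
  constructor
  · intro h z hz hdz
    obtain ⟨y, hy⟩ := h ⟨z, hz⟩ (Subtype.ext hdz)
    exact ⟨y.1, y.2, congrArg Subtype.val hy⟩
  · rintro h ⟨z, hz⟩ hdz
    obtain ⟨y, hy, hdy⟩ := h z hz (congrArg Subtype.val hdz)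
    exact ⟨⟨y, hy⟩, Subtype.ext hdy⟩

lemma resolution_exact {M : ModuleCat.{u} R} (E : InjectiveResolution M) (n : ℕ)
    (z : E.cocomplex.X (n + 1)) (hz : E.cocomplex.d (n + 1) (n + 2) z = 0) :
    ∃ y : E.cocomplex.X n, E.cocomplex.d n (n + 1) y = z :=
  (ShortComplex.moduleCat_exact_iff _).mp (E.exact_succ n) z hz

lemma mem_torsionSub_span_singleton {f : R} {M : Type u} [AddCommGroup M] [Module R M] {m : M} :
    m ∈ DRing.torsionSub (Ideal.span {f}) M ↔ ∃ n : ℕ, f ^ n • m = 0 := by
  refine exists_congr fun n => ?_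
  rw [Ideal.span_singleton_pow]
  refine ⟨fun h => h _ (Ideal.mem_span_singleton_self _), fun h a ha => ?_⟩
  obtain ⟨b, rfl⟩ := Ideal.mem_span_singleton'.mp ha
  rw [mul_smul, h, smul_zero]

/-- Over a Noetherian ring an injective module surjects onto its localizations. -/
lemma exists_pow_smul_smul_sub_eq_zero [IsNoetherianRing R] (f : R) {E : Type u} [AddCommGroup E]
    [Module R E] [Module.Injective R E] (x : E) (k : ℕ) :
    ∃ (c : ℕ) (y : E), f ^ c • (f ^ k • y - x) = 0 := by
  let T : ℕ →o Ideal R :=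
    { toFun := fun c => LinearMap.ker (LinearMap.mulLeft R (f ^ c))
      monotone' := fun a b hab r hr => by
        rw [LinearMap.mem_ker, LinearMap.mulLeft_apply] at hr ⊢
        rw [← Nat.sub_add_cancel hab, pow_add, mul_assoc, hr, mul_zero] }
  obtain ⟨c, hc⟩ := monotone_stabilizes_iff_noetherian.mpr inferInstance T
  let j : (R ⧸ T (c + k)) →ₗ[R] R :=
    Submodule.liftQ _ (LinearMap.mulLeft R (f ^ (c + k))) le_rfl
  have hj : Function.Injective j :=
    LinearMap.ker_eq_bot.mp (Submodule.ker_liftQ_eq_bot _ _ _ le_rfl)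
  let g : (R ⧸ T (c + k)) →ₗ[R] E :=
    Submodule.liftQ _ (LinearMap.toSpanSingleton R E (f ^ c • x)) (by
      intro r hr
      rw [← hc (c + k) (Nat.le_add_right c k)] at hr
      have hr' : f ^ c * r = 0 := hr
      rw [LinearMap.mem_ker, LinearMap.toSpanSingleton_apply, smul_smul, mul_comm, hr', zero_smul])
  obtain ⟨h, hh⟩ := Module.Injective.out j hj g
  refine ⟨c, h 1, ?_⟩
  have h1 := hh (Submodule.Quotient.mk (1 : R))
  have h2 : j (Submodule.Quotient.mk (1 : R)) = f ^ (c + k) • (1 : R) := rfl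
  have h3 : g (Submodule.Quotient.mk (1 : R)) = f ^ c • x := one_smul R (f ^ c • x)
  rw [h2, h3, map_smul, pow_add, mul_smul] at h1
  rw [smul_sub, h1, sub_self]

end Criterion

section CdLE

open LocCoh

lemma cdLE_bot : CdLE R (⊥ : Ideal R) 0 := by
  intro M _ _ i hi
  obtain ⟨i, rfl⟩ : ∃ j, i = j + 1 := ⟨i - 1, by omega⟩
  refine (subsingleton_succ_iff _ (injectiveResolution (ModuleCat.of R M)) i).mpr fun z _ hz => ?_
  obtain ⟨y, hy⟩ := resolution_exact _ i z hz
  refine ⟨y, ⟨1, fun a ha => ?_⟩, hy⟩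
  rw [pow_one, Ideal.mem_bot] at ha
  rw [ha, zero_smul]

lemma cdLE_mono {I : Ideal R} {d e : ℕ} (h : CdLE R I d) (hde : d ≤ e) : CdLE R I e :=
  fun M _ _ i hi => h M i (hde.trans_lt hi)

lemma cdLE_span_singleton [IsNoetherianRing R] (f : R) : CdLE R (Ideal.span {f}) 1 := by
  intro M _ _ i hi
  obtain ⟨i, rfl⟩ : ∃ j, i = j + 1 + 1 := ⟨i - 2, by omega⟩
  let E := injectiveResolution (ModuleCat.of R M)
  refine (subsingleton_succ_iff _ E (i + 1)).mpr fun z hz hdz => ?_
  obtain ⟨n, hn⟩ := mem_torsionSub_span_singleton.mp hz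
  obtain ⟨y, hy⟩ := resolution_exact E (i + 1) z hdz
  obtain ⟨w, hw⟩ := resolution_exact E i (f ^ n • y) (by rw [map_smul, hy, hn])
  have hinj : Injective (E.cocomplex.X i) := E.injective i
  have : Module.Injective R (E.cocomplex.X i) :=
    Module.injective_module_of_injective_object (inj := hinj) R (E.cocomplex.X i)
  obtain ⟨c, w', hw'⟩ := exists_pow_smul_smul_sub_eq_zero f w n
  refine ⟨y - E.cocomplex.d i (i + 1) w', mem_torsionSub_span_singleton.mpr ⟨c + n, ?_⟩, ?_⟩
  · rw [pow_add, mul_smul, smul_sub, ← map_smul, ← hw, ← map_sub, ← map_smul,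
      show f ^ c • (w - f ^ n • w') = 0 by rw [← neg_sub, smul_neg, hw', neg_zero], map_zero]
  · rw [map_sub, hy, ← ModuleCat.comp_apply, HomologicalComplex.d_comp_d]
    exact sub_zero z

lemma mem_torsionSub_sup {I J : Ideal R} {M : Type u} [AddCommGroup M] [Module R M] {m : M} :
    m ∈ DRing.torsionSub (I ⊔ J) M ↔ m ∈ DRing.torsionSub I M ∧ m ∈ DRing.torsionSub J M := by
  constructor
  · rintro ⟨n, hn⟩
    exact ⟨⟨n, fun a ha => hn a (Ideal.pow_right_mono le_sup_left n ha)⟩,
      ⟨n, fun a ha => hn a (Ideal.pow_right_mono le_sup_right n ha)⟩⟩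
  · rintro ⟨⟨n, hn⟩, ⟨n', hn'⟩⟩
    refine ⟨n + n', fun a ha => ?_⟩
    obtain ⟨b, hb, c, hc, rfl⟩ := Submodule.mem_sup.mp (Ideal.sup_pow_add_le_pow_sup_pow ha)
    rw [add_smul, hn b hb, hn' c hc, add_zero]

theorem cdLE_sup [IsNoetherianRing R] {I J : Ideal R} {a b : ℕ} (hI : CdLE R I a)
    (hJ : CdLE R J b) : CdLE R (I ⊔ J) (a + b) := by
  intro M _ _ i hi
  obtain ⟨i, rfl⟩ : ∃ j, i = j + 1 := ⟨i - 1, by omega⟩
  let E := injectiveResolution (ModuleCat.of R M)
  refine (subsingleton_succ_iff _ E i).mpr fun z hz hdz => ?_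
  let C : ℕ → ModuleCat.{u} R := fun q => (DRing.gammaI J).obj (E.cocomplex.X q)
  let dC : ∀ q, C q ⟶ C (q + 1) := fun q => (DRing.gammaI J).map (E.cocomplex.d q (q + 1))
  let Z : ℕ → ModuleCat.{u} R := fun q => ModuleCat.of R (LinearMap.ker (dC q).hom)
  have hdd : ∀ q (x : C q), dC (q + 1) (dC q x) = 0 := fun q x => Subtype.ext (by
    change E.cocomplex.d (q + 1) (q + 1 + 1) (E.cocomplex.d q (q + 1) x.1) = 0
    rw [← ModuleCat.comp_apply, HomologicalComplex.d_comp_d]
    rfl)
  let S : ℕ → ShortComplex (ModuleCat.{u} R) := fun q =>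
    ModuleCat.shortComplexOfCompEqZero (LinearMap.ker (dC q).hom).subtype
      ((dC q).hom.codRestrict (LinearMap.ker (dC (q + 1)).hom) (hdd q))
      (LinearMap.ext fun x => Subtype.ext x.2)
  have hS : ∀ q, b ≤ q → (S q).ShortExact := by
    intro q hq
    have hsurj : Function.Surjective
        ((dC q).hom.codRestrict (LinearMap.ker (dC (q + 1)).hom) (hdd q)) := by
      intro p
      obtain ⟨y, hy, hdy⟩ := (subsingleton_succ_iff J E q).mp
        (hJ M (q + 1) (by omega)) p.1.1 p.1.2 (congrArg Subtype.val p.2)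
      exact ⟨⟨y, hy⟩, Subtype.ext (Subtype.ext hdy)⟩
    refine ModuleCat.shortComplex_shortExact _ ?_ (Submodule.injective_subtype _) hsurj
    intro x
    constructor
    · intro hx
      exact ⟨⟨x, congrArg Subtype.val hx⟩, rfl⟩
    · intro hy
      obtain ⟨y, rfl⟩ := hy
      exact Subtype.ext y.2
  have vanish : ∀ t m, a < m + 1 + t →
      Subsingleton ((localCohomology I (m + 1)).obj (Z (b + t))) := by
    intro t
    induction t with
    | zero =>
      intro m hm
      exact hI _ (m + 1) (by omega)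
    | succ t ih =>
      intro m hm
      have h := ih (m + 1) (by omega)
      refine subsingleton_of_forall_eq 0 fun x => ?_
      have hx0 : delta I (m + 1) (hS (b + t) (by omega)) x = 0 := @Subsingleton.elim _ h _ _
      obtain ⟨y, hy⟩ := exists_of_delta_eq_zero I (hS (b + t) (by omega)) x hx0
      have : Injective (S (b + t)).X₂ := injective_gammaI_obj J (E.cocomplex.X (b + t))
      have := subsingleton_of_injective I (S (b + t)).X₂ m
      rw [← hy, Subsingleton.eq_zero y, map_zero]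
  obtain ⟨t, rfl⟩ : ∃ t, i = b + t := ⟨i - b, by omega⟩
  rw [mem_torsionSub_sup] at hz
  let z' : Z (b + t + 1) := ⟨⟨z, hz.2⟩, Subtype.ext hdz⟩
  have hz'' : z' ∈ DRing.torsionSub I (Z (b + t + 1)) := by
    obtain ⟨n, hn⟩ := hz.1
    exact ⟨n, fun r hr => Subtype.ext (Subtype.ext (hn r hr))⟩
  have hsub : Subsingleton ((localCohomology I 1).obj (Z (b + t))) := vanish t 0 (by omega)
  let w : (localCohomology I 0).obj (Z (b + t + 1)) := (zeroIso I).inv.app _ ⟨z', hz''⟩
  have hw : delta I 0 (hS (b + t) (by omega)) w = 0 := @Subsingleton.elim _ hsub _ _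
  obtain ⟨y, hy⟩ := exists_of_delta_eq_zero I (hS (b + t) (by omega)) w hw
  let y' := (zeroIso I).hom.app _ y
  refine ⟨y'.1.1, mem_torsionSub_sup.mpr ⟨?_, y'.1.2⟩, ?_⟩
  · obtain ⟨n, hn⟩ := y'.2
    exact ⟨n, fun r hr => congrArg Subtype.val (hn r hr)⟩
  · have h1 := congrArg (fun x => (zeroIso I).hom.app _ x) hy
    simp only [w] at h1
    rw [← ModuleCat.comp_apply, ← ModuleCat.comp_apply, (zeroIso I).inv_hom_id_app,
      (zeroIso I).hom.naturality] at h1
    have h2 : ((DRing.gammaI I).map (S (b + t)).g y').1 = z' := congrArg Subtype.val h1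
    exact congrArg (fun x : Z (b + t + 1) => x.1.1) h2

theorem cdLE_span_finset [IsNoetherianRing R] (s : Finset R) :
    CdLE R (Ideal.span (s : Set R)) s.card := by
  classical
  induction s using Finset.induction with
  | empty => simpa using cdLE_bot (R := R)
  | insert x s hx ih =>
    rw [Finset.card_insert_of_notMem hx, Finset.coe_insert, Set.insert_eq, Ideal.span_union,
      Nat.add_comm]
    exact cdLE_sup (cdLE_span_singleton x) ih

end CdLE

end Groth.Agent.LocCohBasic
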