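import Groth.Prelude.Def_DualLC
import Groth.Agent.LocCohBasic.Vanish
import Mathlib.Algebra.Module.LocalizedModule.Exact

/-!
# `H_{a+(b)} → H_a → H_a(M_b)`
-/

universe u

open CategoryTheory Limits Opposite Abelian localCohomology LocCoh

namespace Groth.Agent.LocCohBasic

noncomputable section

variable {R : Type u} [CommRing R]

section HmapOfLE

variable {I I' : Ideal R} (h : I ≤ I') {n : ℕ}

/-- `R ⧸ I ^ k ⟶ R ⧸ I' ^ k`. -/
def qmap (k : ℕ) : QI I k ⟶ QI I' k := (Dual2.quotMapOfLE h).app (op k)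

lemma HmapOfLE_loc (M : ModuleCat.{u} R) (k : ℕ) (x : Ext (QI I' k) M n) :
    (Dual2.HmapOfLE h n).app M (loc I' M k x) =
      loc I M k ((Ext.mk₀ (qmap h k)).comp x (zero_add n)) := by
  have h1 : ((cocone I' n).ι.app (op (op k))).app M ≫ (Dual2.HmapOfLE h n).app M =
      ((abExt R (ModuleCat.{u} R) n).map ((Dual2.quotMapOfLE h).app (op k)).op).app M ≫
        ((cocone I n).ι.app (op (op k))).app M := by
    have h2 : colimit.ι (diagram (idealPowersDiagram I') n) (op (op k)) ≫ Dual2.HmapOfLE h n =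
        (Ext R (ModuleCat.{u} R) n).map ((Dual2.quotMapOfLE h).app (op k)).op ≫
          colimit.ι (diagram (idealPowersDiagram I) n) (op (op k)) :=
      ι_colimMap _ (op (op k))
    have h3 := (extNatIso R (ModuleCat.{u} R) n).inv.naturality
      ((Dual2.quotMapOfLE h).app (op k)).op
    have h4 : (extNatIso R (ModuleCat.{u} R) n).inv.app (op (QI I' k)) ≫
          colimit.ι (diagram (idealPowersDiagram I') n) (op (op k)) ≫ Dual2.HmapOfLE h n =
        (abExt R (ModuleCat.{u} R) n).map ((Dual2.quotMapOfLE h).app (op k)).op ≫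
          (extNatIso R (ModuleCat.{u} R) n).inv.app (op (QI I k)) ≫
            colimit.ι (diagram (idealPowersDiagram I) n) (op (op k)) := by
      refine (congrArg ((extNatIso R (ModuleCat.{u} R) n).inv.app (op (QI I' k)) ≫ ·) h2).trans ?_
      refine (Category.assoc _ _ _).symm.trans (Eq.trans ?_ (Category.assoc _ _ _))
      exact congrArg (· ≫ _) h3.symm
    exact congrArg (fun t => NatTrans.app t M) h4
  exact congrArg (fun f => f.hom x) h1

lemma HmapOfLE_delta {S : ShortComplex (ModuleCat.{u} R)} (hS : S.ShortExact)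
    (z : (localCohomology I' n).obj S.X₃) :
    (Dual2.HmapOfLE h (n + 1)).app S.X₁ (delta I' n hS z) =
      delta I n hS ((Dual2.HmapOfLE h n).app S.X₃ z) := by
  obtain ⟨k, x, rfl⟩ := exists_loc I' S.X₃ z
  rw [delta_loc, HmapOfLE_loc, HmapOfLE_loc, delta_loc,
    ← Ext.comp_assoc _ _ _ (zero_add n) rfl (by omega)]

lemma HmapOfLE_map {M N : ModuleCat.{u} R} (f : M ⟶ N) (z : (localCohomology I' n).obj M) :
    (Dual2.HmapOfLE h n).app N ((localCohomology I' n).map f z) =
      (localCohomology I n).map f ((Dual2.HmapOfLE h n).app M z) :=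
  congrArg (fun t => t.hom z) ((Dual2.HmapOfLE h n).naturality f)

lemma HmapOfLE_trans {I'' : Ideal R} (h' : I' ≤ I'') (M : ModuleCat.{u} R)
    (z : (localCohomology I'' n).obj M) :
    (Dual2.HmapOfLE h n).app M ((Dual2.HmapOfLE h' n).app M z) =
      (Dual2.HmapOfLE (h.trans h') n).app M z := by
  obtain ⟨k, x, rfl⟩ := exists_loc I'' M z
  rw [HmapOfLE_loc, HmapOfLE_loc, HmapOfLE_loc,
    ← Ext.comp_assoc _ _ _ (zero_add 0) (zero_add n) (by omega), Ext.mk₀_comp_mk₀]
  congr 3
  refine ModuleCat.hom_ext (Submodule.linearMap_qext _ ?_)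
  rfl

/-- In degree zero the comparison is the inclusion of torsion submodules. -/
lemma zeroIso_HmapOfLE (M : ModuleCat.{u} R) (z : (localCohomology I' 0).obj M) :
    ((zeroIso I).hom.app M ((Dual2.HmapOfLE h 0).app M z)).1 = ((zeroIso I').hom.app M z).1 := by
  obtain ⟨k, x, rfl⟩ := exists_loc I' M z
  rw [HmapOfLE_loc]
  change (toGamma I M (loc I M k _)).1 = (toGamma I' M (loc I' M k x)).1
  rw [toGamma_loc, toGamma_loc]
  obtain ⟨g, rfl⟩ := (Ext.mk₀_bijective _ _).2 x
  rw [Ext.mk₀_comp_mk₀]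
  erw [evalOne_mk₀, evalOne_mk₀]
  rfl

lemma HmapOfLE_zero_injective (M : ModuleCat.{u} R) :
    Function.Injective ((Dual2.HmapOfLE h 0).app M) := fun x y hxy =>
  ((zeroIso I').app M).toLinearEquiv.injective (Subtype.ext (by
    have h1 := congrArg (fun t => ((zeroIso I).hom.app M t).1) hxy
    exact ((zeroIso_HmapOfLE h M x).symm.trans h1).trans (zeroIso_HmapOfLE h M y)))

end HmapOfLE

section Localize

variable (b : R)

/-- `M ↦ M_b`, as modules over `R`. -/
abbrev Lb (M : ModuleCat.{u} R) : ModuleCat.{u} R :=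
  ModuleCat.of R (LocalizedModule (Submonoid.powers b) M)

/-- The localisation map. -/
abbrev ιb (M : ModuleCat.{u} R) : M ⟶ Lb b M :=
  ModuleCat.ofHom (LocalizedModule.mkLinearMap (Submonoid.powers b) M)

/-- Localisation of maps. -/
def lbMap {M N : ModuleCat.{u} R} (f : M ⟶ N) : Lb b M ⟶ Lb b N :=
  ModuleCat.ofHom (IsLocalizedModule.map (Submonoid.powers b)
    (LocalizedModule.mkLinearMap _ M) (LocalizedModule.mkLinearMap _ N) f.hom)

lemma ιb_naturality {M N : ModuleCat.{u} R} (f : M ⟶ N) : f ≫ ιb b N = ιb b M ≫ lbMap b f :=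
  ModuleCat.hom_ext (LinearMap.ext fun m => (IsLocalizedModule.map_apply (Submonoid.powers b)
    (LocalizedModule.mkLinearMap (Submonoid.powers b) M)
    (LocalizedModule.mkLinearMap (Submonoid.powers b) N) f.hom m).symm)

/-- The localisation of a short complex. -/
def lbComplex (S : ShortComplex (ModuleCat.{u} R)) : ShortComplex (ModuleCat.{u} R) :=
  ShortComplex.mk (lbMap b S.f) (lbMap b S.g) (by
    refine ModuleCat.hom_ext (IsLocalizedModule.linearMap_ext (Submonoid.powers b)
      (LocalizedModule.mkLinearMap _ S.X₁) (LocalizedModule.mkLinearMap _ S.X₃) ?_)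
    refine LinearMap.ext fun m => ?_
    have h := congrArg (fun t => t.hom m) S.zero
    simp only [ModuleCat.hom_comp, LinearMap.comp_apply, lbMap, ModuleCat.hom_ofHom] at h ⊢
    rw [IsLocalizedModule.map_apply, IsLocalizedModule.map_apply, h]
    simp)

lemma lbComplex_shortExact {S : ShortComplex (ModuleCat.{u} R)} (hS : S.ShortExact) :
    (lbComplex b S).ShortExact := by
  let mk := fun M : ModuleCat.{u} R => LocalizedModule.mkLinearMap (Submonoid.powers b) M
  exact ModuleCat.shortComplex_shortExact _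
    (IsLocalizedModule.map_exact (Submonoid.powers b) (mk S.X₁) (mk S.X₂) (mk S.X₃) S.f.hom S.g.hom
      ((ShortComplex.ShortExact.moduleCat_exact_iff_function_exact _).mp hS.exact))
    (IsLocalizedModule.map_injective (Submonoid.powers b) (mk S.X₁) (mk S.X₂) S.f.hom
      hS.moduleCat_injective_f)
    (IsLocalizedModule.map_surjective (Submonoid.powers b) (mk S.X₂) (mk S.X₃) S.g.hom
      hS.moduleCat_surjective_g)

/-- The localisation map of short complexes. -/
def ιbComplex (S : ShortComplex (ModuleCat.{u} R)) : S ⟶ lbComplex b S where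
  τ₁ := ιb b S.X₁
  τ₂ := ιb b S.X₂
  τ₃ := ιb b S.X₃
  comm₁₂ := (ιb_naturality b S.f).symm
  comm₂₃ := (ιb_naturality b S.g).symm

variable [IsNoetherianRing R]

lemma ιb_surjective_of_injective (E : ModuleCat.{u} R) [Injective E] :
    Function.Surjective (ιb b E) := by
  have : Module.Injective R E := Module.injective_module_of_injective_object R E
  intro z
  obtain ⟨⟨x, s⟩, hx⟩ := IsLocalizedModule.surj (Submonoid.powers b)
    (LocalizedModule.mkLinearMap (Submonoid.powers b) E) z
  obtain ⟨k, hk⟩ := s.2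
  obtain ⟨c, y, hy⟩ := exists_pow_smul_smul_sub_eq_zero b x k
  refine ⟨y, ?_⟩
  refine (IsLocalizedModule.smul_inj (LocalizedModule.mkLinearMap (Submonoid.powers b) E)
    (⟨b ^ c, c, rfl⟩ * s : Submonoid.powers b)
    (LocalizedModule.mkLinearMap (Submonoid.powers b) E y) z).mp ?_
  have hs : (s : R) = b ^ k := hk.symm
  have hx' : b ^ k • z = LocalizedModule.mkLinearMap (Submonoid.powers b) E x := by
    rw [← hs]; exact hx
  simp only [Submonoid.smul_def, mul_smul, hs, hx']
  rw [← map_smul, ← map_smul, ← map_smul, ← sub_eq_zero, ← map_sub, ← smul_sub, hy, map_zero]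

lemma injective_Lb (E : ModuleCat.{u} R) [Injective E] : Injective (Lb b E) := by
  have : Module.Injective R E := Module.injective_module_of_injective_object R E
  let K := LinearMap.ker (ιb b E).hom
  have hK : K = DRing.torsionSub (Ideal.span {b}) E := by
    ext m
    refine (IsLocalizedModule.eq_zero_iff (Submonoid.powers b)
      (LocalizedModule.mkLinearMap (Submonoid.powers b) E)).trans ?_
    rw [mem_torsionSub_span_singleton]
    exact ⟨fun ⟨⟨_, k, rfl⟩, hk⟩ => ⟨k, hk⟩, fun ⟨k, hk⟩ => ⟨⟨_, k, rfl⟩, hk⟩⟩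
  have hKinj : Module.Injective R K := hK ▸ injective_torsionSub (Ideal.span {b}) E
  obtain ⟨r, hr⟩ := hKinj.out K.subtype (Submodule.injective_subtype K) LinearMap.id
  let l : E →ₗ[R] E := LinearMap.id - K.subtype ∘ₗ r
  have hl : K ≤ LinearMap.ker l := fun m hm => by
    have h1 := hr ⟨m, hm⟩
    simp only [Submodule.coe_subtype, LinearMap.id_coe, id_eq] at h1
    simp [l, h1]
  let e := LinearMap.quotKerEquivOfSurjective (ιb b E).hom (ιb_surjective_of_injective b E)
  let σ : Lb b E ⟶ E := ModuleCat.ofHom (K.liftQ l hl ∘ₗ e.symm.toLinearMap)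
  refine Retract.injective (⟨σ, ιb b E, ?_⟩ : Retract (Lb b E) E)
  refine ModuleCat.hom_ext (LinearMap.ext fun z => ?_)
  obtain ⟨m, rfl⟩ := ιb_surjective_of_injective b E z
  have h1 : e.symm ((ιb b E).hom m) = Submodule.Quotient.mk m := e.symm_apply_eq.mpr rfl
  have h2 : (ιb b E).hom (r m : E) = 0 := (r m).2
  change (ιb b E).hom ((K.liftQ l hl) (e.symm ((ιb b E).hom m))) = (ιb b E).hom m
  rw [h1, Submodule.liftQ_apply]
  simp only [l, LinearMap.sub_apply, LinearMap.id_coe, id_eq, LinearMap.comp_apply,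
    Submodule.coe_subtype, map_sub, h2, sub_zero]

variable (a : Ideal R)

/-- `φ : H_{a+(b)} → H_a`. -/
abbrev φb (i : ℕ) (M : ModuleCat.{u} R) :
    (localCohomology (a ⊔ Ideal.span {b}) i).obj M ⟶ (localCohomology a i).obj M :=
  (Dual2.HmapOfLE (le_sup_left : a ≤ a ⊔ Ideal.span {b}) i).app M

/-- `ψ : H_a(M) → H_a(M_b)`. -/
abbrev ψb (i : ℕ) (M : ModuleCat.{u} R) :
    (localCohomology a i).obj M ⟶ (localCohomology a i).obj (Lb b M) :=
  (localCohomology a i).map (ιb b M)

omit [IsNoetherianRing R] in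
lemma ψb_delta {S : ShortComplex (ModuleCat.{u} R)} (hS : S.ShortExact) (i : ℕ)
    (z : (localCohomology a i).obj S.X₃) :
    ψb b a (i + 1) S.X₁ (delta a i hS z) =
      delta a i (lbComplex_shortExact b hS) (ψb b a i S.X₃ z) :=
  (congrArg (fun t => t.hom z)
    (delta_naturality a (n := i) hS (lbComplex_shortExact b hS) (ιbComplex b S))).symm

omit [IsNoetherianRing R] in
lemma ψb_map {M N : ModuleCat.{u} R} (f : M ⟶ N) (i : ℕ) (z : (localCohomology a i).obj M) :
    ψb b a i N ((localCohomology a i).map f z) =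
      (localCohomology a i).map (lbMap b f) (ψb b a i M z) := by
  rw [← ModuleCat.comp_apply, ← ModuleCat.comp_apply, ← Functor.map_comp, ← Functor.map_comp,
    ιb_naturality]

omit [IsNoetherianRing R] in
/-- Scalars in `b` act invertibly on `H(M_b)`. -/
lemma smul_bijective (i : ℕ) (M : ModuleCat.{u} R) (s : Submonoid.powers b) :
    Function.Bijective fun y : (localCohomology a i).obj (Lb b M) => (s : R) • y := by
  have hb : Function.Bijective (LinearMap.lsmul R (Lb b M) (s : R)) :=
    (Module.End.isUnit_iff _).mp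
      (IsLocalizedModule.map_units (LocalizedModule.mkLinearMap (Submonoid.powers b) M) s)
  let e := ((localCohomology a i).mapIso (LinearEquiv.ofBijective _ hb).toModuleIso).toLinearEquiv
  have he : ∀ y, e y = (s : R) • y := fun y => map_lsmul a (Lb b M) (s : R) y
  have : (fun y : (localCohomology a i).obj (Lb b M) => (s : R) • y) = e :=
    funext fun y => (he y).symm
  rw [this]
  exact e.bijective

omit [IsNoetherianRing R] in
lemma ψb_zero_iff_zero (M : ModuleCat.{u} R) (z : (localCohomology a 0).obj M) :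
    ψb b a 0 M z = 0 ↔ z ∈ Set.range (φb b a 0 M) := by
  let Γ := (zeroIso a).hom.app M
  have hz : ψb b a 0 M z = 0 ↔ ιb b M ((Γ z).1) = 0 := by
    rw [← map_eq_zero_iff ((zeroIso a).hom.app (Lb b M)).hom
      ((zeroIso a).app (Lb b M)).toLinearEquiv.injective]
    change ((localCohomology a 0).map (ιb b M) ≫ (zeroIso a).hom.app (Lb b M)) z = 0 ↔ _
    rw [(zeroIso a).hom.naturality, ModuleCat.comp_apply]
    exact Subtype.ext_iff
  rw [hz]
  refine (IsLocalizedModule.eq_zero_iff (Submonoid.powers b)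
    (LocalizedModule.mkLinearMap (Submonoid.powers b) M)).trans ⟨?_, ?_⟩
  · rintro ⟨⟨_, k, rfl⟩, hk⟩
    let w : DRing.torsionSub (a ⊔ Ideal.span {b}) M :=
      ⟨(Γ z).1, mem_torsionSub_sup.mpr ⟨(Γ z).2, mem_torsionSub_span_singleton.mpr ⟨k, hk⟩⟩⟩
    refine ⟨((zeroIso (a ⊔ Ideal.span {b})).app M).toLinearEquiv.symm w, ?_⟩
    refine ((zeroIso a).app M).toLinearEquiv.injective (Subtype.ext ?_)
    refine (zeroIso_HmapOfLE _ M _).trans ?_
    exact congrArg Subtype.val
      (((zeroIso (a ⊔ Ideal.span {b})).app M).toLinearEquiv.apply_symm_apply w)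
  · rintro ⟨w, rfl⟩
    have h1 : (Γ (φb b a 0 M w)).1 = ((zeroIso (a ⊔ Ideal.span {b})).hom.app M w).1 :=
      zeroIso_HmapOfLE _ M w
    obtain ⟨k, hk⟩ := mem_torsionSub_span_singleton.mp
      (mem_torsionSub_sup.mp ((zeroIso (a ⊔ Ideal.span {b})).hom.app M w).2).2
    exact ⟨⟨_, k, rfl⟩, h1 ▸ hk⟩

lemma ψb_zero_surjective_of_injective (E : ModuleCat.{u} R) [Injective E] :
    Function.Surjective (ψb b a 0 E) := by
  intro z
  have : Module.Injective R E := Module.injective_module_of_injective_object R E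
  have := injective_torsionSub a E
  set v := (zeroIso a).hom.app (Lb b E) z
  obtain ⟨y, hy⟩ := ιb_surjective_of_injective b E v.1
  obtain ⟨n, hn⟩ := v.2
  have hN : ((a ^ n) • (R ∙ y)).FG :=
    Submodule.FG.smul (IsNoetherian.noetherian _) (Submodule.fg_span_singleton y)
  have hle : (a ^ n) • (R ∙ y) ≤ DRing.torsionSub (Ideal.span {b}) E := by
    refine Submodule.smul_le.mpr fun r hr w hw => ?_
    obtain ⟨c, rfl⟩ := Submodule.mem_span_singleton.mp hw
    rw [smul_comm]
    refine Submodule.smul_mem _ c (mem_torsionSub_span_singleton.mpr ?_)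
    have h0 : ιb b E (r • y) = 0 := by rw [map_smul, hy]; exact hn r hr
    obtain ⟨⟨_, k, rfl⟩, hk⟩ := (IsLocalizedModule.eq_zero_iff (Submonoid.powers b)
      (LocalizedModule.mkLinearMap (Submonoid.powers b) E)).mp h0
    exact ⟨k, hk⟩
  obtain ⟨K, hK⟩ := exists_uniform_pow (Ideal.span {b}) _ hN hle
  have hyt : b ^ K • y ∈ DRing.torsionSub a E := ⟨n, fun r hr => by
    rw [smul_comm]
    exact hK _ (Ideal.pow_mem_pow (Ideal.mem_span_singleton_self b) K) _
      (Submodule.smul_mem_smul hr (Submodule.mem_span_singleton_self y))⟩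
  -- divide by `b ^ K` inside the torsion
  obtain ⟨c, w, hw⟩ := exists_pow_smul_smul_sub_eq_zero (E := DRing.torsionSub a E)
    b ⟨b ^ K • y, hyt⟩ K
  refine ⟨((zeroIso a).app E).toLinearEquiv.symm w, ?_⟩
  refine ((zeroIso a).app (Lb b E)).toLinearEquiv.injective (Subtype.ext ?_)
  change (((localCohomology a 0).map (ιb b E) ≫ (zeroIso a).hom.app (Lb b E))
    (((zeroIso a).app E).toLinearEquiv.symm w)).1 = v.1
  rw [(zeroIso a).hom.naturality, ModuleCat.comp_apply]
  have hw' : (zeroIso a).hom.app E (((zeroIso a).app E).toLinearEquiv.symm w) = w :=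
    ((zeroIso a).app E).toLinearEquiv.apply_symm_apply w
  rw [hw']
  change ιb b E w.1 = v.1
  rw [← hy]
  have h2 := congrArg Subtype.val hw
  simp only [Submodule.coe_smul, AddSubgroupClass.coe_sub, ZeroMemClass.coe_zero] at h2
  rw [← smul_sub, ← mul_smul, ← pow_add] at h2
  refine sub_eq_zero.mp ?_
  rw [← map_sub]
  exact (IsLocalizedModule.eq_zero_iff (Submonoid.powers b)
    (LocalizedModule.mkLinearMap (Submonoid.powers b) E)).mpr ⟨⟨_, c + K, rfl⟩, h2⟩

lemma ψb_surjective_of_injective (E : ModuleCat.{u} R) [Injective E] (i : ℕ) :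
    Function.Surjective (ψb b a i E) := by
  cases i with
  | zero => exact ψb_zero_surjective_of_injective b a E
  | succ i =>
    have := injective_Lb b E
    have := subsingleton_of_injective a (Lb b E) i
    exact fun z => ⟨0, Subsingleton.elim _ _⟩

/-- An embedding into an injective. -/
def injSeq (M : ModuleCat.{u} R) : ShortComplex (ModuleCat.{u} R) :=
  ShortComplex.mk (Injective.ι M) (cokernel.π (Injective.ι M)) (cokernel.condition _)

omit [IsNoetherianRing R] in
lemma injSeq_shortExact (M : ModuleCat.{u} R) : (injSeq M).ShortExact :=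
  { exact := ShortComplex.exact_of_g_is_cokernel _ (cokernelIsCokernel _)
    mono_f := inferInstanceAs (Mono (Injective.ι M))
    epi_g := inferInstanceAs (Epi (cokernel.π (Injective.ι M))) }

instance (M : ModuleCat.{u} R) : Injective (injSeq M).X₂ :=
  inferInstanceAs (Injective (Injective.under M))

omit [IsNoetherianRing R] in
lemma delta_injSeq_surjective (i : ℕ) (M : ModuleCat.{u} R)
    (y : (localCohomology a (i + 1)).obj M) :
    ∃ c, delta a i (injSeq_shortExact M) c = y := by
  have := subsingleton_of_injective a (injSeq M).X₂ i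
  exact exists_of_map_f_eq_zero a (injSeq_shortExact M) y (Subsingleton.elim _ _)

/-- Exactness at `H^i_a(M)`. -/
theorem ψb_eq_zero_iff (i : ℕ) : ∀ (M : ModuleCat.{u} R) (y : (localCohomology a i).obj M),
    ψb b a i M y = 0 ↔ y ∈ Set.range (φb b a i M) := by
  induction i with
  | zero => exact ψb_zero_iff_zero b a
  | succ i ih =>
    intro M y
    have hS := injSeq_shortExact M
    constructor
    · obtain ⟨c, rfl⟩ := delta_injSeq_surjective a i M y
      intro h
      obtain ⟨z, hz⟩ := exists_of_delta_eq_zero a (lbComplex_shortExact b hS) _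
        ((ψb_delta b a hS i c).symm.trans h)
      obtain ⟨w, rfl⟩ := ψb_surjective_of_injective b a (injSeq M).X₂ i z
      obtain ⟨c', hc'⟩ := (ih _ (c - (localCohomology a i).map (injSeq M).g w)).mp (by
        rw [map_sub, ψb_map, sub_eq_zero]
        exact hz.symm)
      refine ⟨delta (a ⊔ Ideal.span {b}) i hS c', ?_⟩
      refine (HmapOfLE_delta _ hS c').trans ((congrArg _ hc').trans ?_)
      rw [map_sub, ← ModuleCat.comp_apply, map_comp_delta]
      exact sub_zero _
    · rintro ⟨x, rfl⟩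
      obtain ⟨c', rfl⟩ := delta_injSeq_surjective (a ⊔ Ideal.span {b}) i M x
      have h0 := (ih _ (φb b a i _ c')).mpr ⟨c', rfl⟩
      refine (congrArg (ψb b a (i + 1) M) (HmapOfLE_delta _ hS c')).trans ?_
      refine (ψb_delta b a hS i _).trans ?_
      exact (congrArg _ h0).trans (map_zero _)

/-- The image of `φ` is the `b`-power torsion. -/
theorem mem_range_φb_iff (i : ℕ) (M : ModuleCat.{u} R) (y : (localCohomology a i).obj M) :
    y ∈ Set.range (φb b a i M) ↔ ∃ n : ℕ, b ^ n • y = 0 := by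
  refine ⟨?_, fun ⟨n, hn⟩ => (ψb_eq_zero_iff b a i M y).mp ?_⟩
  · rintro ⟨x, rfl⟩
    obtain ⟨n, hn⟩ := exists_pow_smul_eq_zero (a ⊔ Ideal.span {b}) M x
    exact ⟨n, by rw [← map_smul, hn _ (Ideal.pow_mem_pow
      (Submodule.mem_sup_right (Ideal.mem_span_singleton_self b)) n), map_zero]⟩
  · refine (smul_bijective b a i M ⟨b ^ n, n, rfl⟩).1 ?_
    change b ^ n • ψb b a i M y = b ^ n • 0
    rw [← map_smul, hn, map_zero, smul_zero]

theorem exists_pow_smul_mem_range (i : ℕ) : ∀ (M : ModuleCat.{u} R)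
    (z : (localCohomology a i).obj (Lb b M)),
    ∃ (n : ℕ) (y : (localCohomology a i).obj M), ψb b a i M y = b ^ n • z := by
  induction i with
  | zero =>
    intro M z
    set v := (zeroIso a).hom.app (Lb b M) z
    obtain ⟨⟨m, ⟨_, k, rfl⟩⟩, hm⟩ := IsLocalizedModule.surj (Submonoid.powers b)
      (LocalizedModule.mkLinearMap (Submonoid.powers b) M) v.1
    obtain ⟨n, hn⟩ := v.2
    have hN : ((a ^ n) • (R ∙ m)).FG :=
      Submodule.FG.smul (IsNoetherian.noetherian _) (Submodule.fg_span_singleton m)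
    have hle : (a ^ n) • (R ∙ m) ≤ DRing.torsionSub (Ideal.span {b}) M := by
      refine Submodule.smul_le.mpr fun r hr w hw => ?_
      obtain ⟨c, rfl⟩ := Submodule.mem_span_singleton.mp hw
      rw [smul_comm]
      refine Submodule.smul_mem _ c (mem_torsionSub_span_singleton.mpr ?_)
      have h0 : ιb b M (r • m) = 0 := by
        rw [map_smul]
        refine (congrArg (r • ·) hm.symm).trans ?_
        change r • b ^ k • v.1 = 0
        rw [smul_comm, hn r hr, smul_zero]
      obtain ⟨⟨_, j, rfl⟩, hj⟩ := (IsLocalizedModule.eq_zero_iff (Submonoid.powers b)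
        (LocalizedModule.mkLinearMap (Submonoid.powers b) M)).mp h0
      exact ⟨j, hj⟩
    obtain ⟨K, hK⟩ := exists_uniform_pow (Ideal.span {b}) _ hN hle
    have hyt : b ^ K • m ∈ DRing.torsionSub a M := ⟨n, fun r hr => by
      rw [smul_comm]
      exact hK _ (Ideal.pow_mem_pow (Ideal.mem_span_singleton_self b) K) _
        (Submodule.smul_mem_smul hr (Submodule.mem_span_singleton_self m))⟩
    refine ⟨K + k, ((zeroIso a).app M).toLinearEquiv.symm ⟨_, hyt⟩, ?_⟩
    refine ((zeroIso a).app (Lb b M)).toLinearEquiv.injective (Subtype.ext ?_)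
    have h1 : ((zeroIso a).hom.app (Lb b M)) (ψb b a 0 M
        (((zeroIso a).app M).toLinearEquiv.symm ⟨_, hyt⟩)) =
        (DRing.gammaI a).map (ιb b M) ⟨_, hyt⟩ := by
      rw [← ModuleCat.comp_apply, (zeroIso a).hom.naturality, ModuleCat.comp_apply]
      exact congrArg _ (((zeroIso a).app M).toLinearEquiv.apply_symm_apply _)
    refine (congrArg Subtype.val h1).trans ?_
    change ιb b M (b ^ K • m) = (((zeroIso a).hom.app (Lb b M)) (b ^ (K + k) • z)).1
    rw [map_smul, map_smul, pow_add, mul_smul]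
    exact congrArg (b ^ K • ·) hm.symm
  | succ i ih =>
    intro M z
    have hS := injSeq_shortExact M
    have hE : Injective (lbComplex b (injSeq M)).X₂ := injective_Lb b (injSeq M).X₂
    have := subsingleton_of_injective a (lbComplex b (injSeq M)).X₂ i
    obtain ⟨c, hc⟩ := exists_of_map_f_eq_zero a (lbComplex_shortExact b hS) z
      (Subsingleton.elim _ _)
    obtain ⟨n, y, hy⟩ := ih _ c
    refine ⟨n, delta a i hS y, (ψb_delta b a hS i y).trans ?_⟩
    exact (congrArg _ hy).trans ((map_smul _ _ _).trans (congrArg _ hc))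

/-- `H_a(M_b)` is the localisation of `H_a(M)`. -/
theorem isLocalizedModule_ψb (i : ℕ) (M : ModuleCat.{u} R) :
    IsLocalizedModule (Submonoid.powers b) (ψb b a i M).hom where
  map_units s := (Module.End.isUnit_iff _).mpr (smul_bijective b a i M s)
  surj z := by
    obtain ⟨n, y, hy⟩ := exists_pow_smul_mem_range b a i M z
    exact ⟨(y, ⟨b ^ n, n, rfl⟩), hy.symm⟩
  exists_of_eq {x y} h := by
    have h0 : ψb b a i M (x - y) = 0 := by rw [map_sub]; exact sub_eq_zero.mpr h
    obtain ⟨n, hn⟩ := (mem_range_φb_iff b a i M _).mp ((ψb_eq_zero_iff b a i M _).mp h0)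
    exact ⟨⟨b ^ n, n, rfl⟩, sub_eq_zero.mp (by rw [← smul_sub]; exact hn)⟩

/-- The connecting isomorphism in degree zero. -/
theorem nonempty_coker_equiv_zero (M : ModuleCat.{u} R) :
    Nonempty (((localCohomology a 0).obj (Lb b M) ⧸ LinearMap.range (ψb b a 0 M).hom) ≃ₗ[R]
      LinearMap.ker (φb b a 1 M).hom) := by
  have hS := injSeq_shortExact M
  let G' := ((localCohomology a 0).map (injSeq M).g).hom
  let Φ := φb b a 0 (injSeq M).X₃
  let W : Submodule R ((localCohomology a 0).obj (injSeq M).X₂) :=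
    (LinearMap.range Φ.hom).comap G'
  let fb := ((localCohomology a 0).map (lbMap b (injSeq M).f)).hom
  have hfb : Function.Injective fb := map_f_injective a (lbComplex_shortExact b hS)
  -- preimages
  have hpre : ∀ w : W, ψb b a 0 _ w.1 ∈ LinearMap.range fb := by
    intro w
    refine exists_of_map_g_eq_zero a (lbComplex_shortExact b hS) _ ?_
    refine (ψb_map b a (injSeq M).g 0 w.1).symm.trans ?_
    obtain ⟨c, hc⟩ := w.2
    exact (ψb_eq_zero_iff b a 0 _ _).mpr ⟨c, hc⟩
  let e1 := LinearEquiv.ofInjective fb hfb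
  let P : W →ₗ[R] ((localCohomology a 0).obj (Lb b M) ⧸ LinearMap.range (ψb b a 0 M).hom) :=
    (LinearMap.range (ψb b a 0 M).hom).mkQ ∘ₗ e1.symm.toLinearMap ∘ₗ
      ((ψb b a 0 _).hom ∘ₗ W.subtype).codRestrict (LinearMap.range fb) hpre
  let e2 := LinearEquiv.ofInjective Φ.hom (HmapOfLE_zero_injective (le_sup_left : a ≤ a ⊔ Ideal.span {b}) _)
  let Q : W →ₗ[R] (localCohomology (a ⊔ Ideal.span {b}) 1).obj M :=
    (delta (a ⊔ Ideal.span {b}) 0 hS).hom ∘ₗ e2.symm.toLinearMap ∘ₗ
      (G' ∘ₗ W.subtype).codRestrict (LinearMap.range Φ.hom) fun w => w.2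
  have he2 : ∀ w : W, Φ (e2.symm (⟨G' w.1, w.2⟩)) = G' w.1 := fun w =>
    congrArg Subtype.val (e2.apply_symm_apply _)
  have he1 : ∀ w : W, fb (e1.symm ⟨_, hpre w⟩) = ψb b a 0 _ w.1 := fun w =>
    congrArg Subtype.val (e1.apply_symm_apply _)
  have hP : Function.Surjective P := by
    intro q
    obtain ⟨z, rfl⟩ := Submodule.Quotient.mk_surjective _ q
    obtain ⟨w, hw⟩ := ψb_surjective_of_injective b a (injSeq M).X₂ 0 (fb z)
    have hwW : w ∈ W := by
      refine (ψb_eq_zero_iff b a 0 _ (G' w)).mp ?_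
      refine (ψb_map b a (injSeq M).g 0 w).trans ?_
      exact (congrArg _ hw).trans (congrArg (fun t => t.hom z)
        (map_comp_map_eq_zero a (lbComplex b (injSeq M))))
    refine ⟨⟨w, hwW⟩, congrArg (Submodule.Quotient.mk) (hfb ?_)⟩
    exact (he1 ⟨w, hwW⟩).trans hw
  have hQmem : ∀ w : W, Q w ∈ LinearMap.ker (φb b a 1 M).hom := fun w => by
    refine (HmapOfLE_delta _ hS _).trans ?_
    refine (congrArg (delta a 0 hS) (he2 w)).trans ?_
    exact congrArg (fun t => t.hom w.1) (map_comp_delta a hS)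
  let Q' := Q.codRestrict _ hQmem
  have hQ : Function.Surjective Q' := by
    rintro ⟨x, hx⟩
    obtain ⟨c, rfl⟩ := delta_injSeq_surjective (a ⊔ Ideal.span {b}) 0 M x
    obtain ⟨w, hw⟩ := exists_of_delta_eq_zero a hS (Φ c) ((HmapOfLE_delta _ hS c).symm.trans hx)
    refine ⟨⟨w, ⟨c, hw.symm⟩⟩, Subtype.ext ?_⟩
    refine congrArg (delta (a ⊔ Ideal.span {b}) 0 hS) (HmapOfLE_zero_injective (le_sup_left : a ≤ a ⊔ Ideal.span {b}) _ ?_)
    exact (he2 ⟨w, ⟨c, hw.symm⟩⟩).trans hw
  have hker : ∀ w : W, P w = 0 ↔ Q w = 0 := by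
    intro w
    constructor
    · intro hw
      obtain ⟨m, hm⟩ := (Submodule.Quotient.mk_eq_zero _).mp hw
      have hd : ψb b a 0 _ (w.1 - (localCohomology a 0).map (injSeq M).f m) = 0 := by
        rw [map_sub, ψb_map, sub_eq_zero]
        exact (he1 w).symm.trans (congrArg fb hm.symm)
      obtain ⟨w', hw'⟩ := (ψb_eq_zero_iff b a 0 _ _).mp hd
      have : e2.symm ⟨G' w.1, w.2⟩ =
          (localCohomology (a ⊔ Ideal.span {b}) 0).map (injSeq M).g w' := by
        refine HmapOfLE_zero_injective (le_sup_left : a ≤ a ⊔ Ideal.span {b}) _ ((he2 w).trans ?_)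
        refine (Eq.trans ?_ (HmapOfLE_map _ (injSeq M).g w').symm)
        refine Eq.trans ?_ (congrArg _ hw'.symm)
        rw [map_sub, ← ModuleCat.comp_apply, map_comp_map_eq_zero]
        exact (sub_zero _).symm
      refine (congrArg _ this).trans ?_
      exact congrArg (fun t => t.hom w') (map_comp_delta (a ⊔ Ideal.span {b}) hS)
    · intro hw
      obtain ⟨w', hw'⟩ := exists_of_delta_eq_zero _ hS _ hw
      have hd : (localCohomology a 0).map (injSeq M).g
          (w.1 - φb b a 0 _ w') = 0 := by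
        rw [map_sub, sub_eq_zero]
        exact (he2 w).symm.trans ((congrArg Φ hw'.symm).trans (HmapOfLE_map _ _ w'))
      obtain ⟨m, hm⟩ := exists_of_map_g_eq_zero a hS _ hd
      refine (Submodule.Quotient.mk_eq_zero _).mpr ⟨m, hfb ?_⟩
      refine ((ψb_map b a (injSeq M).f 0 m).symm.trans ?_).trans (he1 w).symm
      rw [hm, map_sub, (ψb_eq_zero_iff b a 0 _ _).mpr ⟨w', rfl⟩, sub_zero]
  have hPQ : LinearMap.ker P = LinearMap.ker Q' := Submodule.ext fun w =>
    (hker w).trans ⟨fun h => Subtype.ext h, fun h => congrArg Subtype.val h⟩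
  exact ⟨(P.quotKerEquivOfSurjective hP).symm ≪≫ₗ Submodule.quotEquivOfEq _ _ hPQ ≪≫ₗ
    Q'.quotKerEquivOfSurjective hQ⟩

/-- The connecting isomorphism. -/
theorem nonempty_coker_equiv (i : ℕ) : ∀ M : ModuleCat.{u} R,
    Nonempty (((localCohomology a i).obj (Lb b M) ⧸ LinearMap.range (ψb b a i M).hom) ≃ₗ[R]
      LinearMap.ker (φb b a (i + 1) M).hom) := by
  induction i with
  | zero => exact nonempty_coker_equiv_zero b a
  | succ i ih =>
    intro M
    have hS := injSeq_shortExact M
    obtain ⟨e⟩ := ih (injSeq M).X₃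
    let D : (localCohomology a i).obj (Lb b (injSeq M).X₃) →ₗ[R]
        (localCohomology a (i + 1)).obj (Lb b M) := (delta a i (lbComplex_shortExact b hS)).hom
    have hD : Function.Surjective D := fun z => by
      have hE : Injective (lbComplex b (injSeq M)).X₂ := injective_Lb b (injSeq M).X₂
      have := subsingleton_of_injective a (lbComplex b (injSeq M)).X₂ i
      exact exists_of_map_f_eq_zero a (lbComplex_shortExact b hS) z (Subsingleton.elim _ _)
    have hle : LinearMap.range (ψb b a i (injSeq M).X₃).hom ≤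
        (LinearMap.range (ψb b a (i + 1) M).hom).comap D := by
      rintro _ ⟨c, rfl⟩
      exact ⟨delta a i hS c, ψb_delta b a hS i c⟩
    let l := Submodule.mapQ _ _ D hle
    have hl : Function.Bijective l := by
      refine ⟨LinearMap.ker_eq_bot.mp ((Submodule.eq_bot_iff _).mpr fun q hq => ?_), fun q => ?_⟩
      · obtain ⟨z, rfl⟩ := Submodule.Quotient.mk_surjective _ q
        obtain ⟨y, hy⟩ := (Submodule.Quotient.mk_eq_zero _).mp (LinearMap.mem_ker.mp hq)
        obtain ⟨c, rfl⟩ := delta_injSeq_surjective a i M y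
        have h0 : D (z - ψb b a i _ c) = 0 := by
          rw [map_sub, sub_eq_zero]
          exact hy.symm.trans (ψb_delta b a hS i c)
        obtain ⟨w, hw⟩ := exists_of_delta_eq_zero a (lbComplex_shortExact b hS) _ h0
        obtain ⟨w', rfl⟩ := ψb_surjective_of_injective b a (injSeq M).X₂ i w
        refine (Submodule.Quotient.mk_eq_zero _).mpr
          ⟨(localCohomology a i).map (injSeq M).g w' + c, ?_⟩
        rw [map_add, ψb_map]
        exact (congrArg (· + ψb b a i _ c) hw).trans (sub_add_cancel _ _)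
      · obtain ⟨z, rfl⟩ := Submodule.Quotient.mk_surjective _ q
        obtain ⟨c, rfl⟩ := hD z
        exact ⟨Submodule.Quotient.mk c, rfl⟩
    have := subsingleton_of_injective (a ⊔ Ideal.span {b}) (injSeq M).X₂ i
    have := subsingleton_of_injective a (injSeq M).X₂ i
    have := subsingleton_of_injective (a ⊔ Ideal.span {b}) (injSeq M).X₂ (i + 1)
    let D' : LinearMap.ker (φb b a (i + 1) (injSeq M).X₃).hom →ₗ[R]
        LinearMap.ker (φb b a (i + 1 + 1) M).hom :=
      (delta (a ⊔ Ideal.span {b}) (i + 1) hS).hom.restrict fun x hx => by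
        refine (HmapOfLE_delta _ hS x).trans ?_
        exact (congrArg _ hx).trans (map_zero _)
    have hD' : Function.Bijective D' := by
      refine ⟨LinearMap.ker_eq_bot.mp ((Submodule.eq_bot_iff _).mpr fun q hq => ?_), fun q => ?_⟩
      · obtain ⟨w, hw⟩ := exists_of_delta_eq_zero _ hS q.1 (congrArg Subtype.val hq)
        exact Subtype.ext (hw.symm.trans (by rw [Subsingleton.eq_zero w, map_zero]; rfl))
      · obtain ⟨c, hc⟩ := delta_injSeq_surjective (a ⊔ Ideal.span {b}) (i + 1) M q.1
        refine ⟨⟨c, ?_⟩, Subtype.ext hc⟩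
        obtain ⟨w, hw⟩ := exists_of_delta_eq_zero a hS (φb b a (i + 1) _ c)
          ((HmapOfLE_delta _ hS c).symm.trans ((congrArg _ hc).trans q.2))
        exact hw.symm.trans (by rw [Subsingleton.eq_zero w, map_zero])
    exact ⟨(LinearEquiv.ofBijective l hl).symm ≪≫ₗ e ≪≫ₗ LinearEquiv.ofBijective D' hD'⟩

end Localize

end

end Groth.Agent.LocCohBasic
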