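import Groth.Prelude.Def_W4bk5brsh16IT
import Groth.Agent.LocCohBasic.Compare

/-!
# The ideal transform `D_I = colim Hom(I^n, -)`

Element-wise description (`dloc`), the map `ε : D_I → H^1_I`, and `D_I` as the degree zero part of
a δ-functor with higher terms `H^{i+1}_I`.
-/

universe u

open CategoryTheory Limits Opposite Abelian localCohomology LocCoh

namespace Groth.Agent.LocCohBasic

noncomputable section

variable {R : Type u} [CommRing R] (I : Ideal R)

/-- `I ^ k` as an object. -/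
abbrev PI (k : ℕ) : ModuleCat.{u} R := ModuleCat.of R ↥(I ^ k)

/-- The inclusion `I ^ l ⟶ I ^ k`. -/
def pincl {k l : ℕ} (h : k ≤ l) : PI I l ⟶ PI I k :=
  (localCohomology.idealPowersDiagram I ⋙ idealModFunctor).map (homOfLE h).op

lemma pincl_apply {k l : ℕ} (h : k ≤ l) (a : PI I l) :
    ((pincl I h) a).1 = a.1 := rfl

/-- The canonical map `Hom(I ^ k, M) → D_I(M)`. -/
def dloc (M : ModuleCat.{u} R) (k : ℕ) :
    (PI I k ⟶ M) →ₗ[R] (idealTransform I).obj M :=
  (((colimit.ι (transformDiagram I) (op (op k))).app M)).hom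

/-- The evaluated colimit. -/
def isColimitTEval (M : ModuleCat.{u} R) :
    IsColimit (((evaluation _ (ModuleCat.{u} R)).obj M).mapCocone
      (colimit.cocone (transformDiagram I))) :=
  isColimitOfPreserves _ (colimit.isColimit _)

variable {M N : ModuleCat.{u} R}

lemma exists_dloc (y : (idealTransform I).obj M) :
    ∃ (k : ℕ) (f : PI I k ⟶ M), dloc I M k f = y := by
  obtain ⟨j, x, hx⟩ := Concrete.isColimit_exists_rep _ (isColimitTEval I M) y
  exact ⟨unop (unop j), x, hx⟩

lemma dloc_pincl {k l : ℕ} (h : k ≤ l) (f : PI I k ⟶ M) :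
    dloc I M l (pincl I h ≫ f) = dloc I M k f :=
  congrArg (fun t => t.hom f)
    ((((evaluation _ (ModuleCat.{u} R)).obj M).mapCocone
      (colimit.cocone (transformDiagram I))).w (homOfLE h).op.op)

lemma dloc_eq_zero_iff {k : ℕ} (f : PI I k ⟶ M) :
    dloc I M k f = 0 ↔ ∃ (l : ℕ) (h : k ≤ l), pincl I h ≫ f = 0 := by
  refine ⟨fun hf => ?_, fun ⟨l, h, hl⟩ => by rw [← dloc_pincl I h f, hl, map_zero]⟩
  obtain ⟨j, p, q, hpq⟩ := Concrete.isColimit_exists_of_rep_eq.{u} _ (isColimitTEval I M)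
    (i := op (op k)) (j := op (op k)) f (0 : PI I k ⟶ M) (hf.trans (map_zero _).symm)
  exact ⟨unop (unop j), leOfHom p.unop.unop, hpq.trans (map_zero _)⟩

lemma map_dloc (g : M ⟶ N) {k : ℕ} (f : PI I k ⟶ M) :
    (idealTransform I).map g (dloc I M k f) = dloc I N k (f ≫ g) :=
  (congrArg (fun t => t.hom f) ((colimit.ι (transformDiagram I) (op (op k))).naturality g)).symm

/-- `m ↦ (r ↦ r • m)` on `I ^ k`. -/
def smulK (k : ℕ) (m : M) : PI I k ⟶ M :=
  ModuleCat.ofHom ((LinearMap.toSpanSingleton R M m).comp (I ^ k).subtype)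

lemma smulK_apply (k : ℕ) (m : M) (a : PI I k) : smulK I k m a = a.1 • m := rfl

/-- `η`, on objects. -/
abbrev η (M : ModuleCat.{u} R) : M →ₗ[R] (idealTransform I).obj M := toDT I M

lemma η_eq_dloc (k : ℕ) (m : M) : η I M m = dloc I M k (smulK I k m) := by
  have h0 : η I M m = dloc I M 0 (smulK I 0 m) := by
    refine congrArg (dloc I M 0) ?_
    ext a
    rfl
  rw [h0, ← dloc_pincl I (Nat.zero_le k)]
  congr 1

lemma map_η (g : M ⟶ N) (m : M) : (idealTransform I).map g (η I M m) = η I N (g m) := by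
  rw [η_eq_dloc I 0, η_eq_dloc I 0, map_dloc]
  congr 1
  ext a
  exact map_smul g.hom _ _

/-- The value of a representative times a scalar. -/
lemma smul_dloc {k : ℕ} (f : PI I k ⟶ M) (a : PI I k) :
    a.1 • dloc I M k f = η I M (f a) := by
  rw [η_eq_dloc I k, ← map_smul]
  congr 1
  ext b
  change a.1 • f b = b.1 • f a
  rw [← map_smul, ← map_smul]
  congr 1
  exact Subtype.ext (mul_comm _ _)

lemma η_eq_zero_iff (m : M) : η I M m = 0 ↔ m ∈ DRing.torsionSub I M := by
  rw [η_eq_dloc I 0, dloc_eq_zero_iff]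
  constructor
  · rintro ⟨l, h, hl⟩
    exact ⟨l, fun a ha => congrArg (fun t => t.hom ⟨a, ha⟩) hl⟩
  · rintro ⟨n, hn⟩
    refine ⟨n, Nat.zero_le n, ?_⟩
    ext a
    exact hn a.1 a.2

/-- Cokernel of `η` is torsion. -/
lemma exists_pow_smul_mem_range_η (x : (idealTransform I).obj M) :
    ∃ k : ℕ, ∀ a ∈ I ^ k, a • x ∈ LinearMap.range (η I M) := by
  obtain ⟨k, f, rfl⟩ := exists_dloc I x
  exact ⟨k, fun a ha => ⟨f ⟨a, ha⟩, (smul_dloc I f ⟨a, ha⟩).symm⟩⟩

/-- `η` on a transform, seen through functoriality. -/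
lemma map_η_eq_η (x : (idealTransform I).obj M) :
    (idealTransform I).map (ModuleCat.ofHom (η I M)) x =
      η I ((idealTransform I).obj M) x := by
  obtain ⟨k, f, rfl⟩ := exists_dloc I x
  rw [map_dloc, η_eq_dloc I k]
  congr 1
  ext a
  exact (smul_dloc I f a).symm

section Epsilon

/-- `0 → I^k → R → R ⧸ I^k → 0`. -/
def powSeq (k : ℕ) : ShortComplex (ModuleCat.{u} R) :=
  ModuleCat.shortComplexOfCompEqZero (I ^ k).subtype (I ^ k).mkQ
    (LinearMap.ext fun x => (Submodule.Quotient.mk_eq_zero _).mpr x.2)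

lemma powSeq_shortExact (k : ℕ) : (powSeq I k).ShortExact :=
  ModuleCat.shortComplex_shortExact _ (LinearMap.exact_subtype_mkQ _)
    (Submodule.injective_subtype _) (Submodule.mkQ_surjective _)

/-- The class of `0 → I^k → R → R ⧸ I^k → 0`. -/
def powClass (k : ℕ) : Ext (QI I k) (PI I k) 1 := (powSeq_shortExact I k).extClass

lemma powClass_natural {k l : ℕ} (h : k ≤ l) :
    (powClass I l).comp (Ext.mk₀ (pincl I h)) (add_zero 1) =
      (Ext.mk₀ (proj I h)).comp (powClass I k) (zero_add 1) :=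
  ShortComplex.ShortExact.extClass_naturality (powSeq_shortExact I l) (powSeq_shortExact I k)
    { τ₁ := pincl I h
      τ₂ := 𝟙 _
      τ₃ := proj I h
      comm₁₂ := by ext a; rfl
      comm₂₃ := by ext; rfl }

/-- The representative form of `ε`. -/
def εK (M : ModuleCat.{u} R) (k : ℕ) :
    ((transformDiagram I).obj (op (op k))).obj M ⟶ (localCohomology I 1).obj M :=
  ModuleCat.ofHom
    { toFun := fun f => loc I M k ((powClass I k).comp (Ext.mk₀ (f : PI I k ⟶ M)) (add_zero 1))
      map_add' := fun f g => by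
        erw [Ext.mk₀_add, Ext.comp_add, map_add]
      map_smul' := fun r f => by
        erw [Ext.mk₀_smul, Ext.comp_smul, map_smul]
        rfl }

/-- The cocone defining `ε`. -/
def εCocone (M : ModuleCat.{u} R) :
    Cocone (transformDiagram I ⋙ (evaluation _ (ModuleCat.{u} R)).obj M) where
  pt := (localCohomology I 1).obj M
  ι :=
    { app := fun j => εK I M (unop (unop j))
      naturality := by
        intro i j f
        refine Eq.trans ?_ (Category.comp_id _).symm
        ext g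
        have hle : unop (unop i) ≤ unop (unop j) := leOfHom f.unop.unop
        change loc I M _ ((powClass I _).comp (Ext.mk₀ (pincl I hle ≫ g)) _) = loc I M _ _
        rw [← Ext.mk₀_comp_mk₀, ← Ext.comp_assoc _ _ _ (add_zero 1) (add_zero 0) (by omega),
          powClass_natural I hle, Ext.comp_assoc _ _ _ (zero_add 1) (add_zero 1) (by omega),
          loc_proj] }

/-- `ε : D_I(M) → H^1_I(M)`. -/
def ε (M : ModuleCat.{u} R) : (idealTransform I).obj M ⟶ (localCohomology I 1).obj M :=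
  (isColimitTEval I M).desc (εCocone I M)

lemma ε_dloc {k : ℕ} (f : PI I k ⟶ M) :
    ε I M (dloc I M k f) = loc I M k ((powClass I k).comp (Ext.mk₀ f) (add_zero 1)) :=
  congrArg (fun t => t.hom f) ((isColimitTEval I M).fac (εCocone I M) (op (op k)))

lemma ε_naturality (g : M ⟶ N) (x : (idealTransform I).obj M) :
    ε I N ((idealTransform I).map g x) = (localCohomology I 1).map g (ε I M x) := by
  obtain ⟨k, f, rfl⟩ := exists_dloc I x
  rw [map_dloc, ε_dloc, ε_dloc, map_loc, Ext.comp_assoc _ _ _ (add_zero 1) (add_zero 0) (by omega),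
    Ext.mk₀_comp_mk₀]

lemma ε_surjective (y : (localCohomology I 1).obj M) : ∃ x, ε I M x = y := by
  obtain ⟨k, e, rfl⟩ := exists_loc I M y
  have : Projective (powSeq I k).X₂ := (IsProjective.iff_projective R).mp inferInstance
  obtain ⟨e', he'⟩ := Ext.contravariant_sequence_exact₃ (powSeq_shortExact I k) M e
    (Subsingleton.elim (h := Ext.subsingleton_of_projective _ M 0) _ _) (n₀ := 0) rfl
  obtain ⟨f, rfl⟩ := (Ext.mk₀_bijective _ _).2 e'
  exact ⟨dloc I M k f, (ε_dloc I f).trans (congrArg _ he')⟩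

lemma ε_η (m : M) : ε I M (η I M m) = 0 := by
  rw [η_eq_dloc I 0, ε_dloc]
  have h : (powClass I 0).comp (Ext.mk₀ (smulK I 0 m)) (add_zero 1) = 0 := by
    let g0 : (powSeq I 0).X₂ ⟶ M := ModuleCat.ofHom (LinearMap.toSpanSingleton R M m)
    have : smulK I 0 m = (powSeq I 0).f ≫ g0 := rfl
    rw [this]
    change (powSeq_shortExact I 0).extClass.comp (Ext.mk₀ ((powSeq I 0).f ≫ g0)) (add_zero 1) = 0
    rw [← Ext.mk₀_comp_mk₀, ← Ext.comp_assoc _ _ _ (add_zero 1) (add_zero 0) (by omega),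
      ShortComplex.ShortExact.extClass_comp, Ext.zero_comp]
  rw [h, map_zero]

lemma ε_eq_zero_iff (x : (idealTransform I).obj M) :
    ε I M x = 0 ↔ x ∈ LinearMap.range (η I M) := by
  refine ⟨fun hx => ?_, fun ⟨m, hm⟩ => hm ▸ ε_η I m⟩
  obtain ⟨k, f, rfl⟩ := exists_dloc I x
  rw [ε_dloc, loc_eq_zero_iff] at hx
  obtain ⟨l, h, hl⟩ := hx
  rw [← Ext.comp_assoc _ _ _ (zero_add 1) (add_zero 1) (by omega), ← powClass_natural I h,
    Ext.comp_assoc _ _ _ (add_zero 1) (add_zero 0) (by omega), Ext.mk₀_comp_mk₀] at hl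
  obtain ⟨x₂, hx₂⟩ := Ext.contravariant_sequence_exact₁ (powSeq_shortExact I l) M
    (Ext.mk₀ (pincl I h ≫ f)) rfl hl
  obtain ⟨g, rfl⟩ := (Ext.mk₀_bijective _ _).2 x₂
  rw [Ext.mk₀_comp_mk₀] at hx₂
  have hg : (powSeq I l).f ≫ g = pincl I h ≫ f := (Ext.mk₀_bijective _ _).1 hx₂
  refine ⟨g.hom (1 : R), ?_⟩
  rw [← dloc_pincl I h f, ← hg, η_eq_dloc I l]
  congr 1
  ext a
  exact (g.hom.map_smul a.1 (1 : R)).symm.trans (congrArg g.hom (mul_one a.1))

/-- `coker η ≅ H^1_I`. -/
def cokerEquiv (M : ModuleCat.{u} R) :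
    ((idealTransform I).obj M ⧸ LinearMap.range (η I M)) ≃ₗ[R] (localCohomology I 1).obj M :=
  (Submodule.quotEquivOfEq _ _ (Submodule.ext fun x => (ε_eq_zero_iff I x).symm)).trans
    ((ε I M).hom.quotKerEquivOfSurjective (ε_surjective I))

end Epsilon

section Exact

variable [IsNoetherianRing R]

lemma subsingleton_DT_of_isPowerTorsion (h : IsPowerTorsion I M) :
    Subsingleton ((idealTransform I).obj M) := by
  refine subsingleton_of_forall_eq 0 fun x => ?_
  obtain ⟨k, f, rfl⟩ := exists_dloc I x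
  obtain ⟨K, hK⟩ := exists_uniform_pow I (LinearMap.range f.hom)
    (by rw [← Submodule.map_top]; exact Submodule.FG.map _ Module.Finite.fg_top)
    fun y _ => h y
  refine (dloc_eq_zero_iff I f).mpr ⟨k + K, Nat.le_add_right k K, ?_⟩
  suffices ∀ b (hb : b ∈ I ^ (k + K)),
      f ⟨b, Ideal.pow_le_pow_right (Nat.le_add_right k K) hb⟩ = 0 by
    ext a
    exact this a.1 a.2
  intro b hb
  have hb' : b ∈ I ^ K * I ^ k := by rwa [← pow_add, Nat.add_comm]
  suffices ∃ hb : b ∈ I ^ k, f ⟨b, hb⟩ = 0 from this.2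
  clear hb
  induction hb' using Submodule.mul_induction_on' with
  | mem_mul_mem c hc d hd =>
    refine ⟨Ideal.mul_mem_left _ c hd, ?_⟩
    have : (⟨c * d, Ideal.mul_mem_left _ c hd⟩ : PI I k) = c • (⟨d, hd⟩ : PI I k) :=
      Subtype.ext rfl
    rw [this, map_smul]
    exact hK c hc _ (LinearMap.mem_range_self _ _)
  | add c _ d _ hc hd =>
    obtain ⟨hc1, hc2⟩ := hc
    obtain ⟨hd1, hd2⟩ := hd
    refine ⟨add_mem hc1 hd1, ?_⟩
    have : (⟨c + d, add_mem hc1 hd1⟩ : PI I k) = ⟨c, hc1⟩ + ⟨d, hd1⟩ := Subtype.ext rfl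
    rw [this, map_add, hc2, hd2, add_zero]

lemma eq_zero_of_torsion_DT {x : (idealTransform I).obj M}
    (hx : x ∈ DRing.torsionSub I ((idealTransform I).obj M)) : x = 0 := by
  classical
  obtain ⟨j, hj⟩ := hx
  obtain ⟨k, f, rfl⟩ := exists_dloc I x
  obtain ⟨s, hs⟩ := IsNoetherian.noetherian (I ^ j)
  have hs' : ∀ c : (s : Set R), ∃ (l : ℕ) (h : k ≤ l), pincl I h ≫ ((c : R) • f) = 0 := fun c =>
    (dloc_eq_zero_iff I _).mp (by rw [map_smul]; exact hj _ (hs ▸ Submodule.subset_span c.2))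
  choose l hl h0 using hs'
  set L := k + ∑ c : (s : Set R), l c
  have hkill : ∀ (c : R) (_ : c ∈ I ^ j) (a : PI I L),
      c • f (pincl I (Nat.le_add_right k _) a) = 0 := by
    intro c hc a
    rw [← hs] at hc
    induction hc using Submodule.span_induction with
    | mem c hc =>
      have hlc : l ⟨c, hc⟩ ≤ L :=
        le_trans (Finset.single_le_sum (f := l) (fun _ _ => Nat.zero_le _)
          (Finset.mem_univ (⟨c, hc⟩ : (s : Set R)))) (Nat.le_add_left _ _)
      exact congrArg (fun t => t.hom (pincl I hlc a)) (h0 ⟨c, hc⟩)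
    | zero => rw [zero_smul]
    | add c d _ _ hc hd => rw [add_smul, hc, hd, add_zero]
    | smul r c _ hc => rw [smul_assoc, hc, smul_zero]
  refine (dloc_eq_zero_iff I f).mpr ⟨j + L, by omega, ?_⟩
  suffices ∀ b (_ : b ∈ I ^ j * I ^ L), ∀ (hb : b ∈ I ^ k), f ⟨b, hb⟩ = 0 by
    ext a
    exact this a.1 (by rw [← pow_add]; exact a.2)
      (Ideal.pow_le_pow_right (by omega) a.2)
  intro b hb
  suffices ∃ hb : b ∈ I ^ k, f ⟨b, hb⟩ = 0 from fun _ => this.2
  induction hb using Submodule.mul_induction_on' with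
  | mem_mul_mem c hc d hd =>
    have hd' : d ∈ I ^ k := Ideal.pow_le_pow_right (Nat.le_add_right k _) hd
    refine ⟨Ideal.mul_mem_left _ c hd', ?_⟩
    have : (⟨c * d, Ideal.mul_mem_left _ c hd'⟩ : PI I k) = c • (⟨d, hd'⟩ : PI I k) :=
      Subtype.ext rfl
    rw [this, map_smul]
    exact hkill c hc ⟨d, hd⟩
  | add c _ d _ hc hd =>
    obtain ⟨hc1, hc2⟩ := hc
    obtain ⟨hd1, hd2⟩ := hd
    refine ⟨add_mem hc1 hd1, ?_⟩
    have : (⟨c + d, add_mem hc1 hd1⟩ : PI I k) = ⟨c, hc1⟩ + ⟨d, hd1⟩ := Subtype.ext rfl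
    rw [this, map_add, hc2, hd2, add_zero]

variable {S : ShortComplex (ModuleCat.{u} R)} (hS : S.ShortExact)

include hS in
omit [IsNoetherianRing R] in
lemma DT_map_f_injective : Function.Injective ((idealTransform I).map S.f) := by
  refine (injective_iff_map_eq_zero ((idealTransform I).map S.f).hom).mpr fun x hx => ?_
  obtain ⟨k, f, rfl⟩ := exists_dloc I x
  obtain ⟨l, h, hl⟩ := (dloc_eq_zero_iff I _).mp ((map_dloc I S.f f).symm.trans hx)
  refine (dloc_eq_zero_iff I f).mpr ⟨l, h, ?_⟩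
  have := hS.mono_f
  rwa [← cancel_mono S.f, zero_comp, Category.assoc]

include hS in
omit [IsNoetherianRing R] in
lemma exists_of_DT_map_g_eq_zero (x : (idealTransform I).obj S.X₂)
    (hx : (idealTransform I).map S.g x = 0) : ∃ y, (idealTransform I).map S.f y = x := by
  obtain ⟨k, f, rfl⟩ := exists_dloc I x
  obtain ⟨l, h, hl⟩ := (dloc_eq_zero_iff I _).mp ((map_dloc I S.g f).symm.trans hx)
  have := hS.mono_f
  rw [← Category.assoc] at hl
  refine ⟨dloc I S.X₁ l (hS.exact.lift (pincl I h ≫ f) hl), ?_⟩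
  rw [map_dloc, ShortComplex.Exact.lift_f, dloc_pincl]

/-- The connecting map `D_I(X₃) → H^2_I(X₁)`. -/
def deltaDT : (idealTransform I).obj S.X₃ ⟶ (localCohomology I 2).obj S.X₁ :=
  ε I S.X₃ ≫ delta I 1 hS

omit [IsNoetherianRing R] in
lemma map_g_comp_deltaDT : (idealTransform I).map S.g ≫ deltaDT I hS = 0 := by
  ext x
  change delta I 1 hS (ε I S.X₃ ((idealTransform I).map S.g x)) = 0
  rw [ε_naturality]
  exact congrArg (fun t => t.hom (ε I S.X₂ x)) (map_comp_delta I hS)

omit [IsNoetherianRing R] in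
lemma exists_of_deltaDT_eq_zero (z : (idealTransform I).obj S.X₃) (hz : deltaDT I hS z = 0) :
    ∃ y, (idealTransform I).map S.g y = z := by
  obtain ⟨w, hw⟩ := exists_of_delta_eq_zero I hS (ε I S.X₃ z) hz
  obtain ⟨y, rfl⟩ := ε_surjective I w
  obtain ⟨m, hm⟩ := (ε_eq_zero_iff I (z - (idealTransform I).map S.g y)).mp
    (by rw [map_sub, ε_naturality, hw, sub_self])
  obtain ⟨m', rfl⟩ := hS.moduleCat_surjective_g m
  refine ⟨η I S.X₂ m' + y, ?_⟩
  rw [map_add, map_η, hm, sub_add_cancel]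

/-- `D_I` in degree zero, `H^{n+1}_I` above: a δ-functor. -/
def transformDelta : UnivDelta.DeltaFunctor (ModuleCat.{u} R) (ModuleCat.{u} R) where
  F
    | 0 => idealTransform I
    | n + 1 => localCohomology I (n + 2)
  additive
    | 0 => inferInstance
    | _ + 1 => inferInstance
  δ hS
    | 0 => deltaDT I hS
    | n + 1 => delta I (n + 2) hS
  mono₁ hS := (ModuleCat.mono_iff_injective _).mpr (DT_map_f_injective I hS)
  exact₂ hS
    | 0, _ => (ShortComplex.moduleCat_exact_iff _).mpr (exists_of_DT_map_g_eq_zero I hS)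
    | _ + 1, _ => (ShortComplex.moduleCat_exact_iff _).mpr (exists_of_map_g_eq_zero I hS)
  map_g_δ hS
    | 0 => map_g_comp_deltaDT I hS
    | _ + 1 => map_comp_delta I hS
  exact₃ hS
    | 0 => (ShortComplex.moduleCat_exact_iff _).mpr (exists_of_deltaDT_eq_zero I hS)
    | _ + 1 => (ShortComplex.moduleCat_exact_iff _).mpr (exists_of_delta_eq_zero I hS)
  δ_map_f hS
    | 0 => by
      refine (Category.assoc _ _ _).trans ?_
      exact (congrArg (ε I _ ≫ ·) (delta_comp_map I hS)).trans comp_zero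
    | _ + 1 => delta_comp_map I hS
  exact₁ hS
    | 0 => (ShortComplex.moduleCat_exact_iff _).mpr fun x hx => by
      obtain ⟨w, hw⟩ := exists_of_map_f_eq_zero I hS x hx
      obtain ⟨y, rfl⟩ := ε_surjective I w
      exact ⟨y, hw⟩
    | _ + 1 => (ShortComplex.moduleCat_exact_iff _).mpr (exists_of_map_f_eq_zero I hS)
  δ_nat hS hS' φ
    | 0 => by
      change _ ≫ ε I _ ≫ delta I 1 hS' = (ε I _ ≫ delta I 1 hS) ≫ _
      ext x
      change delta I 1 hS' (ε I _ ((idealTransform I).map φ.τ₃ x)) = _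
      rw [ε_naturality]
      exact congrArg (fun t => t.hom (ε I _ x)) (delta_naturality I hS hS' φ)
    | _ + 1 => delta_naturality I hS hS' φ
  isZero J _ n :=
    have := subsingleton_of_injective I J (n + 1)
    ModuleCat.isZero_of_subsingleton ((localCohomology I (n + 2)).obj J)

/-- A map with torsion kernel and cokernel becomes bijective. -/
theorem DT_map_bijective (e : M ⟶ N) (hker : LinearMap.ker e.hom ≤ DRing.torsionSub I M)
    (hcoker : IsPowerTorsion I (N ⧸ LinearMap.range e.hom)) :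
    Function.Bijective ((idealTransform I).map e) := by
  let S₁ := ModuleCat.shortComplexOfCompEqZero (LinearMap.ker e.hom).subtype e.hom.rangeRestrict
    (LinearMap.ext fun x => Subtype.ext x.2)
  have hS₁ : S₁.ShortExact := ModuleCat.shortComplex_shortExact _
    (fun x => by
      refine ⟨fun hx => ⟨⟨x, congrArg Subtype.val hx⟩, rfl⟩, ?_⟩
      rintro ⟨y, rfl⟩
      exact Subtype.ext y.2)
    (Submodule.injective_subtype _) e.hom.surjective_rangeRestrict
  let S₂ := ModuleCat.shortComplexOfCompEqZero (LinearMap.range e.hom).subtype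
    (LinearMap.range e.hom).mkQ (LinearMap.ext fun x => (Submodule.Quotient.mk_eq_zero _).mpr x.2)
  have hS₂ : S₂.ShortExact := ModuleCat.shortComplex_shortExact _
    (LinearMap.exact_subtype_mkQ _) (Submodule.injective_subtype _) (Submodule.mkQ_surjective _)
  have hK : IsPowerTorsion I (LinearMap.ker e.hom) := fun x =>
    (hker x.2).imp fun n hn a ha => Subtype.ext (hn a ha)
  have := subsingleton_DT_of_isPowerTorsion I (M := S₁.X₁) hK
  have := subsingleton_DT_of_isPowerTorsion I (M := S₂.X₃) hcoker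
  have h₁ : Function.Bijective ((idealTransform I).map S₁.g) := by
    refine ⟨(injective_iff_map_eq_zero _).mpr fun x hx => ?_, fun z => ?_⟩
    · obtain ⟨y, rfl⟩ := exists_of_DT_map_g_eq_zero I hS₁ x hx
      rw [Subsingleton.eq_zero y, map_zero]
    · exact exists_of_deltaDT_eq_zero I hS₁ z
        (@Subsingleton.elim _ (subsingleton_of_isPowerTorsion I 1 S₁.X₁ hK) _ _)
  have h₂ : Function.Bijective ((idealTransform I).map S₂.f) :=
    ⟨DT_map_f_injective I hS₂, fun z =>
      exists_of_DT_map_g_eq_zero I hS₂ z (Subsingleton.elim _ _)⟩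
  have hcomp : S₁.g ≫ S₂.f = e := by ext x; rfl
  have := h₂.comp h₁
  rw [← hcomp, Functor.map_comp]
  exact this

/-- `η` becomes bijective. -/
theorem map_η_bijective (M : ModuleCat.{u} R) :
    Function.Bijective ((idealTransform I).map (ModuleCat.ofHom (η I M))) :=
  DT_map_bijective I _ (fun _ hx => (η_eq_zero_iff I _).mp hx) fun q => by
    obtain ⟨x, rfl⟩ := Submodule.Quotient.mk_surjective _ q
    obtain ⟨k, hk⟩ := exists_pow_smul_mem_range_η I x
    exact ⟨k, fun a ha => by
      rw [← Submodule.Quotient.mk_smul, Submodule.Quotient.mk_eq_zero]; exact hk a ha⟩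

/-- `η` of a transform is bijective. -/
theorem η_DT_bijective (M : ModuleCat.{u} R) :
    Function.Bijective (η I ((idealTransform I).obj M)) := by
  have h := map_η_bijective I M
  have he : (fun x => (idealTransform I).map (ModuleCat.ofHom (η I M)) x) =
      η I ((idealTransform I).obj M) := funext fun x => map_η_eq_η I x
  exact he ▸ h

omit [IsNoetherianRing R] in
lemma subsingleton_H1_of_η_surjective (h : Function.Surjective (η I M)) :
    Subsingleton ((localCohomology I 1).obj M) :=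
  subsingleton_of_forall_eq 0 fun y => by
    obtain ⟨x, rfl⟩ := ε_surjective I y
    exact (ε_eq_zero_iff I x).mpr (h x)

omit [IsNoetherianRing R] in
lemma η_bijective_of (h0 : ∀ m : M, m ∈ DRing.torsionSub I M → m = 0)
    (h1 : Subsingleton ((localCohomology I 1).obj M)) : Function.Bijective (η I M) :=
  ⟨(injective_iff_map_eq_zero _).mpr fun m hm => h0 m ((η_eq_zero_iff I m).mp hm),
    fun x => (ε_eq_zero_iff I x).mp (@Subsingleton.elim _ h1 _ _)⟩

omit [IsNoetherianRing R] in
/-- Torsion-free targets detect maps on a cotorsion submodule. -/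
lemma eq_of_forall_comp_eq {A B C : Type u} [AddCommGroup A] [Module R A] [AddCommGroup B]
    [Module R B] [AddCommGroup C] [Module R C] (e : A →ₗ[R] B)
    (hcoker : IsPowerTorsion I (B ⧸ LinearMap.range e))
    (hC : ∀ c : C, c ∈ DRing.torsionSub I C → c = 0) {f g : B →ₗ[R] C} (h : f ∘ₗ e = g ∘ₗ e) :
    f = g := by
  refine LinearMap.ext fun x => sub_eq_zero.mp (hC _ ?_)
  obtain ⟨n, hn⟩ := hcoker (Submodule.Quotient.mk x)
  refine ⟨n, fun a ha => ?_⟩
  have := hn a ha
  rw [← Submodule.Quotient.mk_smul, Submodule.Quotient.mk_eq_zero] at this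
  obtain ⟨y, hy⟩ := this
  rw [smul_sub, ← map_smul, ← map_smul, ← hy, sub_eq_zero]
  exact LinearMap.congr_fun h y

/-- The universal property. -/
theorem existsUnique_factor {A B : Type u} [AddCommGroup A] [Module R A] [AddCommGroup B]
    [Module R B] (K : ModuleCat.{u} R) (e : A →ₗ[R] B)
    (hker : LinearMap.ker e ≤ DRing.torsionSub I A)
    (hcoker : IsPowerTorsion I (B ⧸ LinearMap.range e)) (ψ : A →ₗ[R] K) :
    ∃! ψ' : B →ₗ[R] (idealTransform I).obj K, ψ' ∘ₗ e = η I K ∘ₗ ψ := by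
  let em := ModuleCat.ofHom e
  have hb := DT_map_bijective I em hker hcoker
  let E := LinearEquiv.ofBijective ((idealTransform I).map em).hom hb
  refine ⟨((idealTransform I).map (ModuleCat.ofHom ψ)).hom ∘ₗ E.symm.toLinearMap ∘ₗ
    η I (ModuleCat.of R B), LinearMap.ext fun a => ?_, fun ψ' hψ' => ?_⟩
  · have h1 : E.symm (η I (ModuleCat.of R B) (e a)) = η I (ModuleCat.of R A) a :=
      E.symm_apply_eq.mpr (map_η I em a).symm
    change (idealTransform I).map (ModuleCat.ofHom ψ) (E.symm (η I (ModuleCat.of R B) (e a))) = _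
    rw [h1, map_η]
    rfl
  · refine eq_of_forall_comp_eq I e hcoker (fun c hc => eq_zero_of_torsion_DT I hc) ?_
    rw [hψ']
    refine LinearMap.ext fun a => ?_
    have h1 : E.symm (η I (ModuleCat.of R B) (e a)) = η I (ModuleCat.of R A) a :=
      E.symm_apply_eq.mpr (map_η I em a).symm
    change _ = (idealTransform I).map (ModuleCat.ofHom ψ)
      (E.symm (η I (ModuleCat.of R B) (e a)))
    rw [h1, map_η]
    rfl

end Exact

end

end Groth.Agent.LocCohBasic
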