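import Groth.Agent.LocCohBasic.Cd
import Groth.Agent.LocCohBasic.Vanish

/-!
# Acyclicity for local cohomology
-/

universe u

open CategoryTheory LocCoh

namespace Groth.Agent.LocCohBasic

variable {R : Type u} [CommRing R]

/-- `H^{i+1}_{(f)}(M) = 0` if `M → M_f` is surjective. -/
theorem subsingleton_span_singleton_of_divisible [IsNoetherianRing R] (f : R) (M : Type u)
    [AddCommGroup M] [Module R M]
    (h : ∀ x : M, ∃ (c : ℕ) (y : M), f ^ c • (f • y - x) = 0) (i : ℕ) :
    Subsingleton ((localCohomology (Ideal.span {f}) (i + 1)).obj (ModuleCat.of R M)) := by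
  set T := DRing.torsionSub (Ideal.span {f}) M with hT
  have hbij : Function.Bijective (LinearMap.lsmul R (M ⧸ T) f) := by
    refine ⟨(injective_iff_map_eq_zero _).mpr fun q hq => ?_, fun q => ?_⟩
    · obtain ⟨m, rfl⟩ := Submodule.Quotient.mk_surjective _ q
      rw [LinearMap.lsmul_apply, ← Submodule.Quotient.mk_smul, Submodule.Quotient.mk_eq_zero,
        hT, mem_torsionSub_span_singleton] at hq
      obtain ⟨n, hn⟩ := hq
      rw [Submodule.Quotient.mk_eq_zero, hT, mem_torsionSub_span_singleton]
      exact ⟨n + 1, by rw [pow_succ, mul_smul, hn]⟩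
    · obtain ⟨m, rfl⟩ := Submodule.Quotient.mk_surjective _ q
      obtain ⟨c, y, hy⟩ := h m
      refine ⟨Submodule.Quotient.mk y, ?_⟩
      rw [LinearMap.lsmul_apply, ← Submodule.Quotient.mk_smul, Submodule.Quotient.eq, hT,
        mem_torsionSub_span_singleton]
      exact ⟨c, hy⟩
  let e : ModuleCat.of R (M ⧸ T) ≅ ModuleCat.of R (M ⧸ T) :=
    (LinearEquiv.ofBijective _ hbij).toModuleIso
  let F := localCohomology (Ideal.span {f}) (i + 1)
  have hinj : ∀ y : F.obj (ModuleCat.of R (M ⧸ T)), f • y = 0 → y = 0 := fun y hy => by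
    rw [← map_lsmul] at hy
    have h2 := congrArg (fun g => g y) (F.mapIso e).hom_inv_id
    simp only [Functor.mapIso_hom, Functor.mapIso_inv, ModuleCat.comp_apply] at h2
    rw [show F.map e.hom y = 0 from hy, map_zero] at h2
    exact h2.symm
  have hpow : ∀ (n : ℕ) (y : F.obj (ModuleCat.of R (M ⧸ T))), f ^ n • y = 0 → y = 0 := by
    intro n
    induction n with
    | zero => intro y hy; simpa using hy
    | succ n ih => intro y hy; exact hinj y (ih _ (by rwa [pow_succ, mul_smul] at hy))
  refine subsingleton_of_forall_eq 0 fun z => ?_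
  refine (map_mkQ_torsionSub_bijective (Ideal.span {f}) M i).1 ?_
  rw [map_zero]
  obtain ⟨k, hk⟩ := exists_pow_smul_eq_zero (Ideal.span {f}) _
    (F.map (ModuleCat.ofHom T.mkQ) z)
  exact hpow k _ (hk _ (Ideal.pow_mem_pow (Ideal.mem_span_singleton_self f) k))

/-- Acyclicity for a sum of ideals. -/
theorem subsingleton_sup [IsNoetherianRing R] {I J : Ideal R} (M : ModuleCat.{u} R)
    (hJ : ∀ j, Subsingleton ((localCohomology J (j + 1)).obj M))
    (hI : ∀ j, Subsingleton ((localCohomology I (j + 1)).obj ((DRing.gammaI J).obj M))) (i : ℕ) :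
    Subsingleton ((localCohomology (I ⊔ J) (i + 1)).obj M) := by
  let E := injectiveResolution M
  refine (subsingleton_succ_iff _ E i).mpr fun z hz hdz => ?_
  let C : ℕ → ModuleCat.{u} R := fun q => (DRing.gammaI J).obj (E.cocomplex.X q)
  let dC : ∀ q, C q ⟶ C (q + 1) := fun q => (DRing.gammaI J).map (E.cocomplex.d q (q + 1))
  let Z : ℕ → ModuleCat.{u} R := fun q => ModuleCat.of R (LinearMap.ker (dC q).hom)
  have hdd : ∀ q (x : C q), dC (q + 1) (dC q x) = 0 := fun q x => Subtype.ext (by
    change E.cocomplex.d (q + 1) (q + 1 + 1) (E.cocomplex.d q (q + 1) x.1) = 0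
    rw [← ModuleCat.comp_apply, HomologicalComplex.d_comp_d]
    rfl)
  let S : ℕ → ShortComplex (ModuleCat.{u} R) := fun q =>
    ModuleCat.shortComplexOfCompEqZero (LinearMap.ker (dC q).hom).subtype
      ((dC q).hom.codRestrict (LinearMap.ker (dC (q + 1)).hom) (hdd q))
      (LinearMap.ext fun x => Subtype.ext x.2)
  have hS : ∀ q, (S q).ShortExact := by
    intro q
    have hsurj : Function.Surjective
        ((dC q).hom.codRestrict (LinearMap.ker (dC (q + 1)).hom) (hdd q)) := by
      intro p
      obtain ⟨y, hy, hdy⟩ := (subsingleton_succ_iff J E q).mp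
        (hJ q) p.1.1 p.1.2 (congrArg Subtype.val p.2)
      exact ⟨⟨y, hy⟩, Subtype.ext (Subtype.ext hdy)⟩
    refine ModuleCat.shortComplex_shortExact _ ?_ (Submodule.injective_subtype _) hsurj
    intro x
    constructor
    · intro hx
      exact ⟨⟨x, congrArg Subtype.val hx⟩, rfl⟩
    · intro hy
      obtain ⟨y, rfl⟩ := hy
      exact Subtype.ext y.2
  let j : M ⟶ E.cocomplex.X 0 := E.ι.f 0
  have hjm : Mono j := inferInstanceAs (Mono (E.ι.f 0))
  have hjd : ∀ m, E.cocomplex.d 0 1 (j m) = 0 := fun m =>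
    congrArg (fun g => g m) E.ι_f_zero_comp_complex_d
  have hjex : ∀ x, E.cocomplex.d 0 1 x = 0 → ∃ m, j m = x :=
    (ShortComplex.moduleCat_exact_iff _).mp
      (ShortComplex.exact_of_f_is_kernel (ShortComplex.mk _ _ E.ι_f_zero_comp_complex_d)
        E.isLimitKernelFork)
  let φ : (DRing.gammaI J).obj M →ₗ[R] Z 0 :=
    LinearMap.codRestrict (LinearMap.ker (dC 0).hom) ((DRing.gammaI J).map j).hom
      fun m => Subtype.ext (hjd m.1)
  have hφ : Function.Bijective φ := by
    have hji : Function.Injective j := (ModuleCat.mono_iff_injective j).mp hjm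
    refine ⟨fun a b hab => Subtype.ext (hji (congrArg (fun x : Z 0 => x.1.1) hab)), fun x => ?_⟩
    obtain ⟨m, hm⟩ := hjex x.1.1 (congrArg Subtype.val x.2)
    obtain ⟨n, hn⟩ := x.1.2
    refine ⟨⟨m, n, fun a ha => hji ?_⟩, Subtype.ext (Subtype.ext hm)⟩
    rw [map_smul, hm, map_zero]
    exact hn a ha
  have vanish : ∀ t m, Subsingleton ((localCohomology I (m + 1)).obj (Z t)) := by
    intro t
    induction t with
    | zero =>
      intro m
      have := hI m
      exact (((localCohomology I (m + 1)).mapIso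
        (LinearEquiv.ofBijective φ hφ).toModuleIso).toLinearEquiv.symm.toEquiv).subsingleton
    | succ t ih =>
      intro m
      have h := ih (m + 1)
      refine subsingleton_of_forall_eq 0 fun x => ?_
      have hx0 : delta I (m + 1) (hS t) x = 0 := @Subsingleton.elim _ h _ _
      obtain ⟨y, hy⟩ := exists_of_delta_eq_zero I (hS t) x hx0
      have : Injective (S t).X₂ := injective_gammaI_obj J (E.cocomplex.X t)
      have := subsingleton_of_injective I (S t).X₂ m
      rw [← hy, Subsingleton.eq_zero y, map_zero]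
  rw [mem_torsionSub_sup] at hz
  let z' : Z (i + 1) := ⟨⟨z, hz.2⟩, Subtype.ext hdz⟩
  have hz'' : z' ∈ DRing.torsionSub I (Z (i + 1)) := by
    obtain ⟨n, hn⟩ := hz.1
    exact ⟨n, fun r hr => Subtype.ext (Subtype.ext (hn r hr))⟩
  have hsub : Subsingleton ((localCohomology I 1).obj (Z i)) := vanish i 0
  let w : (localCohomology I 0).obj (Z (i + 1)) := (zeroIso I).inv.app _ ⟨z', hz''⟩
  have hw : delta I 0 (hS i) w = 0 := @Subsingleton.elim _ hsub _ _
  obtain ⟨y, hy⟩ := exists_of_delta_eq_zero I (hS i) w hw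
  let y' := (zeroIso I).hom.app _ y
  refine ⟨y'.1.1, mem_torsionSub_sup.mpr ⟨?_, y'.1.2⟩, ?_⟩
  · obtain ⟨n, hn⟩ := y'.2
    exact ⟨n, fun r hr => congrArg Subtype.val (hn r hr)⟩
  · have h1 := congrArg (fun x => (zeroIso I).hom.app _ x) hy
    simp only [w] at h1
    rw [← ModuleCat.comp_apply, ← ModuleCat.comp_apply, (zeroIso I).inv_hom_id_app,
      (zeroIso I).hom.naturality] at h1
    have h2 : ((DRing.gammaI I).map (S i).g y').1 = z' := congrArg Subtype.val h1
    exact congrArg (fun x : Z (i + 1) => x.1.1) h2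

/-- The general acyclicity criterion: divisibility of the torsion submodules. -/
theorem subsingleton_span_finset_of_divisible [IsNoetherianRing R] (s : Finset R) :
    ∀ (M : Type u) [AddCommGroup M] [Module R M],
      (∀ t ⊆ s, ∀ f ∈ s, ∀ x ∈ DRing.torsionSub (Ideal.span (t : Set R)) M,
        ∃ (c : ℕ), ∃ y ∈ DRing.torsionSub (Ideal.span (t : Set R)) M, f ^ c • (f • y - x) = 0) →
      ∀ i, Subsingleton ((localCohomology (Ideal.span (s : Set R)) (i + 1)).obj
        (ModuleCat.of R M)) := by
  classical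
  induction s using Finset.induction with
  | empty =>
    intro M _ _ _ i
    rw [Finset.coe_empty, Ideal.span_empty]
    exact cdLE_bot M (i + 1) (Nat.succ_pos i)
  | insert a s ha ih =>
    intro M _ _ h i
    rw [Finset.coe_insert, Ideal.span_insert]
    refine subsingleton_sup (ModuleCat.of R M)
      (fun j => ih M (fun t ht f hf => h t (ht.trans (Finset.subset_insert a s)) f
        (Finset.mem_insert_of_mem hf)) j) (fun j => ?_) i
    refine subsingleton_span_singleton_of_divisible a (DRing.torsionSub (Ideal.span (s : Set R)) M)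
      (fun x => ?_) j
    obtain ⟨c, y, hy, hc⟩ := h s (Finset.subset_insert a s) a (Finset.mem_insert_self a s) x.1 x.2
    exact ⟨c, ⟨y, hy⟩, Subtype.ext hc⟩

end Groth.Agent.LocCohBasic
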