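import Groth.Agent.LocCohBasic.Vanish
import Groth.Agent.S5163
import Mathlib.RingTheory.Support

/-!
# Vanishing of local cohomology and of `Ext` from modules supported in `V(J)`
-/

universe u

open CategoryTheory Limits Abelian LocCoh

namespace Groth.Agent.LocCohBasic

noncomputable section

variable {A : Type u} [CommRing A] [IsNoetherianRing A] (J : Ideal A)

/-- A torsion-free module embeds in a torsion-free injective. -/
lemma exists_injective_embedding (G : ModuleCat.{u} A) (h : ∀ g : G, g ∈ DRing.torsionSub J G → g = 0) :
    ∃ (S : ShortComplex (ModuleCat.{u} A)), S.ShortExact ∧ S.X₁ = G ∧ Injective S.X₂ ∧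
      ∀ e : S.X₂, e ∈ DRing.torsionSub J S.X₂ → e = 0 := by
  let E := Injective.under G
  have hEinj : Injective E := inferInstanceAs (Injective (Injective.under G))
  have : Module.Injective A E := Module.injective_module_of_injective_object (inj := hEinj) A E
  let K := DRing.torsionSub J E
  have hK := injective_torsionSub J E
  obtain ⟨r, hr⟩ := hK.out K.subtype (Submodule.injective_subtype K) LinearMap.id
  let E' := ModuleCat.of A (E ⧸ K)
  have hE' : Injective E' := by
    let σ : E' ⟶ E := ModuleCat.ofHom (K.liftQ (LinearMap.id - K.subtype ∘ₗ r) (fun m hm => by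
      have h1 := hr ⟨m, hm⟩
      simp only [Submodule.coe_subtype, LinearMap.id_coe, id_eq] at h1
      change m - (r m : E) = 0
      rw [h1, sub_self]))
    refine Retract.injective (⟨σ, ModuleCat.ofHom K.mkQ, ?_⟩ : Retract E' E)
    refine ModuleCat.hom_ext (Submodule.linearMap_qext _ (LinearMap.ext fun m => ?_))
    change K.mkQ (m - (r m : E)) = K.mkQ m
    rw [map_sub, Submodule.mkQ_apply, Submodule.mkQ_apply,
      (Submodule.Quotient.mk_eq_zero K).mpr (r m).2, sub_zero]
  let f : G →ₗ[A] E' := K.mkQ ∘ₗ (Injective.ι G).hom
  have hf : Function.Injective f := (injective_iff_map_eq_zero f).mpr fun g hg => by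
    obtain ⟨n, hn⟩ := (Submodule.Quotient.mk_eq_zero K).mp hg
    refine h g ⟨n, fun a ha => (ModuleCat.mono_iff_injective (Injective.ι G)).mp inferInstance ?_⟩
    rw [map_smul, map_zero]
    exact hn a ha
  refine ⟨ModuleCat.shortComplexOfCompEqZero f (LinearMap.range f).mkQ (LinearMap.range_mkQ_comp f),
    ModuleCat.shortComplex_shortExact _ f.exact_map_mkQ_range hf (Submodule.mkQ_surjective _),
    rfl, hE', fun e he => eq_zero_of_mem_torsionSub_quotient J he⟩

omit [IsNoetherianRing A] in
lemma subsingleton_zero_of_torsionFree (M : ModuleCat.{u} A)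
    (h : ∀ m : M, m ∈ DRing.torsionSub J M → m = 0) :
    Subsingleton ((localCohomology J 0).obj M) := by
  have : Subsingleton (DRing.torsionSub J M) :=
    subsingleton_of_forall_eq 0 fun q => Subtype.ext (h q q.2)
  exact Equiv.subsingleton (β := DRing.torsionSub J M)
    ((((zeroIso J).app M).toLinearEquiv : _ ≃ₗ[A] DRing.torsionSub J M)).toEquiv

omit [IsNoetherianRing A] in
lemma torsionFree_of_subsingleton (M : ModuleCat.{u} A)
    (h : Subsingleton ((localCohomology J 0).obj M)) :
    ∀ m : M, m ∈ DRing.torsionSub J M → m = 0 := fun m hm =>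
  congrArg Subtype.val (@Subsingleton.elim _
    ((((zeroIso J).app M).toLinearEquiv :
      _ ≃ₗ[A] DRing.torsionSub J M).symm.toEquiv.subsingleton) ⟨m, hm⟩ 0)

/-- Maps from a module supported in `V(J)` land in the torsion. -/
lemma subsingleton_hom_of_torsionFree (F : Type u) [AddCommGroup F] [Module A F] [Module.Finite A F]
    (hsupp : Module.support A F ⊆ PrimeSpectrum.zeroLocus (J : Set A)) (M : ModuleCat.{u} A)
    (h : ∀ m : M, m ∈ DRing.torsionSub J M → m = 0) : Subsingleton (F →ₗ[A] M) := by
  have hrad : J ≤ (Module.annihilator A F).radical := by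
    rw [← PrimeSpectrum.vanishingIdeal_zeroLocus_eq_radical, ← Module.support_eq_zeroLocus]
    intro x hx
    rw [PrimeSpectrum.mem_vanishingIdeal]
    exact fun p hp => hsupp hp hx
  obtain ⟨k, hk⟩ := Ideal.exists_pow_le_of_le_radical_of_fg hrad J.fg_of_isNoetherianRing
  refine subsingleton_of_forall_eq 0 fun f => LinearMap.ext fun x => h _ ⟨k, fun a ha => ?_⟩
  rw [← map_smul, Module.mem_annihilator.mp (hk ha) x, map_zero]

theorem subsingleton_ext_of_forall (n : ℕ) : ∀ (G : ModuleCat.{u} A),
    (∀ i < n, Subsingleton ((localCohomology J i).obj G)) →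
    ∀ (F : Type u) [AddCommGroup F] [Module A F] [Module.Finite A F],
      Module.support A F ⊆ PrimeSpectrum.zeroLocus (J : Set A) →
      ∀ i < n, Subsingleton (Ext (ModuleCat.of A F) G i) := by
  induction n with
  | zero => exact fun _ _ _ _ _ _ _ i hi => absurd hi (Nat.not_lt_zero i)
  | succ n ih =>
    intro G hG F _ _ _ hF i hi
    have htf := torsionFree_of_subsingleton J G (hG 0 (Nat.succ_pos n))
    cases i with
    | zero =>
      have := subsingleton_hom_of_torsionFree J F hF G htf
      exact (Ext.addEquiv₀.toEquiv.trans ModuleCat.homEquiv).subsingleton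
    | succ i =>
      obtain ⟨S, hS, rfl, hinj, htf'⟩ := exists_injective_embedding J G htf
      have hC : ∀ j < n, Subsingleton ((localCohomology J j).obj S.X₃) := by
        intro j hj
        refine subsingleton_of_forall_eq 0 fun z => ?_
        obtain ⟨w, hw⟩ := exists_of_delta_eq_zero J hS z
          (@Subsingleton.elim _ (hG (j + 1) (by omega)) _ _)
        have : Subsingleton ((localCohomology J j).obj S.X₂) := by
          cases j with
          | zero => exact subsingleton_zero_of_torsionFree J S.X₂ htf'
          | succ j => exact subsingleton_of_injective J S.X₂ j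
        rw [← hw, Subsingleton.eq_zero w, map_zero]
      refine subsingleton_of_forall_eq 0 fun x => ?_
      obtain ⟨y, hy⟩ := Ext.covariant_sequence_exact₁ (ModuleCat.of A F) hS x
        (@Subsingleton.elim _ (Ext.subsingleton_of_injective _ S.X₂ i) _ _) rfl
      have := ih S.X₃ hC F hF i (by omega)
      rw [← hy, Subsingleton.eq_zero y, Ext.zero_comp]

theorem subsingleton_of_exists_ext (n : ℕ) : ∀ (G : ModuleCat.{u} A)
    (F : Type u) [AddCommGroup F] [Module A F] [Module.Finite A F],
      Module.support A F = PrimeSpectrum.zeroLocus (J : Set A) →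
      (∀ i < n, Subsingleton (Ext (ModuleCat.of A F) G i)) →
      ∀ i < n, Subsingleton ((localCohomology J i).obj G) := by
  induction n with
  | zero => exact fun _ _ _ _ _ _ _ i hi => absurd hi (Nat.not_lt_zero i)
  | succ n ih =>
    intro G F _ _ _ hF hG i hi
    have htf : ∀ g : G, g ∈ DRing.torsionSub J G → g = 0 := by
      have hhom : Subsingleton (F →ₗ[A] G) :=
        @Equiv.subsingleton (ModuleCat.of A F →ₗ[A] G) _
          ((Ext.addEquiv₀ (X := ModuleCat.of A F) (Y := G)).toEquiv.trans ModuleCat.homEquiv).symm
          (hG 0 (Nat.succ_pos n))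
      have hT : Subsingleton (DRing.torsionSub J G) := by
        refine S5163.result A F (DRing.torsionSub J G) ?_ ?_
        · rw [hF]
          intro p hp x hx
          by_contra hxp
          refine Module.mem_support_iff'.mp hp |>.elim fun m hm => ?_
          obtain ⟨k, hk⟩ := m.2
          exact hm (x ^ k) (fun h => hxp (p.isPrime.mem_of_pow_mem k h))
            (Subtype.ext (hk _ (Ideal.pow_mem_pow hx k)))
        · exact subsingleton_of_forall_eq 0 fun f => LinearMap.ext fun x => Subtype.ext
            (LinearMap.congr_fun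
              (@Subsingleton.elim _ hhom ((DRing.torsionSub J G).subtype ∘ₗ f) 0) x)
      exact fun g hg => congrArg Subtype.val (@Subsingleton.elim _ hT ⟨g, hg⟩ 0)
    cases i with
    | zero => exact subsingleton_zero_of_torsionFree J G htf
    | succ i =>
      obtain ⟨S, hS, rfl, hinj, htf'⟩ := exists_injective_embedding J G htf
      have hC : ∀ j < n, Subsingleton (Ext (ModuleCat.of A F) S.X₃ j) := by
        intro j hj
        refine subsingleton_of_forall_eq 0 fun z => ?_
        obtain ⟨w, hw⟩ := Ext.covariant_sequence_exact₃ (ModuleCat.of A F) hS z rfl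
          (@Subsingleton.elim _ (hG (j + 1) (by omega)) _ _)
        have : Subsingleton (Ext (ModuleCat.of A F) S.X₂ j) := by
          cases j with
          | zero =>
            have := subsingleton_hom_of_torsionFree J F hF.le S.X₂ htf'
            exact (Ext.addEquiv₀.toEquiv.trans ModuleCat.homEquiv).subsingleton
          | succ j => exact Ext.subsingleton_of_injective _ S.X₂ j
        rw [← hw, Subsingleton.eq_zero w, Ext.zero_comp]
      refine subsingleton_of_forall_eq 0 fun x => ?_
      obtain ⟨y, hy⟩ := exists_of_map_f_eq_zero J hS x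
        (@Subsingleton.elim _ (subsingleton_of_injective J S.X₂ i) _ _)
      have := ih S.X₃ F hF hC i (by omega)
      rw [← hy, Subsingleton.eq_zero y, map_zero]

end

end Groth.Agent.LocCohBasic
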